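import Cfsg.Agent.H38.SUMax.Refine

/-!
Arithmetic for reading the list off in a given dimension.
-/

set_option autoImplicit false

namespace H38.SUMax

theorem prime_mul {t m n : ℕ} (hn : n.Prime) (ht : 2 ≤ t) (h : t * m = n) : t = n ∧ m = 1 := by
  rcases (Nat.dvd_prime hn).1 (Dvd.intro m h) with h1 | h1
  · omega
  · subst h1
    exact ⟨rfl, Nat.eq_of_mul_eq_mul_left (by omega) (h.trans (mul_one _).symm)⟩

theorem no_power {n a t : ℕ} (hn : n < 16) (h9 : n ≠ 9) (ha : 3 ≤ a) (ht : 2 ≤ t) : n ≠ a ^ t := by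
  intro h
  have h1 : a ^ 2 ≤ a ^ t := Nat.pow_le_pow_right (by omega) ht
  have h2 : a < 4 := by
    by_contra hc
    have : 4 ^ 2 ≤ a ^ 2 := Nat.pow_le_pow_left (by omega) 2
    omega
  obtain rfl : a = 3 := by omega
  have h3 : t < 3 := by
    by_contra hc
    have : 3 ^ 3 ≤ 3 ^ t := Nat.pow_le_pow_right (by norm_num) (by omega)
    omega
  obtain rfl : t = 2 := by omega
  exact h9 (by simpa using h)

theorem prime_pow_prime {n r k : ℕ} (hn : n.Prime) (hr : r.Prime) (h : n = r ^ k) : r = n ∧ k = 1 := by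
  have hk : k = 1 := Nat.Prime.eq_one_of_pow (h ▸ hn : (r ^ k).Prime)
  subst hk
  exact ⟨by simpa using h.symm, rfl⟩

theorem eq_of_dvd_prime {n r : ℕ} (hn : n.Prime) (hr : r.Prime) (h : r ∣ n) : r = n :=
  (Nat.prime_dvd_prime_iff_eq hr hn).1 h

theorem divisor_pairs {n t m : ℕ} (hn : 1 ≤ n) (ht : 2 ≤ t) (h : t * m = n) :
    (t, m) ∈ (Finset.Icc 2 n ×ˢ Finset.Icc 1 n).filter (fun x => x.1 * x.2 = n) := by
  have h1 : 1 ≤ m := by
    rcases Nat.eq_zero_or_pos m with rfl | h1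
    · simp at h; omega
    · exact h1
  have h2 : t ≤ n := h ▸ Nat.le_mul_of_pos_right t h1
  have h3 : m ≤ n := h ▸ Nat.le_mul_of_pos_left m (by omega)
  simp [ht, h1, h2, h3, h]

theorem not_prime_pow {n r k : ℕ} (hr : r.Prime) (h : n = r ^ k) {a b : ℕ} (ha : a.Prime)
    (hb : b.Prime) (hab : a ≠ b) (han : a ∣ n) (hbn : b ∣ n) : False := by
  subst h
  exact hab ((((Nat.prime_dvd_prime_iff_eq ha hr).1 (ha.dvd_of_dvd_pow han))).trans
    ((Nat.prime_dvd_prime_iff_eq hb hr).1 (hb.dvd_of_dvd_pow hbn)).symm)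

end H38.SUMax
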