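import Cfsg.Agent.H38.SUMax.Members
import Cfsg.Agent.H46.ClsMain
import Cfsg.Agent.H45.HeisPower

/-!
A maximal subgroup of SU is the trace on SU of a geometric member, or lies in the residual class.
-/

set_option autoImplicit false
set_option linter.unusedSectionVars false
set_option maxHeartbeats 1000000

open Cfsg Cfsg.Geo
open scoped Matrix MatrixGroups Kronecker

namespace H38.SUMax

variable {F : Type*} [Field F] [Fintype F] {n q : ℕ}

/-- The field automorphism of order two, as a ring equivalence. -/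
noncomputable def sig (hF : Fintype.card F = q ^ 2) : F ≃+* F :=
  RingEquiv.ofBijective (H50.conjHom hF) (H50.conjHom_bijective hF)

@[simp] theorem sig_apply (hF : Fintype.card F = q ^ 2) (x : F) : sig hF x = x ^ q := rfl

theorem sig_ne (hF : Fintype.card F = q ^ 2) : sig hF ≠ RingEquiv.refl F := fun h => by
  obtain ⟨d, hd⟩ := H50.exists_trace_zero_ne_zero hF
  obtain ⟨θ, hθ⟩ := H50.exists_trace_ne_zero hF
  have h1 : ∀ x : F, x ^ q = x := fun x => RingEquiv.congr_fun h x
  have h2 : d + d = 0 := by have := hd.2; rwa [h1] at this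
  refine hθ ?_
  have : θ + θ = 0 := by
    calc θ + θ = θ / d * (d + d) := by field_simp [hd.1]
      _ = 0 := by rw [h2, mul_zero]
  rwa [h1]

/-- The standard Hermitian form is the form of the identity Gram matrix. -/
theorem frm_one (hF : Fintype.card F = q ^ 2) :
    H46.frm (sig hF) (1 : Matrix (Fin n) (Fin n) F) = hermForm n F q := by
  funext u v
  simp [formOfGram, hermForm, Matrix.one_apply]

theorem cf_one (hF : Fintype.card F = q ^ 2) : H46.CF (sig hF) (1 : Matrix (Fin n) (Fin n) F) :=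
  H46.CF.one_of_unitary (sig_ne hF) fun a => H50.pow_q_pow_q hF a

theorem isUnitaryFormPow_frm (hF : Fintype.card F = q ^ 2) {k : ℕ} {M : Matrix (Fin k) (Fin k) F}
    (hM : H46.CF (sig hF) M) : IsUnitaryFormPow q (H46.frm (sig hF) M) := by
  have h := hM.unitary (sig_ne hF)
  exact ⟨h.add_left, h.smul_left, h.herm, h.nondegenerate⟩

theorem not_dvd_of_subfield {F₁ : Subfield F} {r : ℕ} (hr : r.Prime)
    (hc : Fintype.card F = Nat.card F₁ ^ r) : F₁ ≠ ⊤ := by
  rintro rfl
  rw [Nat.card_congr (Subfield.topEquiv (K := F)).toEquiv, Nat.card_eq_fintype_card] at hc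
  exact (Nat.pow_lt_pow_right Fintype.one_lt_card hr.one_lt).ne (by rw [pow_one]; exact hc)

theorem eq_inf_max {G : Type*} [Group G] {K H M : Subgroup G} (hH : IsMaximalIn K H) (hHM : H ≤ M)
    (hKM : ¬ K ≤ M) : H = M ⊓ K := by
  rcases hH.2 (M ⊓ K) (le_inf hHM hH.1.le) inf_le_right with h | h
  · exact h.symm
  · exact absurd (h.ge.trans inf_le_left) hKM

/-- The possibilities for a maximal subgroup of SU. -/
inductive SUMaxCases (q : ℕ) (H : Subgroup (GL (Fin n) F)) : Prop
  | singular (W : Submodule F (Fin n → F)) (hW : W ≠ ⊥)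
      (hs : IsTotallySingularFor (hermForm n F q) W) (h : H = subspaceStabilizer W ⊓ suGL n F q)
  | nondeg (W : Submodule F (Fin n → F)) (hW : W ≠ ⊥) (hn : IsNondegenerateOn (hermForm n F q) W)
      (hlt : 2 * Module.finrank F W < n) (h : H = subspaceStabilizer W ⊓ suGL n F q)
  | decomp (t m : ℕ) (D : Fin t → Submodule F (Fin n → F)) (ht : 2 ≤ t) (hc : t * m = n)
      (hD : IsNondegenerateMDecomposition (hermForm n F q) m D)
      (h : H = decompositionStabilizer D ⊓ suGL n F q)
  | pair (m : ℕ) (D : Fin 2 → Submodule F (Fin n → F)) (hc : 2 * m = n) (hD : IsMDecomposition m D)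
      (hs : ∀ i, IsTotallySingularFor (hermForm n F q) (D i))
      (h : H = decompositionStabilizer D ⊓ suGL n F q)
  | field (r : ℕ) (K : Subalgebra F (Matrix (Fin n) (Fin n) F)) (hr : r.Prime) (ho : Odd r)
      (hdvd : r ∣ n) (hK : IsFieldSubalgebra r K) (hcl : IsAdjointClosedFor (hermForm n F q) K)
      (h : H = subalgebraNormalizer K ⊓ suGL n F q)
  | tensor (n₁ n₂ : ℕ) (e : Fin n ≃ Fin n₁ × Fin n₂) (P : GL (Fin n) F)
      (f₁ : (Fin n₁ → F) → (Fin n₁ → F) → F) (f₂ : (Fin n₂ → F) → (Fin n₂ → F) → F)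
      (h1 : 2 ≤ n₁) (h12 : n₁ < n₂) (hc : n₁ * n₂ = n)
      (hf₁ : IsUnitaryFormPow q f₁) (hf₂ : IsUnitaryFormPow q f₂)
      (hT : IsTensorFormStructure (fun x : F => x ^ q) (hermForm n F q) f₁ f₂ e P)
      (h : H = tensorProductSubgroup n₁ n₂ e P ⊓ suGL n F q)
  | subfield (F₁ : Subfield F) (r : ℕ) (P : GL (Fin n) F) (ζ : F) (hr : r.Prime)
      (hc : Fintype.card F = Nat.card F₁ ^ r) (hζ : ζ ≠ 0)
      (hrat : IsFormRationalStructure (hermForm n F q) F₁ ζ P)
      (h : H = subfieldSubgroup F₁ P ⊓ suGL n F q)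
  | sympType (r k p e : ℕ) (R : Subgroup (GL (Fin n) F)) (hR : IsSymplecticTypeGroup r R)
      (habs : ActsAbsolutelyIrreducibly (matrixSet R)) (hiso : R ≤ Cfsg.GU n F q)
      (hsim : R ≤ similarityGroup (hermForm n F q)) (hk : 1 ≤ k) (hn : n = r ^ k)
      (hrp : r ≠ p) (hmin : IsMinimalFieldFor (Nat.card (Subgroup.center R)) p e F) (he : Even e)
      (hqp : q = p ^ (e / 2)) (hz : Nat.card (Subgroup.center R) ∣ p ^ (e / 2) + 1)
      (hcard : (Odd r ∧ Nat.card (Subgroup.center R) = r ∧ Nat.card R = r ^ (1 + 2 * k)) ∨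
        (r = 2 ∧ Nat.card (Subgroup.center R) = 4 ∧ Nat.card R = 2 ^ (2 + 2 * k)))
      (h : H = subgroupNormalizer R ⊓ suGL n F q)
  | power (a t : ℕ) (e : Fin n ≃ (Fin t → Fin a)) (P : GL (Fin n) F)
      (f₁ : (Fin a → F) → (Fin a → F) → F) (ha : 3 ≤ a) (ht : 2 ≤ t) (hc : n = a ^ t)
      (hex : ¬(q = 2 ∧ a = 3))
      (hf₁ : IsUnitaryFormPow q f₁)
      (hT : IsTensorPowerFormStructure (fun x : F => x ^ q) (hermForm n F q) f₁ e P)
      (h : H = tensorWreathSubgroup a t e P ⊓ suGL n F q)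
  | residual (h : InUnitaryResidualClass H)

variable (hF : Fintype.card F = q ^ 2)
include hF

theorem frame_hyp (hn : 3 ≤ n) (h32 : ¬(n = 3 ∧ q = 2)) : n = 3 → 3 ≤ q := fun h => by
  have := H50.two_le hF
  by_contra hc
  exact h32 ⟨h, by omega⟩

/-- Every maximal subgroup of SU is one of the listed members or residual. -/
theorem suMax (hn : 3 ≤ n) (h32 : ¬(n = 3 ∧ q = 2)) {H : Subgroup (GL (Fin n) F)}
    (hH : IsMaximalIn (suGL n F q) H) : SUMaxCases q H := by
  classical
  have hle : H ≤ similarityGroup (H46.frm (sig hF) (1 : Matrix (Fin n) (Fin n) F)) := fun g hg =>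
    ⟨1, fun u v => by
      rw [frm_one hF, Units.val_one, one_mul]
      exact (Subgroup.mem_inf.1 (hH.1.le hg)).1 u v⟩
  have cutTv : ∀ {M : Subgroup (GL (Fin n) F)}, H ≤ M → ¬ HasSUTv q M → H = M ⊓ suGL n F q :=
    fun h1 h2 => eq_inf_max hH h1 fun h => h2 (hasSUTv_of_le hF h)
  have hcard : Fintype.card (Fin n) = n := Fintype.card_fin n
  have cutD : ∀ {t m : ℕ} {D : Fin t → Submodule F (Fin n → F)}, IsMDecomposition m D →
      (m = 1 → IsNondegenerateMDecomposition (hermForm n F q) 1 D) → H ≤ decompositionStabilizer D →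
      H = decompositionStabilizer D ⊓ suGL n F q := by
    intro t m D hD h1 h
    rcases eq_or_ne m 1 with rfl | hm
    · exact cutTv h (not_suTv_frame hF hn (frame_hyp hF hn h32) (h1 rfl))
    · exact cutTv h (not_suTv_decomposition hF (by omega) hD (by have := hD.pos; omega))
  have hdim : ∀ {t m : ℕ} {D : Fin t → Submodule F (Fin n → F)}, IsMDecomposition m D → t * m = n := by
    intro t m D hD
    have h := DirectSum.isInternal_submodule_of_iSupIndep_of_iSup_eq_top hD.indep hD.iSup_eq_top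
    let b := h.collectedBasis fun i => Module.finBasisOfFinrankEq F (D i) (hD.finrank_eq i)
    simpa using (Module.finrank_eq_card_basis b).symm
  rcases H46.clsGeometric_or_residual (cf_one (n := n) hF) (by rw [hcard]; exact hn)
      (fun h => absurd h (sig_ne hF)) H hle with h | ⟨h, -⟩ | ⟨-, h⟩
  swap
  · exact absurd h (sig_ne hF)
  swap
  · exact .residual h
  rcases h with ⟨W, hb, ht, hts, h⟩ | ⟨W, hb, ht, hnd, hlt, h⟩ | ⟨t, m, D, hD, h⟩ | ⟨m, D, hD, hts, h⟩ |
    ⟨r, K, hσ, -⟩ | ⟨r, K, hr, hK, hcl, -, hunit, hdvd, h⟩ |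
    ⟨n₁, n₂, e, P, M₁, M₂, h1, h2, hgram, hM₁, -, -, hunit, h⟩ |
    ⟨F₁, r, P, ζ, hr, hc, hζ, hrat, h⟩ |
    ⟨r, k, p, e, R, hR, habs, hiso, hk, hnr, hp, hchar, hqe, hrp, -, hunit, h⟩ |
    ⟨a, t, e, P, M₁, ha, ht, c, hc, hgram, hM₁, -, hunit, h⟩ | ⟨Q, hσ, -⟩
  · rw [frm_one hF] at hts
    exact .singular W hb hts (cutTv h (not_suTv_subspace hF (by omega) hb ht))
  · rw [frm_one hF] at hnd
    rw [hcard] at hlt
    exact .nondeg W hb hnd hlt (cutTv h (not_suTv_subspace hF (by omega) hb ht))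
  · rw [frm_one hF] at hD
    exact .decomp t m D hD.decomp.two_le (hdim hD.decomp) hD
      (cutD hD.decomp (fun h1 => h1 ▸ hD) h)
  · rw [frm_one hF] at hts
    have hm : 2 * m = n := hdim hD
    exact .pair m D hm hD hts (cutTv h (not_suTv_decomposition hF (by omega) hD (by omega)))
  · exact absurd hσ (sig_ne hF)
  · rw [frm_one hF] at hcl
    rw [hcard] at hdvd
    exact .field r K hr (hunit (sig_ne hF)) hdvd hK hcl
      (cutTv h (not_suTv_field hF hn hr.ne_one hK))
  · obtain ⟨hM₂, h12⟩ := hunit (sig_ne hF)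
    have hc : n₁ * n₂ = n := by
      have := Fintype.card_congr e
      simp only [Fintype.card_fin, Fintype.card_prod] at this
      exact this.symm
    refine .tensor n₁ n₂ e P _ _ h1 h12 hc (isUnitaryFormPow_frm hF hM₁) (isUnitaryFormPow_frm hF hM₂)
      ⟨1, one_ne_zero, fun x y => ?_⟩ (cutTv h (not_suTv_tensor hF (by omega) h1 (by omega) e P))
    rw [one_mul, ← frm_one hF, H46.frm_coords, hgram, H46.gramMatrix_frm, H46.gramMatrix_frm]
    rfl
  · rw [frm_one hF] at hrat
    exact .subfield F₁ r P ζ hr hc hζ hrat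
      (eq_inf_max hH h (not_su_le_subfield hF hn h32 (not_dvd_of_subfield hr hc) P))
  · rw [hcard] at hnr
    obtain ⟨hmin, he, hz, hcases⟩ := hunit (sig_ne hF)
    have hRGU : R ≤ Cfsg.GU n F q := fun x hx u v => by
      have := hiso x hx u v
      rwa [frm_one hF] at this
    have hsim : R ≤ similarityGroup (hermForm n F q) := fun x hx =>
      ⟨1, fun u v => by rw [Units.val_one, one_mul]; exact hRGU hx u v⟩
    have hqp : q = p ^ (e / 2) := by
      obtain ⟨m, rfl⟩ := he
      have h2 : q ^ 2 = (p ^ m) ^ 2 := by rw [← hF, hqe, ← pow_mul]; congr 1; omega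
      rw [show (m + m) / 2 = m by omega]
      exact Nat.pow_left_injective (by norm_num) h2
    exact .sympType r k p e R hR habs hRGU hsim hk hnr hrp hmin he hqp hz hcases
      (eq_inf_max hH h (not_su_le_normalizer hF hn h32 hR.prime hR.pGroup hsim habs))
  · have ha3 : 3 ≤ a := hunit (sig_ne hF)
    have hca : n = a ^ t := by
      have := Fintype.card_congr e
      simpa using this
    by_cases hex : q = 2 ∧ a = 3
    · obtain ⟨hq, rfl⟩ := hex
      have hsig : sig hF = H45.qSigma hF := RingEquiv.ext fun x => by simp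
      rw [hsig] at hM₁ hgram
      obtain ⟨R, hR, habs, hiso, hz, hcard', hmin, hHN⟩ := H45.HeisFour.exists_heis hF hq
        (hH.1.le.trans inf_le_left) e P M₁ c ht hc hM₁ hgram h
      have hsim : R ≤ similarityGroup (hermForm n F q) := fun x hx =>
        ⟨1, fun u v => by rw [Units.val_one, one_mul]; exact hiso hx u v⟩
      exact .sympType 3 t 2 2 R hR habs hiso hsim (by omega) hca (by norm_num) hmin (by decide)
        (by rw [hq]; norm_num) (by rw [hz]; norm_num) (Or.inl ⟨by decide, hz, hcard'⟩)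
        (eq_inf_max hH hHN (not_su_le_normalizer hF hn h32 hR.prime hR.pGroup hsim habs))
    refine .power a t e P _ ha3 ht hca hex (isUnitaryFormPow_frm hF hM₁) ⟨c, hc, fun x y => ?_⟩
      (cutTv h (not_suTv_wreath hF (by omega) ha3 ht e P))
    rw [← frm_one hF, H46.frm_coords, hgram, H46.gramMatrix_frm, H46.frm, H46.formOfGram_smul_gram]
    rfl
  · exact absurd hσ (sig_ne hF)

end H38.SUMax
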