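import Cfsg.Agent.H38.SUMax.Model

/-!
Sets of vectors in three dimensions over a quadratic model field, given by numeric codes.
-/

set_option autoImplicit false
set_option linter.unusedSectionVars false

open Cfsg Cfsg.Geo
open scoped Matrix MatrixGroups

namespace H38.SUMax.Coded

variable {p : ℕ} [NeZero p] {a b : ZMod p}

/-- The code of an element of a quadratic model field. -/
def code (x : QuadraticAlgebra (ZMod p) a b) : ℕ := x.re.val + p * x.im.val

/-- The element with a given code. -/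
def elt (p : ℕ) (a b : ZMod p) (k : ℕ) : QuadraticAlgebra (ZMod p) a b := ⟨(k : ZMod p), ((k / p : ℕ) : ZMod p)⟩

/-- The code of a vector. -/
def code3 (v : Fin 3 → QuadraticAlgebra (ZMod p) a b) : ℕ :=
  code (v 0) + p * p * (code (v 1) + p * p * code (v 2))

/-- The vector with a given code. -/
def vec3 (p : ℕ) (a b : ZMod p) (k : ℕ) : Fin 3 → QuadraticAlgebra (ZMod p) a b :=
  ![elt p a b (k % (p * p)), elt p a b (k / (p * p) % (p * p)), elt p a b (k / (p * p) / (p * p))]

theorem code_lt (x : QuadraticAlgebra (ZMod p) a b) : code x < p * p := by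
  have h1 := ZMod.val_lt x.re
  have h2 : p * (x.im.val + 1) ≤ p * p := Nat.mul_le_mul_left _ (ZMod.val_lt x.im)
  rw [code]
  calc x.re.val + p * x.im.val < p + p * x.im.val := by omega
    _ = p * (x.im.val + 1) := by ring
    _ ≤ p * p := h2

theorem elt_code (x : QuadraticAlgebra (ZMod p) a b) : elt p a b (code x) = x := by
  have hp : 0 < p := Nat.pos_of_ne_zero (NeZero.ne p)
  have h1 : code x / p = x.im.val := by
    rw [code, Nat.add_mul_div_left _ _ hp, Nat.div_eq_of_lt (ZMod.val_lt x.re), zero_add]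
  ext
  · simp [elt, code]
  · simp [elt, h1]

theorem vec3_code3 (v : Fin 3 → QuadraticAlgebra (ZMod p) a b) : vec3 p a b (code3 v) = v := by
  have hN : 0 < p * p := Nat.mul_pos (Nat.pos_of_ne_zero (NeZero.ne p)) (Nat.pos_of_ne_zero (NeZero.ne p))
  have h0 := code_lt (v 0)
  have h1 := code_lt (v 1)
  have e1 : code3 v % (p * p) = code (v 0) := by
    rw [code3, Nat.add_mul_mod_self_left, Nat.mod_eq_of_lt h0]
  have e2 : code3 v / (p * p) = code (v 1) + p * p * code (v 2) := by
    rw [code3, Nat.add_mul_div_left _ _ hN, Nat.div_eq_of_lt h0, zero_add]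
  funext i
  fin_cases i
  · show elt p a b _ = _
    rw [e1, elt_code]
    rfl
  · show elt p a b _ = _
    rw [e2, Nat.add_mul_mod_self_left, Nat.mod_eq_of_lt h1, elt_code]
    rfl
  · show elt p a b _ = _
    rw [e2, Nat.add_mul_div_left _ _ hN, Nat.div_eq_of_lt h1, zero_add, elt_code]
    rfl

/-- A matrix keeps the coded vectors. -/
def Keeps (L : List ℕ) (A : Matrix (Fin 3) (Fin 3) (QuadraticAlgebra (ZMod p) a b)) : Prop :=
  ∀ k ∈ L, code3 (A *ᵥ vec3 p a b k) ∈ L

instance (L : List ℕ) (A : Matrix (Fin 3) (Fin 3) (QuadraticAlgebra (ZMod p) a b)) :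
    Decidable (Keeps L A) := by
  unfold Keeps; infer_instance

variable {F : Type*} [Field F] [Fintype F] [Fact (∀ r : ZMod p, r ^ 2 ≠ a + b * r)] [Fact p.Prime]

/-- The vectors over F corresponding to the codes. -/
def codedSet (e : QuadraticAlgebra (ZMod p) a b →+* F) (L : List ℕ) : Set (Fin 3 → F) :=
  {v | ∃ c, code3 c ∈ L ∧ v = e ∘ c}

theorem mem_stab {e : QuadraticAlgebra (ZMod p) a b →+* F} {L : List ℕ}
    {A : Matrix (Fin 3) (Fin 3) (QuadraticAlgebra (ZMod p) a b)} (hA : Keeps L A) {g : GL (Fin 3) F}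
    (hg : (g : Matrix (Fin 3) (Fin 3) F) = A.map e) : g ∈ vecStab (codedSet e L) := by
  refine mem_vecStab fun v hv => ?_
  obtain ⟨c, hc, rfl⟩ := hv
  exact ⟨A *ᵥ c, by simpa only [vec3_code3] using hA _ hc, by rw [hg, map_mulVec_model]⟩

theorem not_mem_stab {e : QuadraticAlgebra (ZMod p) a b →+* F} {L : List ℕ}
    {A : Matrix (Fin 3) (Fin 3) (QuadraticAlgebra (ZMod p) a b)}
    (hA : ∃ k ∈ L, code3 (vec3 p a b k) = k ∧ code3 (A *ᵥ vec3 p a b k) ∉ L) {g : GL (Fin 3) F}
    (hg : (g : Matrix (Fin 3) (Fin 3) F) = A.map e) : g ∉ vecStab (codedSet e L) := by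
  intro h
  obtain ⟨k, hk, hk', hbad⟩ := hA
  obtain ⟨c, hc, he⟩ := (h (e ∘ vec3 p a b k)).1 ⟨_, hk'.symm ▸ hk, rfl⟩
  rw [hg, map_mulVec_model] at he
  exact hbad (e.injective.comp_left he ▸ hc)

end H38.SUMax.Coded
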