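import Cfsg.Agent.H38.SUMax.Small

/-!
Excluding small frames: a maximal subgroup fixing an orthogonal frame is not maximal when the
monomial group lies in the stabiliser of a suitable set of vectors.
-/

set_option autoImplicit false
set_option linter.unusedSectionVars false
set_option maxHeartbeats 1000000

open Cfsg Cfsg.Geo
open scoped Matrix MatrixGroups

namespace H38.SUMax

variable {F : Type*} [Field F] [Fintype F] {n q : ℕ}

/-- The invertible matrices mapping a set of vectors onto itself. -/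
def vecStab (S : Set (Fin n → F)) : Subgroup (GL (Fin n) F) where
  carrier := {g | ∀ v, v ∈ S ↔ (g : Matrix (Fin n) (Fin n) F) *ᵥ v ∈ S}
  mul_mem' {a b} ha hb v := by
    rw [hb v, ha, Matrix.mulVec_mulVec, ← Units.val_mul]
  one_mem' v := by simp
  inv_mem' {a} ha v := by
    rw [ha (((a⁻¹ : GL (Fin n) F) : Matrix (Fin n) (Fin n) F) *ᵥ v), Matrix.mulVec_mulVec,
      ← Units.val_mul, mul_inv_cancel, Units.val_one, Matrix.one_mulVec]

theorem mem_vecStab {S : Set (Fin n → F)} {g : GL (Fin n) F}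
    (h : ∀ v ∈ S, (g : Matrix (Fin n) (Fin n) F) *ᵥ v ∈ S) : g ∈ vecStab S := by
  intro v
  refine ⟨h v, fun hv => ?_⟩
  have hinj : Function.Injective fun v => (g : Matrix (Fin n) (Fin n) F) *ᵥ v :=
    Matrix.mulVec_injective_of_isUnit g.isUnit
  let φ : S → S := fun w => ⟨_, h w w.2⟩
  have hφ : Function.Bijective φ := Finite.injective_iff_bijective.1
    fun a b e => Subtype.ext (hinj (congrArg Subtype.val e))
  obtain ⟨w, hw⟩ := hφ.2 ⟨_, hv⟩
  rw [← hinj (congrArg Subtype.val hw)]
  exact w.2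

theorem suGL_conj_mem {u g : GL (Fin n) F} (hu : u ∈ Cfsg.GU n F q) (hg : g ∈ suGL n F q) :
    u * g * u⁻¹ ∈ suGL n F q := by
  obtain ⟨h1, h2⟩ := Subgroup.mem_inf.1 hg
  exact Subgroup.mem_inf.2 ⟨mul_mem (mul_mem hu h1) (inv_mem hu),
    (MonoidHom.normal_ker _).conj_mem g h2 u⟩

/-- Conjugation by a unitary matrix preserves maximality in SU. -/
theorem isMaximal_conj {u : GL (Fin n) F} (hu : u ∈ Cfsg.GU n F q) {H : Subgroup (GL (Fin n) F)}
    (hH : IsMaximalIn (suGL n F q) H) :
    IsMaximalIn (suGL n F q) (H.map (MulAut.conj u).toMonoidHom) := by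
  set φ := MulAut.conj u with hφ
  have hK : (suGL n F q).map φ.toMonoidHom = suGL n F q := by
    refine le_antisymm ?_ fun g hg => ⟨u⁻¹ * g * u, ?_, by simp [hφ, MulAut.conj_apply, mul_assoc]⟩
    · rintro _ ⟨g, hg, rfl⟩
      exact suGL_conj_mem hu hg
    · simpa using suGL_conj_mem (inv_mem hu) hg
  have hinj : Function.Injective φ.toMonoidHom := φ.injective
  refine ⟨?_, fun M h1 h2 => ?_⟩
  · exact ((Subgroup.map_lt_map_iff_of_injective hinj).2 hH.1).trans_eq hK
  · have h1' : H ≤ M.comap φ.toMonoidHom := Subgroup.map_le_iff_le_comap.1 h1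
    have h2' : M.comap φ.toMonoidHom ≤ suGL n F q := by
      intro g hg
      have h3 := h2 hg
      rw [← hK] at h3
      obtain ⟨g', hg', e⟩ := h3
      exact hinj e ▸ hg'
    have hMM : (M.comap φ.toMonoidHom).map φ.toMonoidHom = M :=
      Subgroup.map_comap_eq_self_of_surjective φ.surjective M
    rcases hH.2 _ h1' h2' with h | h
    · exact Or.inl (by rw [← hMM, h])
    · exact Or.inr (by rw [← hMM, h, hK])

variable (hF : Fintype.card F = q ^ 2)
include hF

/-- A nondegenerate decomposition into lines has an orthonormal adapted basis. -/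
theorem exists_frame_coords {D : Fin n → Submodule F (Fin n → F)}
    (hD : IsNondegenerateMDecomposition (hermForm n F q) 1 D) :
    ∃ u ∈ Cfsg.GU n F q, ∀ i, D i =
      Submodule.span F {(u : Matrix (Fin n) (Fin n) F) *ᵥ Pi.single i 1} := by
  classical
  choose b hb hbD hbspan using fun i => H50.exists_ON_basis hF (isNondeg_of_on (hD.nondegenerate i))
    (hD.decomp.finrank_eq i)
  set M : Matrix (Fin n) (Fin n) F := Matrix.of fun r i => b i 0 r with hM
  have hcol : ∀ i, M *ᵥ Pi.single i 1 = b i 0 := fun i => by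
    rw [Matrix.mulVec_single_one]; rfl
  have hON : H50.IsON q fun i => b i 0 := by
    intro i j
    by_cases h : i = j
    · subst h; simpa using hb i 0 0
    · rw [if_neg h]; exact hD.orthogonal i j h _ (hbD i 0) _ (hbD j 0)
  have hiso : H50.IsIso q M := by
    intro x y
    have hx : ∀ x : Fin n → F, M *ᵥ x = ∑ i, x i • b i 0 := fun x => by
      ext r
      simp [Matrix.mulVec, dotProduct, hM, Finset.sum_apply, mul_comm]
    rw [hx, hx, H50.h_sum_left]
    simp only [H50.h_sum_right hF, H50.h_smul_left, H50.h_smul_right hF, hON _ _, mul_ite, mul_one,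
      mul_zero, Finset.sum_ite_eq, Finset.mem_univ, if_true]
    simp [hermForm, mul_comm]
  refine ⟨Matrix.GeneralLinearGroup.mkOfDetNeZero M (H50.IsIso.det_ne_zero hF hiso), hiso,
    fun i => ?_⟩
  have hr : Set.range (b i) = {b i 0} := by
    ext x
    simp [Fin.exists_fin_one, eq_comm]
  rw [← hbspan i, hr]
  congr 2
  exact (hcol i).symm

/-- A unitary matrix permuting the coordinate lines is monomial. -/
theorem monomial_of_lines {g : GL (Fin n) F} (hg : g ∈ suGL n F q)
    (h : ∀ i, ∃ (j : Fin n) (c : F), (g : Matrix (Fin n) (Fin n) F) *ᵥ Pi.single i 1 = c • Pi.single j 1) :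
    ∃ (π : Equiv.Perm (Fin n)) (d : Fin n → F), (∀ i, d i ^ (q + 1) = 1) ∧
      ((Equiv.Perm.sign π : ℤ) : F) * ∏ i, d i = 1 ∧
      ∀ v : Fin n → F, (g : Matrix (Fin n) (Fin n) F) *ᵥ v = fun i => d i * v (π i) := by
  classical
  obtain ⟨hgu, hgd⟩ := Subgroup.mem_inf.1 hg
  choose σ c hc using h
  have hcN : ∀ i, c i ^ (q + 1) = 1 := fun i => by
    have h1 := (H50.mem_GU.1 hgu) (Pi.single i 1) (Pi.single i 1)
    rw [hc, H50.h_smul_left, H50.h_smul_right hF, H50.h_single_single hF, H50.h_single_single hF,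
      if_pos rfl, if_pos rfl, mul_one, ← pow_succ'] at h1
    exact h1
  have hc0 : ∀ i, c i ≠ 0 := fun i e => by
    have := hcN i
    rw [e, zero_pow (by omega)] at this
    exact zero_ne_one this
  have hσ : Function.Injective σ := by
    intro i j e
    by_contra hij
    have h1 := (H50.mem_GU.1 hgu) (Pi.single i 1) (Pi.single j 1)
    rw [hc, hc, H50.h_smul_left, H50.h_smul_right hF, H50.h_single_single hF, H50.h_single_single hF,
      if_pos e, if_neg hij, mul_one] at h1
    exact mul_ne_zero (hc0 i) (pow_ne_zero _ (hc0 j)) h1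
  set π : Equiv.Perm (Fin n) :=
    (Equiv.ofBijective σ (Finite.injective_iff_bijective.1 hσ)).symm with hπ
  have hmat : (g : Matrix (Fin n) (Fin n) F) =
      Matrix.diagonal (fun i => c (π i)) * π.permMatrix F := by
    ext r s
    rw [Matrix.diagonal_mul]
    have h0 := congrFun (hc s) r
    rw [Matrix.mulVec_single_one, Matrix.col_apply] at h0
    rw [h0]
    have hiff : r = σ s ↔ π r = s := by
      rw [hπ, Equiv.symm_apply_eq]; rfl
    by_cases h : r = σ s
    · rw [show π.permMatrix F r s = 1 by simp [Equiv.Perm.permMatrix, PEquiv.toMatrix_apply, hiff.1 h],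
        hiff.1 h]
      simp [h]
    · rw [show π.permMatrix F r s = 0 by
        simp [Equiv.Perm.permMatrix, PEquiv.toMatrix_apply]; exact fun e => h (hiff.2 e)]
      simp [h]
  refine ⟨π, fun i => c (π i), fun i => hcN _, ?_, fun v => ?_⟩
  · have h1 : (g : Matrix (Fin n) (Fin n) F).det = 1 := congrArg Units.val hgd
    rw [hmat, Matrix.det_mul, Matrix.det_diagonal, Matrix.det_permutation, mul_comm] at h1
    exact h1
  · rw [hmat, ← Matrix.mulVec_mulVec]
    ext i
    rw [Matrix.mulVec_diagonal, Matrix.permMatrix_mulVec]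
    rfl

/-- If the monomial matrices of SU preserve a set of vectors, some other element of SU preserves
it, and SU does not, then no maximal subgroup of SU fixes a frame. -/
theorem frame_excluded {S : Set (Fin n → F)}
    (hmon : ∀ (π : Equiv.Perm (Fin n)) (d : Fin n → F), (∀ i, d i ^ (q + 1) = 1) →
      ((Equiv.Perm.sign π : ℤ) : F) * ∏ i, d i = 1 → ∀ v ∈ S, (fun i => d i * v (π i)) ∈ S)
    {x y : GL (Fin n) F} (hx : x ∈ suGL n F q)
    (hxS : ∀ v ∈ S, (x : Matrix (Fin n) (Fin n) F) *ᵥ v ∈ S)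
    (hxm : ∃ i j k, j ≠ k ∧ (x : Matrix (Fin n) (Fin n) F) j i ≠ 0 ∧
      (x : Matrix (Fin n) (Fin n) F) k i ≠ 0)
    (hy : y ∈ suGL n F q) (hyS : ∃ v ∈ S, (y : Matrix (Fin n) (Fin n) F) *ᵥ v ∉ S)
    {D : Fin n → Submodule F (Fin n → F)} (hD : IsNondegenerateMDecomposition (hermForm n F q) 1 D)
    {H : Subgroup (GL (Fin n) F)} (hH : IsMaximalIn (suGL n F q) H)
    (hle : H ≤ decompositionStabilizer D) : False := by
  obtain ⟨u, hu, huD⟩ := exists_frame_coords hF hD
  set H' := H.map (MulAut.conj u⁻¹).toMonoidHom with hH'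
  have hmax : IsMaximalIn (suGL n F q) H' := isMaximal_conj (inv_mem hu) hH
  have hlines : ∀ g ∈ H', ∀ i, ∃ (j : Fin n) (c : F),
      (g : Matrix (Fin n) (Fin n) F) *ᵥ Pi.single i 1 = c • Pi.single j 1 := by
    rintro _ ⟨g, hg, rfl⟩ i
    obtain ⟨σ, hσ⟩ := hle hg
    have hm : (g : Matrix (Fin n) (Fin n) F) *ᵥ ((u : Matrix (Fin n) (Fin n) F) *ᵥ Pi.single i 1) ∈
        D (σ i) := by
      rw [← hσ i]
      exact ⟨_, by rw [huD]; exact Submodule.mem_span_singleton_self _, Matrix.toLin'_apply _ _⟩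
    rw [huD, Submodule.mem_span_singleton] at hm
    obtain ⟨c, hc⟩ := hm
    refine ⟨σ i, c, ?_⟩
    show ((u⁻¹ * g * u⁻¹⁻¹ : GL (Fin n) F) : Matrix (Fin n) (Fin n) F) *ᵥ _ = _
    rw [inv_inv, Units.val_mul, Units.val_mul, ← Matrix.mulVec_mulVec, ← Matrix.mulVec_mulVec, ← hc,
      Matrix.mulVec_smul, Matrix.mulVec_mulVec, ← Units.val_mul, inv_mul_cancel, Units.val_one,
      Matrix.one_mulVec]
  have hHM : H' ≤ vecStab S := fun g hg => mem_vecStab fun v hv => by
    obtain ⟨π, d, hd, hdet, hπd⟩ := monomial_of_lines hF (hmax.1.le hg) (hlines g hg)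
    rw [hπd]
    exact hmon π d hd hdet v hv
  rcases hmax.2 (vecStab S ⊓ suGL n F q) (le_inf hHM hmax.1.le) inf_le_right with h | h
  · obtain ⟨i, j, k, hjk, hj, hk⟩ := hxm
    obtain ⟨l, c, hl⟩ := hlines x (h.le ⟨mem_vecStab hxS, hx⟩) i
    rw [Matrix.mulVec_single_one] at hl
    have hj' := congrFun hl j
    have hk' := congrFun hl k
    simp only [Matrix.col_apply, Pi.smul_apply, Pi.single_apply, smul_eq_mul, mul_ite, mul_one,
      mul_zero] at hj' hk'
    rw [hj'] at hj
    rw [hk'] at hk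
    exact hjk ((ite_ne_right_iff.1 hj).1.trans (ite_ne_right_iff.1 hk).1.symm)
  · obtain ⟨v, hv, hv'⟩ := hyS
    exact hv' ((((h.ge hy).1) v).1 hv)

end H38.SUMax
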