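import Cfsg.Agent.H38.SUMax.Model

/-!
SU(3,p), p = 3 or 5: coordinates for the normaliser of a cubic field subalgebra, and the argument
that it is not maximal once it is shown to lie in a larger stabiliser.
-/

set_option autoImplicit false
set_option linter.unusedSectionVars false
set_option linter.style.haveILetI false
set_option maxHeartbeats 4000000

open Cfsg Cfsg.Geo
open scoped Matrix MatrixGroups

namespace H38.SUMax.Three

/-- The trace of the k-th power of an element of order seven, in terms of one period. -/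
def period {K : Type*} [CommRing K] (s : K) (k : ℕ) : K :=
  if k % 7 = 0 then 3 else if k % 7 = 1 ∨ k % 7 = 2 ∨ k % 7 = 4 then s else -1 - s

/-- The polynomial of degree two with the given coefficients. -/
def polyX {K : Type*} [CommRing K] (x : Matrix (Fin 3) (Fin 3) K) (c : Fin 3 → K) :
    Matrix (Fin 3) (Fin 3) K := ∑ i, c i • x ^ (i : ℕ)

variable {F : Type*} [Field F] [Fintype F] {p : ℕ}

theorem polyX_map {K : Type*} [CommRing K] (e : K →+* F) (x : Matrix (Fin 3) (Fin 3) K)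
    (c : Fin 3 → K) : (polyX x c).map e = polyX (x.map e) (e ∘ c) := by
  simp only [polyX, ← RingHom.mapMatrix_apply, map_sum]
  refine Finset.sum_congr rfl fun i _ => ?_
  rw [Function.comp_apply, ← map_pow]
  simp [Matrix.map_smul']

/-- A matrix commuting with a cyclic one is the polynomial fitting its first column. -/
theorem centralizer_poly {X Ki A : Matrix (Fin 3) (Fin 3) F}
    (hkry : (Matrix.of fun r (i : Fin 3) => (X ^ (i : ℕ)) r 0) * Ki = 1) (h : A * X = X * A) :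
    A = polyX X (Ki *ᵥ fun r => A r 0) := by
  set u : Fin 3 → F := Pi.single 0 1 with hu
  have hAu : A *ᵥ u = fun r => A r 0 := by rw [hu, Matrix.mulVec_single_one]; rfl
  set c := Ki *ᵥ fun r => A r 0 with hc
  have hcol : ∀ i : ℕ, X ^ i *ᵥ u = fun r => (X ^ i) r 0 := fun i => by
    rw [hu, Matrix.mulVec_single_one]; rfl
  have h0 : (A - polyX X c) *ᵥ u = 0 := by
    rw [Matrix.sub_mulVec, sub_eq_zero, hAu]
    conv_lhs => rw [← Matrix.one_mulVec (fun r => A r 0), ← hkry, ← Matrix.mulVec_mulVec, ← hc]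
    ext r
    simp [polyX, Matrix.sum_mulVec, Matrix.smul_mulVec, hcol, Matrix.mulVec, dotProduct, mul_comm, hu,
      Matrix.sum_apply, Pi.single_apply]
  have hcom : Commute (A - polyX X c) X :=
    (show Commute A X from h).sub_left
      (Commute.sum_left _ _ _ fun i _ => ((Commute.refl X).pow_left _).smul_left _)
  refine sub_eq_zero.1 (Matrix.ext_iff_mulVec.2 fun v => ?_)
  have hv : v = (Matrix.of fun r (i : Fin 3) => (X ^ (i : ℕ)) r 0) *ᵥ (Ki *ᵥ v) := by
    rw [Matrix.mulVec_mulVec, hkry, Matrix.one_mulVec]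
  have hsum : v = ∑ i : Fin 3, (Ki *ᵥ v) i • (X ^ (i : ℕ) *ᵥ u) := by
    conv_lhs => rw [hv]
    ext r
    simp only [Matrix.mulVec, dotProduct, Finset.sum_apply, Pi.smul_apply, smul_eq_mul, hcol,
      Matrix.of_apply]
    exact Finset.sum_congr rfl fun i _ => mul_comm _ _
  rw [Matrix.zero_mulVec, hsum, Matrix.mulVec_sum]
  refine Finset.sum_eq_zero fun i _ => ?_
  rw [Matrix.mulVec_smul, Matrix.mulVec_mulVec, (hcom.pow_right _).eq, ← Matrix.mulVec_mulVec, h0,
    Matrix.mulVec_zero, smul_zero]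

/-- Coordinates in which a cubic field subalgebra contains a given element of order seven. -/
theorem exists_coords (hp : p = 3 ∨ p = 5) (hF : Fintype.card F = p ^ 2) {K : Type*} [CommRing K]
    (e : K →+* F) {s : K} (hs : s ^ 2 + s + 2 = 0) {onMat xMat : Matrix (Fin 3) (Fin 3) K}
    (gram_on : onMatᵀ * (Matrix.of fun a b : Fin 3 => period s (a + 6 * b)) *
      onMat.map (fun z => z ^ p) = 1)
    (gram_x : (onMatᵀ * (Matrix.of fun a b : Fin 3 => period s (a + 1 + 6 * b)) *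
      onMat.map (fun z => z ^ p))ᵀ = xMat)
    {C : Subalgebra F (Matrix (Fin 3) (Fin 3) F)} (hK : IsFieldSubalgebra 3 C)
    (hcl : IsAdjointClosedFor (hermForm 3 F p) C) :
    ∃ u ∈ Cfsg.GU 3 F p, ∀ x : GL (Fin 3) F, (x : Matrix (Fin 3) (Fin 3) F) = xMat.map e →
      ∀ g ∈ subalgebraNormalizer C,
        Commute ((u⁻¹ * g * u) * x * (u⁻¹ * g * u)⁻¹) x := by
  classical
  have hfield : IsField C :=
    { exists_pair_ne := exists_pair_ne C
      mul_comm := fun x y => Subtype.ext (hK.comm _ x.2 _ y.2)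
      mul_inv_cancel := fun {x} hx => by
        obtain ⟨y, hy, hxy⟩ := hK.inv _ x.2 fun h => hx (Subtype.ext h)
        exact ⟨⟨y, hy⟩, Subtype.ext hxy⟩ }
  letI : Field C := hfield.toField
  haveI : Finite C := Subtype.finite
  haveI : Fintype C := Fintype.ofFinite C
  haveI hpp : Fact p.Prime := ⟨by rcases hp with rfl | rfl <;> norm_num⟩
  have hdeg : Module.finrank F C = 3 := hK.finrank_eq
  set ι : C →ₐ[F] Matrix (Fin 3) (Fin 3) F := C.val with hι'
  have hι : Function.Injective ι := Subtype.val_injective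
  haveI hcharF : CharP F p := by
    obtain ⟨r, f, hr, -, hc, hqp⟩ := H50.exists_prime_pow hF
    obtain rfl : r = p := (Nat.prime_dvd_prime_iff_eq hr hpp.out).1
      (hqp ▸ dvd_pow_self r (by rintro rfl; simp at hqp; exact hpp.out.ne_one hqp))
    exact hc
  haveI hcharC : CharP C p := charP_of_injective_algebraMap (algebraMap F C).injective p
  have hcardC : Fintype.card C = (p ^ 3) ^ 2 := by
    rw [Module.card_eq_pow_finrank (K := F), hF, hdeg]; ring
  have hN : ∀ x : C, x ^ ((p ^ 3) ^ 2) = x := fun x => hcardC ▸ FiniteField.pow_card x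
  have hFq : ∀ a : F, a ^ (p * p) = a := fun a => by
    rw [show p * p = Fintype.card F by rw [hF, sq]]; exact FiniteField.pow_card a
  have hcardF : Nat.card F = p ^ 2 := by rw [Nat.card_eq_fintype_card, hF]
  have hact : ∀ x y u, ι (x * y) *ᵥ u = ι x *ᵥ (ι y *ᵥ u) := fun x y u => by
    rw [map_mul, Matrix.mulVec_mulVec]
  -- the adjoint
  have hadj : ∀ x : C, ∃ y : C, ∀ u v, hermForm 3 F p (ι x *ᵥ u) v = hermForm 3 F p u (ι y *ᵥ v) := by
    intro x
    obtain ⟨y, hy, hy'⟩ := hcl x x.2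
    exact ⟨⟨y, hy⟩, hy'⟩
  choose ψ hψ using hadj
  have huniq : ∀ x y : C, (∀ u v, hermForm 3 F p (ι x *ᵥ u) v = hermForm 3 F p u (ι y *ᵥ v)) → ψ x = y := by
    intro x y h
    refine hι (Matrix.ext_iff_mulVec.2 fun v => ?_)
    rw [← sub_eq_zero]
    refine H50.eq_zero_of_h_right hF fun u => ?_
    rw [H50.h_sub_right hF, ← hψ, ← h, sub_self]
  have hψmul : ∀ x y, ψ (x * y) = ψ x * ψ y := fun x y => huniq _ _ fun u v => by
    rw [hact, hψ, hψ, ← hact, mul_comm]
  have hψinv : ∀ x, ψ (ψ x) = x := fun x => huniq _ _ fun u v => by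
    rw [H50.h_symm hF, ← hψ, ← H50.h_symm hF]
  have hψadd : ∀ x y, ψ (x + y) = ψ x + ψ y := fun x y => huniq _ _ fun u v => by
    rw [map_add, map_add, Matrix.add_mulVec, Matrix.add_mulVec, H50.h_add_left, H50.h_add_right hF, hψ, hψ]
  have hψalg : ∀ a : F, ψ (algebraMap F C a) = algebraMap F C (a ^ p) := fun a => huniq _ _ fun u v => by
    rw [AlgHom.commutes, AlgHom.commutes, Algebra.algebraMap_eq_smul_one, Algebra.algebraMap_eq_smul_one,
      Matrix.smul_mulVec, Matrix.smul_mulVec, Matrix.one_mulVec, Matrix.one_mulVec, H50.h_smul_left,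
      H50.h_smul_right hF, ← pow_mul, hFq]
  obtain ⟨g, hg⟩ := IsCyclic.exists_ofOrder_eq_natCard (α := Cˣ)
  rw [Nat.card_eq_fintype_card, Fintype.card_units, hcardC] at hg
  have hψp : ∀ x, ψ x = x ^ p ^ 3 := by
    let θ : C →ₐ[F] C :=
      { toFun := fun x => ψ (x ^ p)
        map_one' := huniq _ _ fun u v => by simp
        map_mul' := fun x y => by rw [mul_pow, hψmul]
        map_zero' := huniq _ _ fun u v => by
          simp [hpp.out.ne_zero, H50.h_zero_left, H50.h_zero_right hF]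
        map_add' := fun x y => by rw [← hψadd]; exact congrArg ψ (add_pow_char x y p)
        commutes' := fun a => by rw [← map_pow, hψalg, ← pow_mul, hFq] }
    obtain ⟨⟨i, hi⟩, h⟩ := (FiniteField.bijective_frobeniusAlgHom_pow F C).2 θ
    have hθ' : ∀ x, ψ (x ^ p) = x ^ (p ^ 2) ^ i := fun x => by
      show θ x = _
      rw [← h, AlgHom.coe_pow, FiniteField.coe_frobeniusAlgHom, pow_iterate, ← Nat.card_eq_fintype_card, hcardF]
    rw [hdeg] at hi
    have hψpow : ∀ (x : C) (k : ℕ), ψ (x ^ k) = ψ x ^ k := fun x k => by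
      induction k with
      | zero => simpa using huniq 1 1 fun u v => by simp
      | succ k ih => rw [pow_succ, hψmul, ih, pow_succ]
    have h1 : ∀ x : C, (x ^ (p ^ 2) ^ i) ^ (p ^ 2) ^ i = x ^ (p * p) := fun x => by
      rw [← hθ' (x ^ (p ^ 2) ^ i), ← hθ' x, ← hψpow, hψinv, ← pow_mul]
    have hg4 := h1 g
    rw [← pow_mul, ← Units.val_pow_eq_pow_val, ← Units.val_pow_eq_pow_val] at hg4
    have hi2 : i = 2 := by
      have h3 := pow_inj_mod.1 (Units.ext hg4)
      rw [hg] at h3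
      rcases hp with rfl | rfl <;> interval_cases i <;> first | rfl | (norm_num at h3)
    subst hi2
    intro x
    obtain ⟨r, hr⟩ : ∃ r, x = r ^ p := by
      refine ⟨x ^ (p ^ 5), ?_⟩
      rw [← pow_mul, show p ^ 5 * p = (p ^ 3) ^ 2 by ring, hN]
    rw [hr, hθ', ← pow_mul r]
    congr 1
    ring
  have hself : ∀ a b u v, hermForm 3 F p (ι a *ᵥ u) (ι b *ᵥ v) =
      hermForm 3 F p (ι (b ^ p ^ 3 * a) *ᵥ u) v := by
    intro a b u v
    rw [← hψp, hact, hψ (ψ b), hψinv]
  -- the trace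
  set tr := Algebra.trace F C with htr
  have hT : ∀ x : C, algebraMap F C (tr x) = x + x ^ p ^ 2 + x ^ (p ^ 2) ^ 2 := fun x => by
    rw [htr, FiniteField.algebraMap_trace_eq_sum_pow, hdeg, hcardF]
    simp [Finset.sum_range_succ]
  have htrψ : ∀ x, tr (x ^ p ^ 3) = tr x ^ p := fun x => by
    apply (algebraMap F C).injective
    rw [hT, (algebraMap F C).map_pow, hT, add_pow_char, add_pow_char]
    have e1 : (x ^ p ^ 3) ^ (p ^ 2) ^ 2 = x ^ p := by
      rw [← pow_mul, show p ^ 3 * (p ^ 2) ^ 2 = (p ^ 3) ^ 2 * p by ring, pow_mul, hN]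
    rw [e1]
    simp only [← pow_mul]
    ring
  -- an element of order seven with the given period
  have h7dvd : 7 ∣ (p ^ 3) ^ 2 - 1 := by rcases hp with rfl | rfl <;> norm_num
  obtain ⟨m, hm⟩ := h7dvd
  set z₀ : C := ((g ^ m : Cˣ) : C) with hz₀
  have hz₀7 : z₀ ^ 7 = 1 := by
    rw [hz₀, ← Units.val_pow_eq_pow_val, ← pow_mul, mul_comm m 7, ← hm, ← hg, pow_orderOf_eq_one,
      Units.val_one]
  have hz₀1 : z₀ ≠ 1 := fun h => by
    have h1 := orderOf_dvd_of_pow_eq_one (Units.ext h : g ^ m = 1)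
    rw [hg, hm] at h1
    have hm0 : 0 < m := by
      rcases hp with rfl | rfl <;> norm_num at hm <;> omega
    have := Nat.le_of_dvd hm0 h1
    omega
  have hgeom : ∀ w : C, w ^ 7 = 1 → w ≠ 1 → 1 + w + w ^ 2 + w ^ 3 + w ^ 4 + w ^ 5 + w ^ 6 = 0 :=
    fun w h h1 => (mul_eq_zero.1 (show (w - 1) * (1 + w + w ^ 2 + w ^ 3 + w ^ 4 + w ^ 5 + w ^ 6) = 0 by
      linear_combination h)).resolve_left (sub_ne_zero.2 h1)
  set σ := algebraMap F C (e s) with hσ
  have hσ2 : σ ^ 2 + σ + 2 = 0 := by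
    have := congrArg (algebraMap F C ∘ e) hs
    simpa only [Function.comp_apply, map_add, map_pow, map_ofNat, map_zero] using this
  obtain ⟨z, hz7, hz1, hper⟩ : ∃ z : C, z ^ 7 = 1 ∧ z ≠ 1 ∧ z + z ^ 2 + z ^ 4 = σ := by
    have hsum := hgeom z₀ hz₀7 hz₀1
    set a := z₀ + z₀ ^ 2 + z₀ ^ 4 with ha
    have hab : a * (z₀ ^ 3 + z₀ ^ 5 + z₀ ^ 6) = 2 := by
      rw [ha]; linear_combination (z₀ ^ 3 + z₀ ^ 2 + z₀ + 3) * hz₀7 + hsum
    have hquad : (a - σ) * (a - (-1 - σ)) = 0 := by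
      rw [ha] at hab ⊢
      linear_combination (z₀ + z₀ ^ 2 + z₀ ^ 4) * hsum - hab - hσ2
    rcases mul_eq_zero.1 hquad with h | h
    · exact ⟨z₀, hz₀7, hz₀1, sub_eq_zero.1 h⟩
    · refine ⟨z₀ ^ 6, by rw [← pow_mul, mul_comm, pow_mul, hz₀7, one_pow], fun h6 => hz₀1 ?_, ?_⟩
      · calc z₀ = z₀ * z₀ ^ 6 := by rw [h6, mul_one]
          _ = 1 := by rw [← pow_succ', hz₀7]
      · simp only [← pow_mul]
        rw [pow_eq_pow_mod (6 * 2) hz₀7, pow_eq_pow_mod (6 * 4) hz₀7]
        norm_num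
        rw [ha] at h
        linear_combination hsum - h
  have hsum := hgeom z hz7 hz1
  have htrz : ∀ k : ℕ, tr (z ^ k) = e (period s k) := by
    intro k
    apply (algebraMap F C).injective
    rw [hT]
    simp only [← pow_mul]
    rw [pow_eq_pow_mod k hz7, pow_eq_pow_mod (k * p ^ 2) hz7, pow_eq_pow_mod (k * (p ^ (2 * 2))) hz7,
      Nat.mul_mod k (p ^ 2), Nat.mul_mod k (p ^ (2 * 2))]
    have hper' : algebraMap F C (e s) = z + z ^ 2 + z ^ 4 := hper.symm
    have hk : k % 7 < 7 := Nat.mod_lt _ (by norm_num)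
    rw [period]
    generalize k % 7 = r at hk ⊢
    rcases hp with rfl | rfl <;> interval_cases r <;> norm_num [hper', map_ofNat] <;>
      first | ring1 | linear_combination hsum | linear_combination (norm := ring1) (0 : C) * hsum
  -- a normalised vector
  obtain ⟨u₀, -, hu₀⟩ := H50.exists_norm_one_mem hF (W := ⊤) (H50.isNondeg_top hF) (by
    intro h
    have := finrank_top F (Fin 3 → F)
    rw [h, finrank_bot, Module.finrank_fintype_fun_eq_card] at this
    simp at this)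
  obtain ⟨v, hv⟩ : ∃ v, ∀ x, hermForm 3 F p (ι x *ᵥ v) v = tr x := by
    let ℓ : C →ₗ[F] F :=
      { toFun := fun x => hermForm 3 F p (ι x *ᵥ u₀) u₀
        map_add' := fun x y => by rw [map_add, Matrix.add_mulVec, H50.h_add_left]
        map_smul' := fun a x => by rw [map_smul, Matrix.smul_mulVec, H50.h_smul_left]; rfl }
    let Tr : C →ₗ[F] Module.Dual F C := Algebra.traceForm F C
    have hTr : Function.Surjective Tr := by
      refine (LinearMap.injective_iff_surjective_of_finrank_eq_finrank Subspace.dual_finrank_eq.symm).1 ?_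
      rw [← LinearMap.ker_eq_bot, Submodule.eq_bot_iff]
      intro a ha
      exact (traceForm_nondegenerate F C).1 a fun b => LinearMap.congr_fun ha b
    obtain ⟨t, ht⟩ := hTr ℓ
    have ht' : ∀ x, hermForm 3 F p (ι x *ᵥ u₀) u₀ = tr (t * x) := fun x => (LinearMap.congr_fun ht x).symm
    have ht0 : t ≠ 0 := fun e => by
      have := ht' 1
      rw [map_one, Matrix.one_mulVec, hu₀, e, zero_mul, map_zero] at this
      exact one_ne_zero this
    have htfix : t ^ p ^ 3 = t := by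
      rw [← sub_eq_zero]
      by_contra hne
      have key : ∀ c : C, tr (t * c ^ p ^ 3) = tr (t ^ p ^ 3 * c ^ p ^ 3) := fun c => by
        rw [← mul_pow, htrψ, ← ht', ← ht', ← hψp, hψ, hψinv, H50.h_symm hF]
      refine hne ((traceForm_nondegenerate F C).1 _ fun b => ?_)
      have e1 := key (b ^ p ^ 3)
      rw [← pow_mul, ← sq, hN] at e1
      rw [Algebra.traceForm_apply, sub_mul, map_sub, e1, sub_self]
    obtain ⟨d, hd⟩ := H50.exists_norm_eq (F := C) (q := p ^ 3) hcardC (c := t⁻¹) (by rw [inv_pow, htfix])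
    refine ⟨ι d *ᵥ u₀, fun x => ?_⟩
    rw [← hact, hself, ht']
    congr 1
    rw [pow_succ] at hd
    rw [show t * (d ^ p ^ 3 * (x * d)) = x * (t * (d ^ p ^ 3 * d)) by ring, hd, mul_inv_cancel₀ ht0,
      mul_one]
  -- the change of coordinates
  set T := onMat.map e with hTdef
  set B : Matrix (Fin 3) (Fin 3) F := Matrix.of fun r (a : Fin 3) => (ι (z ^ (a : ℕ)) *ᵥ v) r with hB
  have hgram : ∀ (k : ℕ) (a b : Fin 3),
      hermForm 3 F p (ι (z ^ k) *ᵥ (ι (z ^ (a : ℕ)) *ᵥ v)) (ι (z ^ (b : ℕ)) *ᵥ v) =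
        e (period s (a + k + 6 * b)) := by
    intro k a b
    rw [← hact, hself, hv, ← htrz]
    have key : ∀ m m' : ℕ, m % 7 = m' % 7 → z ^ m = z ^ m' := fun m m' h => by
      rw [pow_eq_pow_mod m hz7, pow_eq_pow_mod m' hz7, h]
    rw [← pow_mul, ← pow_add, ← pow_add]
    refine congrArg tr (key _ _ ?_)
    rcases hp with rfl | rfl <;> norm_num <;> omega
  have hcol : ∀ i, (B * T) *ᵥ Pi.single i 1 = ∑ a : Fin 3, T a i • (ι (z ^ (a : ℕ)) *ᵥ v) := fun i => by
    ext r
    simp [Matrix.mul_apply, hB, mul_comm]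
  have hform : ∀ (k : ℕ) i j, hermForm 3 F p (ι (z ^ k) *ᵥ ((B * T) *ᵥ Pi.single i 1)) ((B * T) *ᵥ Pi.single j 1) =
      e ((onMatᵀ * (Matrix.of fun a b : Fin 3 => period s (a + k + 6 * b)) *
        onMat.map (fun z => z ^ p)) i j) := by
    intro k i j
    rw [hcol, hcol, Matrix.mulVec_sum, H50.h_sum_left]
    simp only [H50.h_sum_right hF, Matrix.mulVec_smul, H50.h_smul_left, H50.h_smul_right hF, hgram,
      Matrix.mul_apply, Finset.sum_mul, Finset.mul_sum, Matrix.transpose_apply, Matrix.of_apply,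
      Matrix.map_apply, map_sum, map_mul, hTdef]
    simp only [map_pow]
    rw [Finset.sum_comm]
    refine Finset.sum_congr rfl fun a _ => Finset.sum_congr rfl fun b _ => ?_
    ring
  have hon : ∀ i j, hermForm 3 F p ((B * T) *ᵥ Pi.single i 1) ((B * T) *ᵥ Pi.single j 1) =
      if i = j then 1 else 0 := by
    intro i j
    have := hform 0 i j
    simp only [pow_zero, map_one, Matrix.one_mulVec, add_zero] at this
    rw [this, gram_on, Matrix.one_apply]
    split <;> simp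
  have hiso : H50.IsIso p (B * T) := by
    intro x y
    have hx : ∀ x : Fin 3 → F, (B * T) *ᵥ x = ∑ i, x i • ((B * T) *ᵥ Pi.single i 1) := fun x => by
      simp only [← Matrix.mulVec_smul, ← Matrix.mulVec_sum]
      congr 1
      ext i
      simp [Pi.single_apply, Finset.sum_apply]
    rw [hx, hx, H50.h_sum_left]
    simp only [H50.h_sum_right hF, H50.h_smul_left, H50.h_smul_right hF, hon, mul_ite, mul_one,
      mul_zero, Finset.sum_ite_eq, Finset.mem_univ, if_true]
    simp [hermForm, mul_comm]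
  set u := Matrix.GeneralLinearGroup.mkOfDetNeZero (B * T) (H50.IsIso.det_ne_zero hF hiso) with hu
  have huU : u ∈ Cfsg.GU 3 F p := hiso
  have hmulinv : (u : Matrix (Fin 3) (Fin 3) F) * ((u⁻¹ : GL (Fin 3) F) : Matrix (Fin 3) (Fin 3) F) = 1 :=
    u.mul_inv
  have hconj : ((u⁻¹ : GL (Fin 3) F) : Matrix (Fin 3) (Fin 3) F) * ι z * (B * T) = xMat.map e := by
    ext i j
    set X := ((u⁻¹ : GL (Fin 3) F) : Matrix (Fin 3) (Fin 3) F) * ι z * (B * T) with hX
    have h1 : hermForm 3 F p ((u : Matrix (Fin 3) (Fin 3) F) *ᵥ (X *ᵥ Pi.single j 1))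
        ((u : Matrix (Fin 3) (Fin 3) F) *ᵥ Pi.single i 1) = X i j := by
      rw [H50.mem_GU.1 huU, H50.h_single_right hF, Matrix.mulVec_single_one, Matrix.col_apply]
    have hcancel : (u : Matrix (Fin 3) (Fin 3) F) * X = ι z * (B * T) := by
      rw [hX, Matrix.mul_assoc _ (ι z), ← Matrix.mul_assoc (u : Matrix (Fin 3) (Fin 3) F), hmulinv,
        Matrix.one_mul]
    rw [← h1, Matrix.mulVec_mulVec, hcancel, ← Matrix.mulVec_mulVec]
    have h2 := hform 1 j i
    rw [pow_one] at h2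
    show hermForm 3 F p _ ((B * T) *ᵥ Pi.single i 1) = _
    rw [h2]
    exact congrArg e (congrFun (congrFun gram_x i) j)
  refine ⟨u, huU, fun x hx g hg => ?_⟩
  have hzC : (g : Matrix (Fin 3) (Fin 3) F) * ι z * ((g⁻¹ : GL (Fin 3) F) : Matrix (Fin 3) (Fin 3) F) ∈ C :=
    (hg _).1 z.2
  have hx' : ((u * x * u⁻¹ : GL (Fin 3) F) : Matrix (Fin 3) (Fin 3) F) = ι z := by
    rw [Units.val_mul, Units.val_mul, hx, ← hconj]
    show (u : Matrix (Fin 3) (Fin 3) F) * (_ * (u : Matrix (Fin 3) (Fin 3) F)) * _ = _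
    simp only [← Matrix.mul_assoc]
    rw [hmulinv, Matrix.one_mul, Matrix.mul_assoc, hmulinv, Matrix.mul_one]
  have hcomm : Commute (g * (u * x * u⁻¹) * g⁻¹) (u * x * u⁻¹) := by
    apply Units.ext
    simp only [Units.val_mul] at hx' ⊢
    rw [hx']
    exact hK.comm _ hzC _ z.2
  have h3 := hcomm.map (MulAut.conj u⁻¹)
  have e1 : MulAut.conj u⁻¹ (g * (u * x * u⁻¹) * g⁻¹) = (u⁻¹ * g * u) * x * (u⁻¹ * g * u)⁻¹ := by
    simp only [MulAut.conj_apply]; group
  have e2 : MulAut.conj u⁻¹ (u * x * u⁻¹) = x := by simp only [MulAut.conj_apply]; group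
  rwa [e1, e2] at h3

/-- The normaliser of a cubic field is not maximal, given a larger stabiliser. -/
theorem field_excluded {q : ℕ} {S : Set (Fin 3 → F)} {u x w m : GL (Fin 3) F}
    (hu : u ∈ Cfsg.GU 3 F q) (hx : x ∈ suGL 3 F q)
    (hcent : ∀ g ∈ suGL 3 F q, g * x = x * g → g ∈ vecStab S ∧
      ((g : Matrix (Fin 3) (Fin 3) F).trace = (x : Matrix (Fin 3) (Fin 3) F).trace →
        g = x ∨ g = x ^ 2 ∨ g = x ^ 4))
    (hgal : ∀ l : ℕ, l = 2 ∨ l = 4 → ∃ t ∈ vecStab S ⊓ suGL 3 F q, t * x = x ^ l * t)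
    (hw : w ∈ vecStab S ⊓ suGL 3 F q) (hwx : ¬ Commute (w * x * w⁻¹) x)
    (hm : m ∈ suGL 3 F q) (hmS : m ∉ vecStab S)
    {H : Subgroup (GL (Fin 3) F)} (hH : IsMaximalIn (suGL 3 F q) H)
    (hnorm : ∀ g ∈ H, Commute ((u⁻¹ * g * u) * x * (u⁻¹ * g * u)⁻¹) x) : False := by
  set H' := H.map (MulAut.conj u⁻¹).toMonoidHom with hH'
  have hmax : IsMaximalIn (suGL 3 F q) H' := isMaximal_conj (inv_mem hu) hH
  have hnorm' : ∀ g ∈ H', Commute (g * x * g⁻¹) x := by
    rintro _ ⟨g, hg, rfl⟩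
    simpa [MulAut.conj_apply] using hnorm g hg
  have hHM : H' ≤ vecStab S := by
    intro g hg
    have hgs := hmax.1.le hg
    obtain ⟨-, htr⟩ := hcent _ (mul_mem (mul_mem hgs hx) (inv_mem hgs)) (hnorm' g hg).eq
    have h1 : ((g * x * g⁻¹ : GL (Fin 3) F) : Matrix (Fin 3) (Fin 3) F).trace =
        (x : Matrix (Fin 3) (Fin 3) F).trace := by
      rw [Units.val_mul, Units.val_mul, Matrix.trace_mul_comm, ← Matrix.mul_assoc, ← Units.val_mul,
        inv_mul_cancel, Units.val_one, Matrix.one_mul]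
    obtain ⟨l, hl, hgl⟩ : ∃ l : ℕ, (l = 1 ∨ l = 2 ∨ l = 4) ∧ g * x = x ^ l * g := by
      rcases htr h1 with h | h | h
      · exact ⟨1, Or.inl rfl, by rw [pow_one]; exact mul_inv_eq_iff_eq_mul.1 h⟩
      · exact ⟨2, Or.inr (Or.inl rfl), mul_inv_eq_iff_eq_mul.1 h⟩
      · exact ⟨4, Or.inr (Or.inr rfl), mul_inv_eq_iff_eq_mul.1 h⟩
    obtain ⟨t, ht, htl⟩ : ∃ t ∈ vecStab S ⊓ suGL 3 F q, t * x = x ^ l * t := by
      rcases hl with rfl | hl
      · exact ⟨1, one_mem _, by simp⟩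
      · exact hgal l hl
    have hc : (t⁻¹ * g) * x = x * (t⁻¹ * g) := by
      rw [mul_assoc, hgl, ← mul_assoc, ← mul_assoc,
        show t⁻¹ * x ^ l = x * t⁻¹ by rw [eq_mul_inv_iff_mul_eq, mul_assoc, ← htl, inv_mul_cancel_left]]
    have := (hcent _ (mul_mem (inv_mem ht.2) hgs) hc).1
    simpa using mul_mem ht.1 this
  rcases hmax.2 (vecStab S ⊓ suGL 3 F q) (le_inf hHM hmax.1.le) inf_le_right with h | h
  · exact hwx (hnorm' w (h.le hw))
  · exact hmS (h.ge hm).1

end H38.SUMax.Three
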