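import Cfsg.Agent.H38.SUMax.Coded
import Cfsg.Agent.H38.SUMax.ThreeField

/-!
SU(3,5): the normaliser of a cubic field is not maximal.
-/

set_option autoImplicit false
set_option linter.unusedSectionVars false
set_option maxHeartbeats 4000000
set_option maxRecDepth 4000

open Cfsg Cfsg.Geo
open scoped Matrix MatrixGroups

namespace H38.SUMax.FieldFive

open H38.SUMax.Coded H38.SUMax.Three

def per : Quad25 := ⟨2, 1⟩

def onMat : Matrix (Fin 3) (Fin 3) Quad25 := !![⟨0, 0⟩, ⟨0, 0⟩, ⟨1, 0⟩; ⟨0, 0⟩, ⟨2, 0⟩, ⟨3, 4⟩; ⟨2, 1⟩, ⟨2, 4⟩, ⟨0, 2⟩]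

def xMat : Matrix (Fin 3) (Fin 3) Quad25 := !![⟨4, 2⟩, ⟨1, 2⟩, ⟨0, 0⟩; ⟨2, 2⟩, ⟨3, 2⟩, ⟨2, 0⟩; ⟨2, 1⟩, ⟨2, 4⟩, ⟨0, 2⟩]

def yMat : Matrix (Fin 3) (Fin 3) Quad25 := !![⟨1, 0⟩, ⟨0, 0⟩, ⟨0, 0⟩; ⟨0, 0⟩, ⟨2, 4⟩, ⟨2, 0⟩; ⟨0, 0⟩, ⟨3, 0⟩, ⟨2, 1⟩]

def wMat : Matrix (Fin 3) (Fin 3) Quad25 := !![⟨0, 0⟩, ⟨2, 0⟩, ⟨0, 2⟩; ⟨2, 0⟩, ⟨3, 0⟩, ⟨0, 4⟩; ⟨0, 3⟩, ⟨0, 1⟩, ⟨1, 0⟩]

def moveMat : Matrix (Fin 3) (Fin 3) Quad25 := !![⟨1, 0⟩, ⟨0, 0⟩, ⟨0, 0⟩; ⟨0, 0⟩, ⟨1, 1⟩, ⟨0, 2⟩; ⟨0, 0⟩, ⟨0, 2⟩, ⟨1, 4⟩]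

def kryInv : Matrix (Fin 3) (Fin 3) Quad25 := !![⟨1, 0⟩, ⟨4, 4⟩, ⟨0, 1⟩; ⟨0, 0⟩, ⟨3, 0⟩, ⟨1, 4⟩; ⟨0, 0⟩, ⟨2, 4⟩, ⟨2, 3⟩]

def codes : List ℕ := [10651, 11276, 12576, 726, 2601, 5751, 12651, 4251, 13026, 77, 3227, 2777, 7202, 1027, 9202, 12528, 53, 10303, 2853, 12303, 1103, 654, 2529, 3179, 7604, 8229, 15129, 3354, 13629, 3729, 5655, 15105, 5130, 14505, 8655, 11855, 12531, 11531, 10306, 12306, 8006, 606, 3234, 7209, 8484, 9209, 11134, 534, 2561, 11411, 4661, 6536, 1586, 15436, 10087, 10162, 937, 8437, 1612, 13537, 7962, 11712, 10537, 6938, 7113, 1538, 963, 11588, 8563, 11063, 4238, 7488, 2589, 8364, 1564, 9739, 14114, 6089, 691, 13441, 5416, 6666, 2341, 11166, 11967, 12042, 15292, 8467, 10967, 2942, 7942, 2367, 12417, 8818, 8993, 7818, 11568, 5993, 2293, 2968, 11093, 9368, 719, 4094, 2319, 9869, 14869, 8119, 3795, 13245, 7670, 10870, 4895, 14270, 12546, 8271, 246, 10321, 11046, 12321, 3249, 11399, 174, 7224,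 9224, 7999]

theorem per_root : per ^ 2 + per + 2 = 0 := by decide +kernel

theorem gram_on : onMatᵀ * (Matrix.of fun a b : Fin 3 => period per (a + 6 * b)) *
    onMat.map (fun z => z ^ 5) = 1 := by decide +kernel

theorem gram_x : (onMatᵀ * (Matrix.of fun a b : Fin 3 => period per (a + 1 + 6 * b)) *
    onMat.map (fun z => z ^ 5))ᵀ = xMat := by decide +kernel

theorem unitary_x : (xMat.map fun z => z ^ 5)ᵀ * xMat = 1 ∧ xMat.det = 1 := by decide +kernel
theorem unitary_y : (yMat.map fun z => z ^ 5)ᵀ * yMat = 1 ∧ yMat.det = 1 := by decide +kernel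
theorem unitary_w : (wMat.map fun z => z ^ 5)ᵀ * wMat = 1 ∧ wMat.det = 1 := by decide +kernel
theorem unitary_move : (moveMat.map fun z => z ^ 5)ᵀ * moveMat = 1 ∧ moveMat.det = 1 := by
  decide +kernel

theorem keeps_y : Keeps codes yMat := by decide +kernel
theorem keeps_w : Keeps codes wMat := by decide +kernel

theorem moves : ∃ k ∈ codes, code3 (vec3 5 (2 : ZMod 5) 0 k) = k ∧
    code3 (moveMat *ᵥ vec3 5 (2 : ZMod 5) 0 k) ∉ codes := by decide +kernel

theorem kry_mul :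
    (Matrix.of fun r (i : Fin 3) => (xMat ^ (i : ℕ)) r 0) * kryInv = 1 := by decide +kernel

theorem y_conj : yMat * xMat = xMat ^ 4 * yMat ∧ yMat * yMat * xMat = xMat ^ 2 * (yMat * yMat) := by
  decide +kernel

theorem w_not_normal : wMat * xMat * wMat * xMat ≠ xMat * (wMat * xMat * wMat) ∧ wMat * wMat = 1 := by
  decide +kernel

theorem centralizer : ∀ a b c : Quad25, a * a ^ 5 + b * b ^ 5 + c * c ^ 5 = 1 →
    ((polyX xMat (kryInv *ᵥ ![a, b, c])).map fun z => z ^ 5)ᵀ * polyX xMat (kryInv *ᵥ ![a, b, c]) = 1 →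
    (polyX xMat (kryInv *ᵥ ![a, b, c])).det = 1 →
    Keeps codes (polyX xMat (kryInv *ᵥ ![a, b, c])) ∧
      ((polyX xMat (kryInv *ᵥ ![a, b, c])).trace = xMat.trace →
        polyX xMat (kryInv *ᵥ ![a, b, c]) = xMat ∨ polyX xMat (kryInv *ᵥ ![a, b, c]) = xMat ^ 2 ∨
          polyX xMat (kryInv *ᵥ ![a, b, c]) = xMat ^ 4) := by
  decide +kernel

variable {F : Type*} [Field F] [Fintype F] {q : ℕ}

/-- No maximal subgroup of SU(3,5) normalises a cubic field subalgebra. -/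
theorem no_field (hF : Fintype.card F = q ^ 2) (hq : q = 5)
    {C : Subalgebra F (Matrix (Fin 3) (Fin 3) F)} (hC : IsFieldSubalgebra 3 C)
    (hcl : IsAdjointClosedFor (hermForm 3 F q) C) {H : Subgroup (GL (Fin 3) F)}
    (hH : IsMaximalIn (suGL 3 F q) H) (hle : H ≤ subalgebraNormalizer C) : False := by
  classical
  subst hq
  obtain ⟨e'⟩ := exists_model Quad25 (F := F) (by rw [hF]; decide)
  set e := e'.toRingHom with he
  obtain ⟨u, hu, huC⟩ := exists_coords (Or.inr rfl) hF e per_root gram_on gram_x hC hcl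
  obtain ⟨x, hx, hxv⟩ := exists_of_model hF e unitary_x.1 unitary_x.2
  obtain ⟨y, hy, hyv⟩ := exists_of_model hF e unitary_y.1 unitary_y.2
  obtain ⟨w, hw, hwv⟩ := exists_of_model hF e unitary_w.1 unitary_w.2
  obtain ⟨m, hm, hmv⟩ := exists_of_model hF e unitary_move.1 unitary_move.2
  have hinj : Function.Injective (e.mapMatrix (m := Fin 3)) := Matrix.map_injective e.injective
  have hxm : (x : Matrix (Fin 3) (Fin 3) F) = e.mapMatrix xMat := hxv
  have hym : (y : Matrix (Fin 3) (Fin 3) F) = e.mapMatrix yMat := hyv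
  have hwm : (w : Matrix (Fin 3) (Fin 3) F) = e.mapMatrix wMat := hwv
  refine field_excluded (S := codedSet e codes) hu hx (fun g hg hc => ?_) ?_
    ⟨mem_stab keeps_w hwv, hw⟩ ?_ hm (not_mem_stab moves hmv) hH (fun g hg => huC x hxv g (hle hg))
  · have hkry : (Matrix.of fun r (i : Fin 3) => ((xMat.map e) ^ (i : ℕ)) r 0) * kryInv.map e = 1 := by
      have h1 := congrArg e.mapMatrix kry_mul
      rw [map_mul, map_one] at h1
      have h2 : (Matrix.of fun r (i : Fin 3) => ((xMat.map e) ^ (i : ℕ)) r 0) =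
          e.mapMatrix (Matrix.of fun r (i : Fin 3) => (xMat ^ (i : ℕ)) r 0) := by
        ext r i
        show ((e.mapMatrix xMat) ^ (i : ℕ)) r 0 = _
        rw [← map_pow]
        rfl
      rw [h2]
      exact h1
    have hcm := congrArg Units.val hc
    rw [Units.val_mul, Units.val_mul, hxv] at hcm
    have hpoly := centralizer_poly hkry hcm
    obtain ⟨d, hd⟩ : ∃ d : Fin 3 → Quad25, (fun r => (g : Matrix (Fin 3) (Fin 3) F) r 0) = e ∘ d :=
      ⟨fun r => e'.symm ((g : Matrix (Fin 3) (Fin 3) F) r 0), funext fun r => by simp [he]⟩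
    set B := polyX xMat (kryInv *ᵥ d) with hB
    have hgB : (g : Matrix (Fin 3) (Fin 3) F) = e.mapMatrix B := by
      rw [hpoly, hd, map_mulVec_model, ← polyX_map]
      rfl
    obtain ⟨hgu, hgd⟩ := Subgroup.mem_inf.1 hg
    have hB1 : (B.map fun z => z ^ 5)ᵀ * B = 1 := by
      apply hinj
      have h1 := (H51.mem_GU_iff hF g).1 hgu
      rw [hgB, H51.adj_def] at h1
      rw [map_mul, map_one]
      refine Eq.trans ?_ h1
      congr 1
      ext i j
      simp [RingHom.mapMatrix_apply]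
    have hB2 : B.det = 1 := by
      apply e.injective
      have h7 : Matrix.GeneralLinearGroup.det g = 1 := hgd
      rw [RingHom.map_det, map_one, ← hgB, ← Matrix.GeneralLinearGroup.val_det_apply, h7, Units.val_one]
    have hnorm : d 0 * d 0 ^ 5 + d 1 * d 1 ^ 5 + d 2 * d 2 ^ 5 = 1 := by
      apply e.injective
      have h1 := H50.mem_GU.1 hgu (Pi.single 0 1) (Pi.single 0 1)
      rw [Matrix.mulVec_single_one, H50.h_single_single hF, if_pos rfl] at h1
      have h2 : ∀ r, (g : Matrix (Fin 3) (Fin 3) F) r 0 = e (d r) := fun r => congrFun hd r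
      simpa [hermForm, Fin.sum_univ_three, Matrix.col_apply, h2] using h1
    have hd3 : d = ![d 0, d 1, d 2] := funext fun i => by fin_cases i <;> rfl
    rw [hB, hd3] at hB1 hB2
    obtain ⟨hk, htr⟩ := centralizer _ _ _ hnorm hB1 hB2
    rw [← hd3, ← hB] at hk htr
    refine ⟨mem_stab hk hgB, fun ht => ?_⟩
    have htr' : ∀ A : Matrix (Fin 3) (Fin 3) Quad25, (e.mapMatrix A).trace = e A.trace :=
      fun A => by simp [Matrix.trace]
    rw [hgB, hxm, htr', htr'] at ht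
    rcases htr (e.injective ht) with h | h | h
    · exact Or.inl (Units.ext (by rw [hgB, hxm, h]))
    · exact Or.inr (Or.inl (Units.ext (by rw [hgB, Units.val_pow_eq_pow_val, hxm, h, map_pow])))
    · exact Or.inr (Or.inr (Units.ext (by rw [hgB, Units.val_pow_eq_pow_val, hxm, h, map_pow])))
  · have hyS : y ∈ vecStab (codedSet e codes) ⊓ suGL 3 F 5 := ⟨mem_stab keeps_y hyv, hy⟩
    have h1 : y * x = x ^ 4 * y := Units.ext (by
      rw [Units.val_mul, Units.val_mul, Units.val_pow_eq_pow_val, hxm, hym, ← map_pow, ← map_mul, ← map_mul,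
        y_conj.1])
    have h2 : y * y * x = x ^ 2 * (y * y) := Units.ext (by
      simp only [Units.val_mul, Units.val_pow_eq_pow_val, hxm, hym, ← map_pow, ← map_mul, y_conj.2])
    rintro l (rfl | rfl)
    · exact ⟨y * y, mul_mem hyS hyS, h2⟩
    · exact ⟨y, hyS, h1⟩
  · intro h
    have hww : w * w = 1 := Units.ext (by
      rw [Units.val_mul, hwm, ← map_mul, w_not_normal.2, map_one, Units.val_one])
    rw [show w⁻¹ = w from inv_eq_of_mul_eq_one_left hww] at h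
    apply w_not_normal.1
    apply hinj
    have h1 := congrArg Units.val h.eq
    simp only [Units.val_mul, hxm, hwm] at h1
    simp only [map_mul]
    exact h1

end H38.SUMax.FieldFive
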