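import Cfsg.Agent.H38.SUMax.Small
import Cfsg.Agent.H46.ClsFieldAux

/-!
For q = 2 the normaliser in SU(6,2) of an adjoint-closed cubic subfield of the matrix algebra
preserves a symplectic subfield structure, up to scalars.
-/

set_option autoImplicit false
set_option linter.unusedSectionVars false
set_option maxHeartbeats 4000000

open Cfsg Cfsg.Geo
open scoped Matrix MatrixGroups

namespace H38.SUMax

variable {F : Type*} [Field F] [Fintype F]

/-- The construction, with the field as an abstract extension. -/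
theorem subfield_of_cubic (hF : Fintype.card F = 2 ^ 2) {E : Type*} [Field E] [Algebra F E] [Finite E]
    (hdeg : Module.finrank F E = 3) (ι : E →ₐ[F] Matrix (Fin 6) (Fin 6) F)
    (hadj : ∀ x : E, ∃ y : E, ∀ u v, hermForm 6 F 2 (ι x *ᵥ u) v = hermForm 6 F 2 u (ι y *ᵥ v))
    {H : Subgroup (GL (Fin 6) F)} (hSU : H ≤ suGL 6 F 2)
    (hnorm : ∀ g ∈ H, ∀ x : E, ∃ y : E,
      (g : Matrix (Fin 6) (Fin 6) F) * ι x = ι y * (g : Matrix (Fin 6) (Fin 6) F)) :
    ∃ (F₁ : Subfield F) (P : GL (Fin 6) F) (ζ : F), Fintype.card F = Nat.card F₁ ^ 2 ∧ ζ ≠ 0 ∧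
      ζ + ζ ^ 2 = 0 ∧ IsFormRationalStructure (hermForm 6 F 2) F₁ ζ P ∧
      (∀ u : Fin 6 → F, (∀ i, u i ∈ F₁) → hermForm 6 F 2 ((P : Matrix (Fin 6) (Fin 6) F) *ᵥ u)
        ((P : Matrix (Fin 6) (Fin 6) F) *ᵥ u) = 0) ∧
      H ≤ subfieldSubgroup F₁ P := by
  classical
  haveI : FiniteDimensional F E := Module.finite_of_finrank_eq_succ hdeg
  haveI : Fintype E := Fintype.ofFinite E
  have hι : Function.Injective ι := ι.toRingHom.injective
  have hcardF : Nat.card F = 4 := by rw [Nat.card_eq_fintype_card, hF]; rfl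
  have hcardE : Fintype.card E = 64 := by
    rw [Module.card_eq_pow_finrank (K := F), hF, hdeg]; rfl
  have h64 : ∀ x : E, x ^ 64 = x := fun x => hcardE ▸ FiniteField.pow_card x
  have hF4 : ∀ a : F, a ^ 4 = a := fun a => by
    rw [show (4 : ℕ) = Fintype.card F by rw [hF]; rfl]; exact FiniteField.pow_card a
  haveI hcharF : CharP F 2 := by
    obtain ⟨p, f, hp, -, hc, hqp⟩ := H50.exists_prime_pow hF
    obtain rfl : p = 2 := (Nat.prime_dvd_prime_iff_eq hp Nat.prime_two).1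
      (hqp ▸ dvd_pow_self p (by rintro rfl; simp at hqp))
    exact hc
  haveI hcharE : CharP E 2 := charP_of_injective_algebraMap (algebraMap F E).injective 2
  have h2F : (2 : F) = 0 := CharTwo.two_eq_zero
  have h2E : (2 : E) = 0 := CharTwo.two_eq_zero
  have padd : ∀ (k : ℕ) (x y : E), (x + y) ^ (2 ^ k) = x ^ (2 ^ k) + y ^ (2 ^ k) := fun k x y =>
    add_pow_char_pow x y 2 k
  have padd8 : ∀ x y : E, (x + y) ^ 8 = x ^ 8 + y ^ 8 := padd 3
  have hmap8 : ∀ a : F, algebraMap F E a ^ 8 = algebraMap F E (a ^ 2) := fun a => by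
    rw [← map_pow]
    exact congrArg _ (by rw [show a ^ 8 = (a ^ 4) ^ 2 by ring, hF4])
  -- every endomorphism over F is a power of Frobenius
  have hfrob : ∀ θ : E →ₐ[F] E, ∃ i < 3, ∀ x, θ x = x ^ 4 ^ i := by
    intro θ
    obtain ⟨⟨i, hi⟩, h⟩ := (FiniteField.bijective_frobeniusAlgHom_pow F E).2 θ
    refine ⟨i, hdeg ▸ hi, fun x => ?_⟩
    rw [← h, AlgHom.coe_pow, FiniteField.coe_frobeniusAlgHom, pow_iterate, ← Nat.card_eq_fintype_card, hcardF]
  have hone : ∀ u, ι 1 *ᵥ u = u := fun u => by rw [map_one, Matrix.one_mulVec]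
  have hactmul : ∀ x y u, ι (x * y) *ᵥ u = ι x *ᵥ (ι y *ᵥ u) := fun x y u => by
    rw [map_mul, Matrix.mulVec_mulVec]
  -- the adjoint is the eighth power
  choose ψ hψ using hadj
  have huniq : ∀ x y : E, (∀ u v, hermForm 6 F 2 (ι x *ᵥ u) v = hermForm 6 F 2 u (ι y *ᵥ v)) → ψ x = y := by
    intro x y h
    refine hι (Matrix.ext_iff_mulVec.2 fun v => ?_)
    rw [← sub_eq_zero]
    refine H50.eq_zero_of_h_right hF fun u => ?_
    rw [H50.h_sub_right hF, ← hψ, ← h, sub_self]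
  have hψadd : ∀ x y, ψ (x + y) = ψ x + ψ y := fun x y => huniq _ _ fun u v => by
    rw [map_add, map_add, Matrix.add_mulVec, Matrix.add_mulVec, H50.h_add_left, H50.h_add_right hF, hψ, hψ]
  have hψmul : ∀ x y, ψ (x * y) = ψ x * ψ y := fun x y => huniq _ _ fun u v => by
    rw [hactmul, hψ, hψ, ← hactmul, mul_comm]
  have hψinv : ∀ x, ψ (ψ x) = x := fun x => huniq _ _ fun u v => by
    rw [H50.h_symm hF, ← hψ, ← H50.h_symm hF]
  have hψalg : ∀ a : F, ψ (algebraMap F E a) = algebraMap F E (a ^ 2) := fun a => huniq _ _ fun u v => by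
    rw [AlgHom.commutes, AlgHom.commutes, Algebra.algebraMap_eq_smul_one, Algebra.algebraMap_eq_smul_one,
      Matrix.smul_mulVec, Matrix.smul_mulVec, Matrix.one_mulVec, Matrix.one_mulVec, H50.h_smul_left,
      H50.h_smul_right hF, ← pow_mul, hF4]
  have hψ8 : ∀ x, ψ x = x ^ 8 := by
    let θ : E →ₐ[F] E :=
      { toFun := fun x => ψ (x ^ 2)
        map_one' := huniq _ _ fun u v => by simp
        map_mul' := fun x y => by rw [mul_pow, hψmul]
        map_zero' := huniq _ _ fun u v => by simp [H50.h_zero_left, H50.h_zero_right hF]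
        map_add' := fun x y => by rw [← hψadd]; exact congrArg ψ (padd 1 x y)
        commutes' := fun a => by rw [← map_pow, hψalg, ← pow_mul, hF4] }
    obtain ⟨i, hi, hθ⟩ := hfrob θ
    have hθ' : ∀ x, ψ (x ^ 2) = x ^ 4 ^ i := hθ
    have hψpow : ∀ x, ψ (x ^ 2) = ψ x ^ 2 := fun x => by rw [sq, hψmul, sq]
    have h1 : ∀ x, (x ^ 4 ^ i) ^ 4 ^ i = x ^ 4 := fun x => by
      rw [← hθ' (x ^ 4 ^ i), ← hθ' x, ← hψpow, hψinv]
      rw [show (x ^ 4 : E) = (x ^ 2) ^ 2 by ring]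
    obtain ⟨z, hz⟩ : ∃ z : Eˣ, orderOf z = 63 := by
      obtain ⟨z, hz⟩ := IsCyclic.exists_ofOrder_eq_natCard (α := Eˣ)
      exact ⟨z, by rw [hz, Nat.card_eq_fintype_card, Fintype.card_units, hcardE]⟩
    have hz4 := h1 z
    rw [← pow_mul, ← Units.val_pow_eq_pow_val, ← Units.val_pow_eq_pow_val] at hz4
    have hi2 : i = 2 := by
      have h3 := pow_inj_mod.1 (Units.ext hz4)
      rw [hz] at h3
      interval_cases i <;> first | rfl | (norm_num at h3)
    subst hi2
    intro x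
    have hx : x = (x ^ 32) ^ 2 := by rw [← pow_mul]; exact (h64 x).symm
    conv_lhs => rw [hx, hθ']
    rw [← pow_mul, show 32 * 4 ^ 2 = 64 * 8 by norm_num, pow_mul, h64]
  have hself : ∀ a b u v, hermForm 6 F 2 (ι a *ᵥ u) (ι b *ᵥ v) = hermForm 6 F 2 (ι (b ^ 8 * a) *ᵥ u) v := by
    intro a b u v
    rw [← hψ8, hactmul, hψ (ψ b), hψinv]
  -- the trace
  set tr := Algebra.trace F E with htr
  have hT : ∀ x : E, algebraMap F E (tr x) = x + x ^ 4 + x ^ 16 := fun x => by
    rw [htr, FiniteField.algebraMap_trace_eq_sum_pow, hdeg, hcardF]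
    simp [Finset.sum_range_succ]
  have htr8 : ∀ x, tr (x ^ 8) = tr x ^ 2 := fun x => by
    apply (algebraMap F E).injective
    rw [hT, (algebraMap F E).map_pow, hT, (show ∀ x y : E, (x + y) ^ 2 = x ^ 2 + y ^ 2 from padd 1),
      (show ∀ x y : E, (x + y) ^ 2 = x ^ 2 + y ^ 2 from padd 1)]
    have : (x ^ 8) ^ 16 = x ^ 2 := by rw [← pow_mul, show 8 * 16 = 64 * 2 by norm_num, pow_mul, h64]
    rw [this]; ring
  have htrne : ∀ a : E, a ≠ 0 → ∃ b, tr (a * b) ≠ 0 := fun a ha => by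
    by_contra hcon
    push Not at hcon
    exact ha ((traceForm_nondegenerate F E).1 a hcon)
  -- normalised anisotropic vectors
  have hnormal : ∀ v, hermForm 6 F 2 v v ≠ 0 → ∃ d : E,
      ∀ x, hermForm 6 F 2 (ι x *ᵥ (ι d *ᵥ v)) (ι d *ᵥ v) = tr x := by
    intro v hv
    let ℓ : E →ₗ[F] F :=
      { toFun := fun x => hermForm 6 F 2 (ι x *ᵥ v) v
        map_add' := fun x y => by rw [map_add, Matrix.add_mulVec, H50.h_add_left]
        map_smul' := fun a x => by rw [map_smul, Matrix.smul_mulVec, H50.h_smul_left]; rfl }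
    let Tr : E →ₗ[F] Module.Dual F E := Algebra.traceForm F E
    have hTr : Function.Surjective Tr := by
      refine (LinearMap.injective_iff_surjective_of_finrank_eq_finrank Subspace.dual_finrank_eq.symm).1 ?_
      rw [← LinearMap.ker_eq_bot, Submodule.eq_bot_iff]
      intro a ha
      exact (traceForm_nondegenerate F E).1 a fun b => LinearMap.congr_fun ha b
    obtain ⟨t, ht⟩ := hTr ℓ
    have ht' : ∀ x, hermForm 6 F 2 (ι x *ᵥ v) v = tr (t * x) := fun x => (LinearMap.congr_fun ht x).symm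
    have ht0 : t ≠ 0 := fun e => hv (by have := ht' 1; rwa [hone, e, zero_mul, map_zero] at this)
    have ht8 : t ^ 8 = t := by
      rw [← sub_eq_zero]
      by_contra hne
      obtain ⟨b, hb⟩ := htrne _ hne
      apply hb
      have key : ∀ c : E, tr (t * c ^ 8) = tr (t ^ 8 * c ^ 8) := fun c => by
        rw [← mul_pow, htr8, ← ht', ← ht', ← hψ8, hψ, hψinv, H50.h_symm hF]
      have e1 := key (b ^ 8)
      rw [← pow_mul, h64] at e1
      rw [sub_mul, map_sub, e1, sub_self]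
    refine ⟨t⁻¹ ^ 32, fun x => ?_⟩
    rw [← hactmul, hself, ht']
    congr 1
    have h5 : (t⁻¹ ^ 32) ^ 8 = t⁻¹ ^ 32 := by rw [← pow_mul, mul_comm, pow_mul, inv_pow, ht8]
    rw [h5, show t * (t⁻¹ ^ 32 * (x * t⁻¹ ^ 32)) = x * (t * t⁻¹ ^ 64) by ring, h64,
      mul_inv_cancel₀ ht0, mul_one]
  obtain ⟨u₀, -, hu₀⟩ := H50.exists_norm_one_mem hF (W := ⊤) (H50.isNondeg_top hF) (by
    intro h
    have := finrank_top F (Fin 6 → F)
    rw [h, finrank_bot, Module.finrank_fintype_fun_eq_card] at this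
    simp at this)
  obtain ⟨d₁, hd₁⟩ := hnormal u₀ (by rw [hu₀]; exact one_ne_zero)
  obtain ⟨v, hd₁⟩ : ∃ v, ∀ x, hermForm 6 F 2 (ι x *ᵥ v) v = tr x := ⟨_, hd₁⟩
  set W : Submodule F (Fin 6 → F) := H50.perp 2 (Set.range fun x : E => ι x *ᵥ v) with hW
  have hWmem : ∀ u, u ∈ W ↔ ∀ x : E, hermForm 6 F 2 u (ι x *ᵥ v) = 0 := fun u => H50.mem_perp_range
  have hproj : ∀ u, ∃ a : E, u - ι a *ᵥ v ∈ W := by
    intro u
    let ℓ : E →ₗ[F] F :=
      { toFun := fun x => hermForm 6 F 2 u (ι (x ^ 8) *ᵥ v)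
        map_add' := fun x y => by rw [padd8, map_add, Matrix.add_mulVec, H50.h_add_right hF]
        map_smul' := fun a x => by
          rw [Algebra.smul_def, mul_pow, hmap8, ← Algebra.smul_def, map_smul, Matrix.smul_mulVec,
            H50.h_smul_right hF, ← pow_mul, hF4]
          rfl }
    let Tr : E →ₗ[F] Module.Dual F E := Algebra.traceForm F E
    have hTr : Function.Surjective Tr := by
      refine (LinearMap.injective_iff_surjective_of_finrank_eq_finrank Subspace.dual_finrank_eq.symm).1 ?_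
      rw [← LinearMap.ker_eq_bot, Submodule.eq_bot_iff]
      intro a ha
      exact (traceForm_nondegenerate F E).1 a fun b => LinearMap.congr_fun ha b
    obtain ⟨a, ha⟩ := hTr ℓ
    refine ⟨a, (hWmem _).2 fun x => ?_⟩
    have e1 : hermForm 6 F 2 u (ι ((x ^ 8) ^ 8) *ᵥ v) = tr (a * x ^ 8) := (LinearMap.congr_fun ha (x ^ 8)).symm
    rw [← pow_mul, h64] at e1
    rw [H50.h_sub_left, e1, hself, hd₁, mul_comm, sub_self]
  have hWnd : H50.IsNondeg 2 W := by
    intro u hu h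
    refine H50.eq_zero_of_h_left hF fun z => ?_
    obtain ⟨a, ha⟩ := hproj z
    have := h _ ha
    rwa [H50.h_sub_right hF, (hWmem u).1 hu a, sub_zero] at this
  have hWne : W ≠ ⊥ := by
    intro h
    let L : E →ₗ[F] (Fin 6 → F) :=
      { toFun := fun x => ι x *ᵥ v
        map_add' := fun x y => by rw [map_add, Matrix.add_mulVec]
        map_smul' := fun a x => by rw [map_smul, Matrix.smul_mulVec]; rfl }
    have hsur : Function.Surjective L := fun u => by
      obtain ⟨a, ha⟩ := hproj u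
      rw [h, Submodule.mem_bot, sub_eq_zero] at ha
      exact ⟨a, ha.symm⟩
    have := LinearMap.finrank_le_finrank_of_surjective hsur
    rw [hdeg, Module.finrank_fintype_fun_eq_card] at this
    simp at this
  obtain ⟨u₁, hu₁W, hu₁⟩ := H50.exists_norm_one_mem hF hWnd hWne
  obtain ⟨d₂, hd₂⟩ := hnormal u₁ (by rw [hu₁]; exact one_ne_zero)
  obtain ⟨w, hwv, hd₂⟩ : ∃ w, (∀ a b : E, hermForm 6 F 2 (ι a *ᵥ w) (ι b *ᵥ v) = 0) ∧
      ∀ x, hermForm 6 F 2 (ι x *ᵥ w) w = tr x := by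
    refine ⟨_, fun a b => ?_, hd₂⟩
    rw [← hactmul, hψ, ← hactmul]
    exact (hWmem u₁).1 hu₁W _
  -- coordinates over the cubic extension
  let Φ : (E × E) →ₗ[F] (Fin 6 → F) :=
    { toFun := fun p => ι p.1 *ᵥ v + ι p.2 *ᵥ w
      map_add' := fun p p' => by
        simp only [Prod.fst_add, Prod.snd_add, map_add, Matrix.add_mulVec]; abel
      map_smul' := fun a p => by
        simp only [Prod.smul_fst, Prod.smul_snd, map_smul, Matrix.smul_mulVec, RingHom.id_apply, smul_add] }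
  have hΦ : ∀ a b, Φ (a, b) = ι a *ᵥ v + ι b *ᵥ w := fun _ _ => rfl
  have hform : ∀ a b a' b', hermForm 6 F 2 (Φ (a, b)) (Φ (a', b')) = tr (a' ^ 8 * a + b' ^ 8 * b) := by
    intro a b a' b'
    have hvw : hermForm 6 F 2 (ι a *ᵥ v) (ι b' *ᵥ w) = 0 := by
      rw [H50.h_symm hF, hwv, zero_pow two_ne_zero]
    rw [hΦ, hΦ, H50.h_add_left, H50.h_add_right hF, H50.h_add_right hF, hwv, hvw, hself, hself, hd₁, hd₂,
      map_add]
    ring
  have hext : ∀ {N : E}, (∀ a, tr (a * N) = 0) → N = 0 := fun {N} h => by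
    by_contra hne
    obtain ⟨b, hb⟩ := htrne N hne
    exact hb (by rw [mul_comm]; exact h b)
  have h8inj : ∀ {x : E}, x ^ 8 = 0 → x = 0 := fun {x} h => (pow_eq_zero_iff (by norm_num)).1 h
  have hΦinj : Function.Injective Φ := by
    rw [← LinearMap.ker_eq_bot, Submodule.eq_bot_iff]
    rintro ⟨a, b⟩ h
    rw [LinearMap.mem_ker] at h
    have ha : a = 0 := hext fun x => by
      have := hform a b (x ^ 8) 0
      rwa [h, H50.h_zero_left, ← pow_mul, h64, zero_pow (by norm_num), zero_mul, add_zero, eq_comm] at this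
    have hb : b = 0 := hext fun x => by
      have := hform a b 0 (x ^ 8)
      rwa [h, H50.h_zero_left, ← pow_mul, h64, zero_pow (by norm_num), zero_mul, zero_add, eq_comm] at this
    rw [ha, hb]; rfl
  have hrank : Module.finrank F (E × E) = Module.finrank F (Fin 6 → F) := by
    rw [Module.finrank_prod, hdeg]; simp
  let Ψ : (E × E) ≃ₗ[F] (Fin 6 → F) := LinearEquiv.ofBijective Φ
    ⟨hΦinj, (LinearMap.injective_iff_surjective_of_finrank_eq_finrank hrank).1 hΦinj⟩
  have hΨ : ∀ p, Ψ p = Φ p := fun _ => rfl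
  -- the rational structure
  let F₁ : Subfield F := RingHom.eqLocusField (H50.conjHom hF) (RingHom.id F)
  have hmem : ∀ z : F, z ∈ F₁ ↔ z ^ 2 = z := fun z => Iff.rfl
  have hcardF₁ : Nat.card F₁ = 2 := by
    rw [← H50.card_fixed hF]
    exact Nat.card_congr (Equiv.subtypeEquivRight hmem)
  obtain ⟨θ, hθ⟩ : ∃ θ : F, θ ^ 2 + θ ≠ 0 := by
    obtain ⟨θ, hθ⟩ := H50.exists_trace_ne_zero hF
    exact ⟨θ, by rwa [add_comm]⟩
  have hθ01 : θ ^ 2 + θ = 1 := by
    have e : (θ ^ 2 + θ) * ((θ ^ 2 + θ) - 1) = 0 := by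
      linear_combination hF4 θ + (θ ^ 3) * h2F
    exact sub_eq_zero.1 ((mul_eq_zero.1 e).resolve_left hθ)
  have hsplit : ∀ z : F, ∃ r ∈ F₁, ∃ s ∈ F₁, z = r + θ * s := by
    intro z
    set s := z ^ 2 + z with hs
    refine ⟨z + θ * s, ?_, s, ?_, ?_⟩
    · rw [hmem, hs, H50.add_pow_q hF, mul_pow, H50.add_pow_q hF, ← pow_mul, hF4]
      linear_combination (z ^ 2 + z) * hθ01 + (z ^ 2 - θ * z ^ 2 - θ * z) * h2F
    · rw [hmem, hs, H50.add_pow_q hF, ← pow_mul, hF4]; ring
    · rw [hs]; linear_combination -(θ * (z ^ 2 + z)) * h2F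
  let bE := Module.finBasisOfFinrankEq F E hdeg
  let a6 : Fin 6 → E := ![bE 0, bE 1, bE 2, θ • bE 0, θ • bE 1, θ • bE 2]
  set P₀ : Matrix (Fin 6) (Fin 6) F := Matrix.of fun i j => Φ (a6 j, a6 j ^ 8) i with hP₀
  have hP : ∀ r : Fin 6 → F, (∀ j, r j ∈ F₁) →
      P₀ *ᵥ r = Φ (∑ j, r j • a6 j, (∑ j, r j • a6 j) ^ 8) := by
    intro r hr
    have h1 : (∑ j, r j • a6 j) ^ 8 = ∑ j, r j • a6 j ^ 8 := by
      rw [show (8 : ℕ) = 2 ^ 3 from rfl, sum_pow_char_pow]
      refine Finset.sum_congr rfl fun j _ => ?_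
      rw [Algebra.smul_def, mul_pow, show (2 : ℕ) ^ 3 = 8 from rfl, hmap8, (hmem _).1 (hr j), Algebra.smul_def]
    rw [h1, show ((∑ j, r j • a6 j, ∑ j, r j • a6 j ^ 8) : E × E) = ∑ j, r j • (a6 j, a6 j ^ 8) by
      ext <;> simp [Prod.fst_sum, Prod.snd_sum], map_sum]
    simp only [map_smul]
    ext i
    simp [Matrix.mulVec, dotProduct, hP₀, mul_comm]
  have hratl : ∀ a : E, ∃ r : Fin 6 → F, (∀ j, r j ∈ F₁) ∧ ∑ j, r j • a6 j = a := by
    intro a
    choose r hr s hs hz using fun k => hsplit (bE.repr a k)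
    refine ⟨![r 0, r 1, r 2, s 0, s 1, s 2], fun j => ?_, ?_⟩
    · fin_cases j <;> simp [hr, hs]
    · conv_rhs => rw [← bE.sum_repr a, Fin.sum_univ_three, hz, hz, hz]
      simp [Fin.sum_univ_succ, a6, add_smul, mul_smul, smul_comm θ]
      abel
  have hPsur : Function.Surjective fun r => P₀ *ᵥ r := by
    have hrange : ∀ a : E, Φ (a, a ^ 8) ∈ LinearMap.range P₀.mulVecLin := fun a => by
      obtain ⟨r, hr, rfl⟩ := hratl a
      exact ⟨r, hP r hr⟩
    have h0 : ∀ x : E, Φ (0, x) ∈ LinearMap.range P₀.mulVecLin := fun x => by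
      have h1 := sub_mem (hrange (θ • x ^ 8)) (Submodule.smul_mem _ θ (hrange (x ^ 8)))
      rw [← map_smul, ← map_sub] at h1
      have h3 := Submodule.smul_mem _ (θ ^ 2 - θ)⁻¹ h1
      rw [← map_smul] at h3
      convert h3 using 2
      have h4 : θ ^ 2 - θ ≠ 0 := by
        rwa [CharTwo.sub_eq_add]
      ext
      · simp
      · simp only [Prod.smul_snd, Prod.snd_sub, ← pow_mul, h64]
        rw [Algebra.smul_def θ (x ^ 8), mul_pow, hmap8, ← Algebra.smul_def, ← pow_mul, h64, ← sub_smul,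
          smul_smul, inv_mul_cancel₀ h4, one_smul]
    intro z
    obtain ⟨⟨a, b⟩, rfl⟩ := Ψ.surjective z
    have h1 := sub_mem (hrange a) (h0 (a ^ 8 - b))
    rw [← map_sub] at h1
    obtain ⟨r, hr⟩ := h1
    refine ⟨r, ?_⟩
    show P₀ *ᵥ r = _
    rw [hΨ]
    simpa using hr
  set P : GL (Fin 6) F := ((Matrix.mulVec_surjective_iff_isUnit).1 hPsur).unit with hPdef
  have hPv : (P : Matrix (Fin 6) (Fin 6) F) = P₀ := IsUnit.unit_spec _
  -- matrices mapping the rational vectors to rational vectors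
  have hrat : ∀ N : GL (Fin 6) F, (∀ a, ∃ b, (N : Matrix (Fin 6) (Fin 6) F) *ᵥ Φ (a, a ^ 8) = Φ (b, b ^ 8)) →
      ∃ R : GL (Fin 6) F₁, P⁻¹ * N * P = Matrix.GeneralLinearGroup.map (F₁.subtype : F₁ →+* F) R := by
    intro N hN
    set M := P⁻¹ * N * P with hM
    have hent : ∀ i j, (M : Matrix (Fin 6) (Fin 6) F) i j ∈ F₁ := by
      intro i j
      have hs : ∀ k, (Pi.single j 1 : Fin 6 → F) k ∈ F₁ := fun k => by
        rcases eq_or_ne k j with rfl | hk
        · rw [Pi.single_eq_same]; exact one_mem _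
        · rw [Pi.single_eq_of_ne hk]; exact zero_mem _
      obtain ⟨b, hb⟩ := hN (∑ k, (Pi.single j 1 : Fin 6 → F) k • a6 k)
      obtain ⟨r, hr, rfl⟩ := hratl b
      have h1 : (M : Matrix (Fin 6) (Fin 6) F) *ᵥ Pi.single j 1 = r := by
        refine Matrix.mulVec_injective_of_isUnit P.isUnit ?_
        show (P : Matrix (Fin 6) (Fin 6) F) *ᵥ _ = (P : Matrix (Fin 6) (Fin 6) F) *ᵥ r
        rw [Matrix.mulVec_mulVec, ← Units.val_mul, hM, mul_assoc, mul_inv_cancel_left, Units.val_mul,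
          ← Matrix.mulVec_mulVec, hPv, hP _ hs, hP _ hr, hb]
      have h2 := congrFun h1 i
      rw [Matrix.mulVec_single_one, Matrix.col_apply] at h2
      exact h2 ▸ hr i
    set R₀ : Matrix (Fin 6) (Fin 6) F₁ := Matrix.of fun i j => ⟨_, hent i j⟩ with hR₀
    have hmap : R₀.map F₁.subtype = (M : Matrix (Fin 6) (Fin 6) F) := by ext i j; rfl
    have hdet : R₀.det ≠ 0 := fun h => (Matrix.isUnit_iff_isUnit_det _).1 M.isUnit |>.ne_zero (by
      rw [← hmap, ← RingHom.mapMatrix_apply, ← RingHom.map_det, h, map_zero])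
    exact ⟨Matrix.GeneralLinearGroup.mkOfDetNeZero R₀ hdet, Units.ext hmap.symm⟩
  refine ⟨F₁, P, 1, by rw [hcardF₁, hF], one_ne_zero, by rw [one_pow]; exact CharTwo.add_self_eq_zero _,
    ?_, ?_, ?_⟩
  · intro x y hx hy
    have h88 : ∀ z : E, (z ^ 8) ^ 8 = z := fun z => by rw [← pow_mul]; exact h64 z
    rw [hPv, hP x hx, hP y hy, one_mul, hmem, hform, ← htr8]
    simp only [padd8, mul_pow, h88]
    congr 1
    ring
  · intro x hx
    rw [hPv, hP x hx, hform, ← pow_mul, h64, mul_comm, CharTwo.add_self_eq_zero, map_zero]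
  intro g hg
  obtain ⟨hgu, hgd⟩ := Subgroup.mem_inf.1 (hSU hg)
  set G := (g : Matrix (Fin 6) (Fin 6) F) with hG
  choose φ hφ using hnorm g hg
  have hφu : ∀ x y, G * ι x = ι y * G → φ x = y := fun x y h =>
    hι (g.isUnit.mul_right_cancel ((hφ x).symm.trans h))
  let φA : E →ₐ[F] E :=
    { toFun := φ
      map_one' := hφu _ _ (by rw [map_one, mul_one, one_mul])
      map_mul' := fun x y => hφu _ _ (by
        rw [map_mul, ← mul_assoc, hφ, mul_assoc, hφ, ← mul_assoc, map_mul])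
      map_zero' := hφu _ _ (by rw [map_zero, mul_zero, zero_mul])
      map_add' := fun x y => hφu _ _ (by rw [map_add, map_add, mul_add, add_mul, hφ, hφ])
      commutes' := fun a => hφu _ _ (by rw [AlgHom.commutes]; exact (Algebra.commutes a G).symm) }
  obtain ⟨i, -, hi⟩ := hfrob φA
  have hφ8 : ∀ x, φA (x ^ 8) = φA x ^ 8 := fun x => map_pow _ _ _
  have hφsur : Function.Surjective φA := φA.bijective.2
  have htrφ : ∀ x, tr (φA x) = tr x := fun x => by
    rw [htr]
    exact Algebra.trace_eq_of_algEquiv (AlgEquiv.ofBijective φA φA.bijective) x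
  have hgact : ∀ x u, G *ᵥ (ι x *ᵥ u) = ι (φA x) *ᵥ (G *ᵥ u) := fun x u => by
    rw [Matrix.mulVec_mulVec, hφ, ← Matrix.mulVec_mulVec]
    rfl
  obtain ⟨⟨α, β⟩, hgv⟩ := Ψ.surjective (G *ᵥ v)
  obtain ⟨⟨γ, δ⟩, hgw⟩ := Ψ.surjective (G *ᵥ w)
  rw [hΨ] at hgv hgw
  have hgΦ : ∀ a b, G *ᵥ Φ (a, b) = Φ (φA a * α + φA b * γ, φA a * β + φA b * δ) := by
    intro a b
    rw [hΦ, Matrix.mulVec_add, hgact, hgact, ← hgv, ← hgw, hΦ, hΦ, hΦ, Matrix.mulVec_add, Matrix.mulVec_add,
      ← hactmul, ← hactmul, ← hactmul, ← hactmul, map_add, map_add, Matrix.add_mulVec, Matrix.add_mulVec]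
    abel
  have hiso : ∀ a b a' b', tr ((φA a' * α + φA b' * γ) ^ 8 * (φA a * α + φA b * γ) +
      (φA a' * β + φA b' * δ) ^ 8 * (φA a * β + φA b * δ)) = tr (a' ^ 8 * a + b' ^ 8 * b) := by
    intro a b a' b'
    rw [← hform, ← hform, ← hgΦ, ← hgΦ, H50.mem_GU.1 hgu]
  have hcoef : ∀ {N k : E}, (∀ a, tr (φA a * N) = tr (a * k)) → N = φA k := fun {N k} h => by
    refine sub_eq_zero.1 (hext fun y => ?_)
    obtain ⟨a, rfl⟩ := hφsur y
    rw [mul_sub, map_sub, h, ← map_mul, htrφ, sub_self]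
  have hN1 : α ^ 8 * α + β ^ 8 * β = 1 := by
    rw [← map_one φA]
    exact hcoef fun a => by
      have h1 := hiso a 0 1 0
      simp only [map_one, map_zero, one_mul, zero_mul, add_zero, zero_add, mul_zero, one_pow,
        zero_pow (show 8 ≠ 0 by norm_num)] at h1
      try rw [mul_one]
      try rw [mul_zero, map_zero]
      try rw [map_zero] at h1
      rw [← h1]
      congr 1
      ring
  have hN0 : γ ^ 8 * α + δ ^ 8 * β = 0 := by
    rw [← map_zero φA]
    exact hcoef fun a => by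
      have h1 := hiso a 0 0 1
      simp only [map_one, map_zero, one_mul, zero_mul, add_zero, zero_add, mul_zero, one_pow,
        zero_pow (show 8 ≠ 0 by norm_num)] at h1
      try rw [mul_one]
      try rw [mul_zero, map_zero]
      try rw [map_zero] at h1
      rw [← h1]
      congr 1
      ring
  have hN2 : γ ^ 8 * γ + δ ^ 8 * δ = 1 := by
    rw [← map_one φA]
    exact hcoef fun a => by
      have h1 := hiso 0 a 0 1
      simp only [map_one, map_zero, one_mul, zero_mul, add_zero, zero_add, mul_zero, one_pow,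
        zero_pow (show 8 ≠ 0 by norm_num)] at h1
      try rw [mul_one]
      try rw [mul_zero, map_zero]
      try rw [map_zero] at h1
      rw [← h1]
      congr 1
      ring
  have hN0' : α ^ 8 * γ + β ^ 8 * δ = 0 := by
    have := congrArg (fun z : E => z ^ 8) hN0
    simp only [padd8, mul_pow, ← pow_mul, h64, zero_pow (show 8 ≠ 0 by norm_num)] at this
    linear_combination this
  set c := α * δ + γ * β with hc
  have hγ : γ = c * β ^ 8 := by
    rw [hc]; linear_combination -γ * hN1 + α * hN0' - (α * β ^ 8 * δ) * h2E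
  have hδ : δ = c * α ^ 8 := by
    rw [hc]; linear_combination -δ * hN1 + β * hN0' - (α ^ 8 * β * γ) * h2E
  have hc9 : c ^ 9 = 1 := by
    have := hN2
    rw [hγ, hδ, mul_pow, mul_pow, ← pow_mul β, ← pow_mul α, h64, h64] at this
    linear_combination this - c ^ 9 * hN1
  obtain ⟨e, he⟩ := hφsur c
  have hc0 : c ≠ 0 := fun h => by simp [h] at hc9
  have he9 : e ^ 9 = 1 := φA.toRingHom.injective (by
    show φA (e ^ 9) = φA 1
    rw [map_pow, he, hc9, map_one])
  have he0 : e ≠ 0 := fun h => by simp [h] at he9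
  -- the scalar part
  let L : (E × E) →ₗ[F] (E × E) := LinearMap.prodMap LinearMap.id (Algebra.lmul F E e⁻¹)
  let D : (Fin 6 → F) →ₗ[F] (Fin 6 → F) := Ψ.toLinearMap ∘ₗ L ∘ₗ Ψ.symm.toLinearMap
  have hdetD : LinearMap.det D = Algebra.norm F e⁻¹ := by
    rw [LinearMap.det_conj, LinearMap.det_prodMap, LinearMap.det_id, one_mul, Algebra.norm_apply]
  have hD : ∀ a b, D (Φ (a, b)) = Φ (a, e⁻¹ * b) := fun a b => by
    show Ψ (L (Ψ.symm (Ψ (a, b)))) = _
    rw [Ψ.symm_apply_apply]; rfl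
  set T := LinearMap.toMatrix' D with hT'
  have hTdet : T.det = Algebra.norm F e⁻¹ := by rw [hT', LinearMap.det_toMatrix', hdetD]
  have hnorm0 : Algebra.norm F e⁻¹ ≠ 0 := Algebra.norm_ne_zero_iff.2 (inv_ne_zero he0)
  set N : GL (Fin 6) F := g * Matrix.GeneralLinearGroup.mkOfDetNeZero T (hTdet ▸ hnorm0) with hN
  have key : ∀ a b : E, (N : Matrix (Fin 6) (Fin 6) F) *ᵥ Φ (a, b) =
      Φ (φA a * α + φA b * β ^ 8, φA a * β + φA b * α ^ 8) := by
    intro a b
    show (G * T) *ᵥ _ = _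
    rw [← Matrix.mulVec_mulVec, hT', LinearMap.toMatrix'_mulVec, hD, hgΦ, map_mul, map_inv₀, he, hγ, hδ]
    congr 2 <;> field_simp
  obtain ⟨R, hR⟩ := hrat N fun a => ⟨φA a * α + φA (a ^ 8) * β ^ 8, by
    rw [key]; congr 2
    rw [padd8, hφ8, mul_pow, mul_pow, ← pow_mul (φA a), ← pow_mul β, h64, h64]; ring⟩
  have hNdet : (N : Matrix (Fin 6) (Fin 6) F).det = 1 := by
    have h1 : (N : Matrix (Fin 6) (Fin 6) F).det ∈ F₁ := by
      have h2 := congrArg (fun M : GL (Fin 6) F => (M : Matrix (Fin 6) (Fin 6) F).det) hR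
      simp only [Units.val_mul, Matrix.det_mul] at h2
      rw [mul_right_comm, ← Matrix.det_mul, ← Units.val_mul, inv_mul_cancel, Units.val_one,
        Matrix.det_one, one_mul] at h2
      rw [h2]
      show (((R : Matrix (Fin 6) (Fin 6) F₁)).map F₁.subtype).det ∈ F₁
      rw [← RingHom.mapMatrix_apply, ← RingHom.map_det]
      exact Subtype.coe_prop _
    have h0 : (N : Matrix (Fin 6) (Fin 6) F).det ≠ 0 :=
      ((Matrix.isUnit_iff_isUnit_det _).1 N.isUnit).ne_zero
    exact mul_left_cancel₀ h0 (by rw [mul_one, ← sq]; exact (hmem _).1 h1)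
  have hnorm1 : Algebra.norm F e⁻¹ = 1 := by
    have h5 : (N : Matrix (Fin 6) (Fin 6) F) = G * T := rfl
    have h7 : Matrix.GeneralLinearGroup.det g = 1 := hgd
    have hg1 : G.det = 1 := by
      rw [hG, ← Matrix.GeneralLinearGroup.val_det_apply, h7, Units.val_one]
    rw [h5, Matrix.det_mul, hg1, one_mul, hTdet] at hNdet
    exact hNdet
  have he3 : e ^ 3 = 1 := by
    have h1 := congrArg (algebraMap F E) hnorm1
    rw [FiniteField.algebraMap_norm_eq_pow_sum, hdeg, hcardF, map_one] at h1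
    simp only [Finset.sum_range_succ, Finset.sum_range_zero, inv_pow, inv_eq_one] at h1
    norm_num at h1
    calc e ^ 3 = e ^ 21 / (e ^ 9) ^ 2 := by field_simp
      _ = 1 := by rw [h1, he9]; simp
  obtain ⟨ε, hεe⟩ : ∃ ε : F, algebraMap F E ε = e := by
    have hc4 : Nat.card (algebraMap F E).fieldRange = 4 := by
      rw [← hcardF]
      exact (Nat.card_congr (Equiv.ofInjective _ (algebraMap F E).injective)).symm
    have := (H46.subfield_mem_iff_pow (algebraMap F E).fieldRange hc4 e).2 (by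
      rw [pow_succ, he3, one_mul])
    exact this
  subst hεe
  have hce : c = algebraMap F E ε := by rw [← he, AlgHom.commutes]
  have hε0 : ε ≠ 0 := fun h => he0 (by rw [h, map_zero])
  have hε3 : ε ^ 3 = 1 := (algebraMap F E).injective (by rw [map_pow, he3, map_one])
  set N' : GL (Fin 6) F := g * Matrix.GeneralLinearGroup.scalar (Fin 6) (Units.mk0 ε hε0) with hN'
  have key' : ∀ a b : E, (N' : Matrix (Fin 6) (Fin 6) F) *ᵥ Φ (a, b) =
      Φ (algebraMap F E ε * (φA a * α + φA b * γ), algebraMap F E ε * (φA a * β + φA b * δ)) := by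
    intro a b
    have hs : ((Matrix.GeneralLinearGroup.scalar (Fin 6) (Units.mk0 ε hε0) : GL (Fin 6) F) :
        Matrix (Fin 6) (Fin 6) F) *ᵥ Φ (a, b) = ε • Φ (a, b) := by
      funext k
      simp [Matrix.GeneralLinearGroup.scalar, Matrix.scalar_apply, Matrix.mulVec_diagonal]
    rw [hN', Units.val_mul, ← Matrix.mulVec_mulVec, hs, Matrix.mulVec_smul, hgΦ, ← map_smul]
    simp [Algebra.smul_def]
  obtain ⟨R', hR'⟩ := hrat N' fun a => ⟨algebraMap F E ε * (φA a * α + φA (a ^ 8) * γ), by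
    rw [key']; congr 2
    rw [hγ, hδ, hce, mul_pow, padd8, hφ8, hmap8, mul_pow, mul_pow, mul_pow, hmap8, ← pow_mul (φA a),
      ← pow_mul β, h64, h64]
    simp only [map_pow]
    have h3 : (algebraMap F E ε) ^ 3 = 1 := he3
    linear_combination (-(algebraMap F E ε) * φA a * β) * h3⟩
  refine ⟨Matrix.GeneralLinearGroup.map (F₁.subtype : F₁ →+* F) R' *
    Matrix.GeneralLinearGroup.scalar (Fin 6) (Units.mk0 ε hε0)⁻¹,
    mul_mem (Subgroup.mem_sup_left ⟨R', rfl⟩) (Subgroup.mem_sup_right ?_), ?_⟩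
  · exact H46.mem_scalars_of_eq_smul (c := ε⁻¹) (by
      ext i j
      simp [Matrix.GeneralLinearGroup.scalar, Matrix.scalar_apply, Matrix.diagonal_apply, Matrix.one_apply])
  · show P * (_ * Matrix.GeneralLinearGroup.scalar (Fin 6) (Units.mk0 ε hε0)⁻¹) * P⁻¹ = g
    rw [← hR', hN', map_inv]
    have hcomm : ∀ M : GL (Fin 6) F, Commute (Matrix.GeneralLinearGroup.scalar (Fin 6) (Units.mk0 ε hε0)) M := by
      intro M
      apply Units.ext
      simp only [Units.val_mul, Matrix.GeneralLinearGroup.scalar]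
      exact (Matrix.scalar_commute _ (fun r => Commute.all _ _) _).eq
    rw [show P⁻¹ * (g * Matrix.GeneralLinearGroup.scalar (Fin 6) (Units.mk0 ε hε0)) * P =
      P⁻¹ * g * P * Matrix.GeneralLinearGroup.scalar (Fin 6) (Units.mk0 ε hε0) by
        rw [mul_assoc _ _ P, mul_assoc g, (hcomm P).eq]; group]
    group

/-- For q = 2 the normaliser of a cubic field in SU(6,2) lies in a symplectic subfield group. -/
theorem exists_subfield_of_field {q : ℕ} (hF : Fintype.card F = q ^ 2) (hq : q = 2)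
    {K : Subalgebra F (Matrix (Fin 6) (Fin 6) F)} (hK : IsFieldSubalgebra 3 K)
    (hcl : IsAdjointClosedFor (hermForm 6 F q) K) {H : Subgroup (GL (Fin 6) F)}
    (hSU : H ≤ suGL 6 F q) (hle : H ≤ subalgebraNormalizer K) :
    ∃ (F₁ : Subfield F) (P : GL (Fin 6) F) (ζ : F), Fintype.card F = Nat.card F₁ ^ 2 ∧ ζ ≠ 0 ∧
      ζ + ζ ^ q = 0 ∧ IsFormRationalStructure (hermForm 6 F q) F₁ ζ P ∧
      (∀ u : Fin 6 → F, (∀ i, u i ∈ F₁) → hermForm 6 F q ((P : Matrix (Fin 6) (Fin 6) F) *ᵥ u)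
        ((P : Matrix (Fin 6) (Fin 6) F) *ᵥ u) = 0) ∧
      H ≤ subfieldSubgroup F₁ P := by
  classical
  subst hq
  have hfield : IsField K :=
    { exists_pair_ne := exists_pair_ne K
      mul_comm := fun x y => Subtype.ext (hK.comm _ x.2 _ y.2)
      mul_inv_cancel := fun {x} hx => by
        obtain ⟨y, hy, hxy⟩ := hK.inv _ x.2 fun h => hx (Subtype.ext h)
        exact ⟨⟨y, hy⟩, Subtype.ext hxy⟩ }
  letI : Field K := hfield.toField
  refine subfield_of_cubic hF (E := K) hK.finrank_eq K.val (fun x => ?_) hSU fun g hg x => ?_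
  · obtain ⟨y, hy, hy'⟩ := hcl x x.2
    exact ⟨⟨y, hy⟩, hy'⟩
  · refine ⟨⟨_, (hle hg (x : Matrix (Fin 6) (Fin 6) F)).1 x.2⟩, ?_⟩
    show (g : Matrix (Fin 6) (Fin 6) F) * _ = (g : Matrix (Fin 6) (Fin 6) F) * _ * _ * _
    rw [mul_assoc _ _ (g : Matrix (Fin 6) (Fin 6) F), Units.inv_mul, mul_one]
    rfl

end H38.SUMax
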