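import Cfsg.Agent.H38.SUMax.Model

/-!
SU(5,2): the normaliser of a field subalgebra of degree five lies properly in an L2(11) which
permutes fifty-five vectors.
-/

set_option autoImplicit false
set_option linter.unusedSectionVars false
set_option maxHeartbeats 4000000
set_option maxRecDepth 4000

open Cfsg Cfsg.Geo
open scoped Matrix MatrixGroups

namespace H38.SUMax.FiveTwo

def ww : Quad4 := ⟨0, 1⟩

def vv : Quad4 := ⟨1, 1⟩

/-- The element of order eleven. -/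
def xMat : Matrix (Fin 5) (Fin 5) Quad4 := !![vv, ww, ww, 0, 0; 1, 1, ww, vv, ww; 1, 1, ww, ww, vv; ww, vv, ww, 0, 0; vv, vv, 1, vv, vv]

/-- The element of order five normalising it. -/
def yMat : Matrix (Fin 5) (Fin 5) Quad4 := !![vv, vv, ww, 0, 0; 1, ww, ww, 1, ww; 1, vv, 1, ww, vv; ww, 0, 1, 0, ww; vv, 0, ww, ww, 0]

/-- An involution generating L2(11) with them. -/
def wMat : Matrix (Fin 5) (Fin 5) Quad4 := !![0, 0, ww, vv, vv; 0, 1, 0, 0, 0; vv, 0, 0, ww, ww; ww, 0, vv, 1, 0; ww, 0, vv, 0, 1]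

/-- An element of SU moving the fifty-five vectors. -/
def moveMat : Matrix (Fin 5) (Fin 5) Quad4 := !![1, 0, 0, 0, 0; 0, 1, 0, 0, 0; 0, 0, 1, 0, 0; 0, 0, 0, 0, 1; 0, 0, 0, 1, 0]

/-- The inverse of the matrix of the first five iterates of the first unit vector. -/
def kryInv : Matrix (Fin 5) (Fin 5) Quad4 := !![1, ww, ww, ww, 0; 0, ww, 0, ww, 0; 0, vv, 1, 1, 0; 0, 0, 1, 0, ww; 0, vv, 1, ww, ww]

/-- The change to an orthonormal basis. -/
def onMat : Matrix (Fin 5) (Fin 5) Quad4 := !![0, 0, 0, 1, 1; 0, 1, 1, ww, ww; 0, 0, 0, 0, ww; 0, 1, vv, 1, ww; 1, 0, vv, vv, vv]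

/-- The fifty-five vectors. -/
def vecs : List (Fin 5 → Quad4) := [![0, 0, 1, 0, 0],
  ![0, 1, 0, 1, 1],
  ![0, 1, 1, 0, 1],
  ![0, 1, vv, 0, vv],
  ![0, ww, 0, 1, ww],
  ![0, ww, 1, 0, vv],
  ![0, ww, 1, vv, 0],
  ![0, vv, 0, ww, ww],
  ![0, vv, 1, ww, 0],
  ![0, vv, ww, vv, 0],
  ![1, 0, 0, ww, vv],
  ![1, 0, 1, ww, 0],
  ![1, 0, vv, 1, 0],
  ![1, 1, 1, ww, ww],
  ![1, 1, 1, vv, 1],
  ![1, 1, ww, vv, ww],
  ![1, 1, vv, vv, ww],
  ![1, ww, 0, 0, vv],
  ![1, ww, 1, ww, vv],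
  ![1, ww, 1, vv, ww],
  ![1, ww, vv, 1, ww],
  ![1, vv, 0, 0, 1],
  ![1, vv, 1, ww, 1],
  ![1, vv, ww, vv, 1],
  ![1, vv, vv, 1, 1],
  ![ww, 0, 0, vv, vv],
  ![ww, 0, 1, 0, ww],
  ![ww, 0, 1, 1, 0],
  ![ww, 1, 0, 1, 0],
  ![ww, 1, 1, 1, 1],
  ![ww, 1, 1, vv, ww],
  ![ww, 1, vv, vv, vv],
  ![ww, ww, 1, 1, ww],
  ![ww, ww, 1, vv, vv],
  ![ww, ww, ww, ww, 1],
  ![ww, ww, vv, ww, 1],
  ![ww, vv, 0, 0, ww],
  ![ww, vv, 1, 1, vv],
  ![ww, vv, 1, ww, ww],
  ![ww, vv, ww, vv, vv],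
  ![vv, 0, 0, vv, 1],
  ![vv, 0, 1, 0, 1],
  ![vv, 0, ww, 0, ww],
  ![vv, 1, 0, ww, 0],
  ![vv, 1, 1, ww, 1],
  ![vv, 1, ww, ww, ww],
  ![vv, 1, vv, ww, vv],
  ![vv, ww, 0, vv, 0],
  ![vv, ww, 1, 1, vv],
  ![vv, ww, 1, vv, 1],
  ![vv, ww, ww, 1, ww],
  ![vv, vv, 1, 1, 1],
  ![vv, vv, 1, ww, vv],
  ![vv, vv, ww, 1, vv],
  ![vv, vv, vv, 1, vv]]

/-- The trace of the k-th power of an element of order eleven. -/
def trCode (k : ℕ) : Quad4 :=
  if k % 11 = 0 then 1 else if k % 11 ∈ [1, 3, 4, 5, 9] then vv else ww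

/-- The polynomial in the element of order eleven with the given coefficients. -/
def polyX {K : Type*} [CommRing K] (x : Matrix (Fin 5) (Fin 5) K) (c : Fin 5 → K) :
    Matrix (Fin 5) (Fin 5) K := ∑ i, c i • x ^ (i : ℕ)

theorem unitary_x : (xMat.map fun z => z ^ 2)ᵀ * xMat = 1 ∧ xMat.det = 1 := by decide +kernel
theorem unitary_y : (yMat.map fun z => z ^ 2)ᵀ * yMat = 1 ∧ yMat.det = 1 := by decide +kernel
theorem unitary_w : (wMat.map fun z => z ^ 2)ᵀ * wMat = 1 ∧ wMat.det = 1 := by decide +kernel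
theorem unitary_move : (moveMat.map fun z => z ^ 2)ᵀ * moveMat = 1 ∧ moveMat.det = 1 := by
  decide +kernel

theorem keeps : ∀ v ∈ vecs, xMat *ᵥ v ∈ vecs ∧ yMat *ᵥ v ∈ vecs ∧ wMat *ᵥ v ∈ vecs := by
  decide +kernel

theorem moves : ∃ v ∈ vecs, moveMat *ᵥ v ∉ vecs := by decide +kernel

theorem kryInv_mul :
    (Matrix.of fun r (i : Fin 5) => (xMat ^ (i : ℕ)) r 0) * kryInv = 1 := by decide +kernel

theorem y_conj : ∀ i : Fin 5, yMat ^ (i : ℕ) * xMat = xMat ^ (4 ^ (i : ℕ) % 11) * yMat ^ (i : ℕ) := by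
  decide +kernel

theorem w_not_normal : ∀ j : Fin 11, wMat * xMat ≠ xMat ^ (j : ℕ) * wMat := by decide +kernel

theorem x_powers : ∀ a b c d f : Quad4,
    ((polyX xMat ![a, b, c, d, f]).map fun z => z ^ 2)ᵀ * polyX xMat ![a, b, c, d, f] = 1 →
    (polyX xMat ![a, b, c, d, f]).det = 1 → ∃ j : Fin 11, polyX xMat ![a, b, c, d, f] = xMat ^ (j : ℕ) := by
  decide +kernel

theorem x_trace : ∀ j : Fin 11, (xMat ^ (j : ℕ)).trace = xMat.trace →
    ∃ i : Fin 5, (j : ℕ) = 4 ^ (i : ℕ) % 11 := by decide +kernel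

theorem gram_on :
    onMatᵀ * (Matrix.of fun a b : Fin 5 => trCode (a + 10 * b)) * onMat.map (fun z => z ^ 2) = 1 := by
  decide +kernel

theorem gram_x :
    (onMatᵀ * (Matrix.of fun a b : Fin 5 => trCode (a + 1 + 10 * b)) * onMat.map (fun z => z ^ 2))ᵀ =
      xMat := by
  decide +kernel

theorem vv_sq : vv ^ 2 = ww ∧ ww ^ 2 = vv ∧ ww ^ 2 + ww + 1 = 0 ∧ ww + vv = 1 := by decide +kernel

variable {F : Type*} [Field F] [Fintype F]

theorem polyX_map {K : Type*} [CommRing K] (e : K →+* F) (x : Matrix (Fin 5) (Fin 5) K)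
    (c : Fin 5 → K) : (polyX x c).map e = polyX (x.map e) (e ∘ c) := by
  simp only [polyX, ← RingHom.mapMatrix_apply, map_sum]
  refine Finset.sum_congr rfl fun i _ => ?_
  rw [Function.comp_apply, ← map_pow]
  simp [Matrix.map_smul']

/-- A matrix commuting with the element of order eleven is a polynomial in it. -/
theorem centralizer_poly (e : Quad4 →+* F) {A : Matrix (Fin 5) (Fin 5) F}
    (h : A * xMat.map e = xMat.map e * A) : ∃ c : Fin 5 → F, A = polyX (xMat.map e) c := by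
  set X := xMat.map e with hX
  have hkry : (Matrix.of fun r (i : Fin 5) => (X ^ (i : ℕ)) r 0) * kryInv.map e = 1 := by
    have h1 := congrArg e.mapMatrix kryInv_mul
    rw [map_mul, map_one] at h1
    have h2 : (Matrix.of fun r (i : Fin 5) => (X ^ (i : ℕ)) r 0) =
        e.mapMatrix (Matrix.of fun r (i : Fin 5) => (xMat ^ (i : ℕ)) r 0) := by
      ext r i
      show ((e.mapMatrix xMat) ^ (i : ℕ)) r 0 = _
      rw [← map_pow]
      rfl
    rw [h2]
    exact h1
  set u : Fin 5 → F := Pi.single 0 1 with hu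
  set c := kryInv.map e *ᵥ (A *ᵥ u) with hc
  refine ⟨c, ?_⟩
  have hcol : ∀ i : ℕ, X ^ i *ᵥ u = fun r => (X ^ i) r 0 := fun i => by
    rw [hu, Matrix.mulVec_single_one]; rfl
  have h0 : (A - polyX X c) *ᵥ u = 0 := by
    rw [Matrix.sub_mulVec, sub_eq_zero]
    conv_lhs => rw [← Matrix.one_mulVec (A *ᵥ u), ← hkry, ← Matrix.mulVec_mulVec, ← hc]
    ext r
    simp [polyX, Matrix.sum_mulVec, Matrix.smul_mulVec, hcol, Matrix.mulVec, dotProduct, mul_comm, hu,
      Matrix.sum_apply, Pi.single_apply]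
  have hcom : Commute (A - polyX X c) X :=
    (show Commute A X from h).sub_left
      (Commute.sum_left _ _ _ fun i _ => ((Commute.refl X).pow_left _).smul_left _)
  refine sub_eq_zero.1 (Matrix.ext_iff_mulVec.2 fun v => ?_)
  have hv : v = (Matrix.of fun r (i : Fin 5) => (X ^ (i : ℕ)) r 0) *ᵥ (kryInv.map e *ᵥ v) := by
    rw [Matrix.mulVec_mulVec, hkry, Matrix.one_mulVec]
  have hsum : v = ∑ i : Fin 5, (kryInv.map e *ᵥ v) i • (X ^ (i : ℕ) *ᵥ u) := by
    conv_lhs => rw [hv]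
    ext r
    simp only [Matrix.mulVec, dotProduct, Finset.sum_apply, Pi.smul_apply, smul_eq_mul, hcol,
      Matrix.of_apply]
    exact Finset.sum_congr rfl fun i _ => mul_comm _ _
  rw [Matrix.zero_mulVec, hsum, Matrix.mulVec_sum]
  refine Finset.sum_eq_zero fun i _ => ?_
  rw [Matrix.mulVec_smul, Matrix.mulVec_mulVec, (hcom.pow_right _).eq, ← Matrix.mulVec_mulVec, h0,
    Matrix.mulVec_zero, smul_zero]

/-- Coordinates in which a field subalgebra of degree five contains the standard element of order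
eleven. -/
theorem exists_coords (hF : Fintype.card F = 2 ^ 2) (e : Quad4 ≃+* F)
    {K : Subalgebra F (Matrix (Fin 5) (Fin 5) F)} (hK : IsFieldSubalgebra 5 K)
    (hcl : IsAdjointClosedFor (hermForm 5 F 2) K) :
    ∃ u ∈ Cfsg.GU 5 F 2, ∀ x : GL (Fin 5) F, (x : Matrix (Fin 5) (Fin 5) F) = xMat.map e.toRingHom →
      ∀ g ∈ subalgebraNormalizer K,
        (((u⁻¹ * g * u) * x * (u⁻¹ * g * u)⁻¹ : GL (Fin 5) F) : Matrix (Fin 5) (Fin 5) F) * xMat.map e =
          xMat.map e * (((u⁻¹ * g * u) * x * (u⁻¹ * g * u)⁻¹ : GL (Fin 5) F) : Matrix (Fin 5) (Fin 5) F) := by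
  classical
  have hfield : IsField K :=
    { exists_pair_ne := exists_pair_ne K
      mul_comm := fun x y => Subtype.ext (hK.comm _ x.2 _ y.2)
      mul_inv_cancel := fun {x} hx => by
        obtain ⟨y, hy, hxy⟩ := hK.inv _ x.2 fun h => hx (Subtype.ext h)
        exact ⟨⟨y, hy⟩, Subtype.ext hxy⟩ }
  letI : Field K := hfield.toField
  have hdeg : Module.finrank F K = 5 := hK.finrank_eq
  set ι : K →ₐ[F] Matrix (Fin 5) (Fin 5) F := K.val with hι'
  have hι : Function.Injective ι := Subtype.val_injective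
  haveI : Finite K := Subtype.finite
  haveI : Fintype K := Fintype.ofFinite K
  have hcardF : Nat.card F = 4 := by rw [Nat.card_eq_fintype_card, hF]; rfl
  have hcardK : Fintype.card K = 1024 := by
    rw [Module.card_eq_pow_finrank (K := F), hF, hdeg]; rfl
  have h1024 : ∀ x : K, x ^ 1024 = x := fun x => hcardK ▸ FiniteField.pow_card x
  have hF4 : ∀ a : F, a ^ 4 = a := fun a => by
    rw [show (4 : ℕ) = Fintype.card F by rw [hF]; rfl]; exact FiniteField.pow_card a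
  haveI hcharF : CharP F 2 := by
    obtain ⟨p, f, hp, -, hc, hqp⟩ := H50.exists_prime_pow hF
    obtain rfl : p = 2 := (Nat.prime_dvd_prime_iff_eq hp Nat.prime_two).1
      (hqp ▸ dvd_pow_self p (by rintro rfl; simp at hqp))
    exact hc
  haveI hcharK : CharP K 2 := charP_of_injective_algebraMap (algebraMap F K).injective 2
  have h2K : (2 : K) = 0 := CharTwo.two_eq_zero
  have padd : ∀ (k : ℕ) (x y : K), (x + y) ^ (2 ^ k) = x ^ (2 ^ k) + y ^ (2 ^ k) := fun k x y =>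
    add_pow_char_pow x y 2 k
  have hactmul : ∀ x y u, ι (x * y) *ᵥ u = ι x *ᵥ (ι y *ᵥ u) := fun x y u => by
    rw [map_mul, Matrix.mulVec_mulVec]
  -- the adjoint
  have hadj : ∀ x : K, ∃ y : K, ∀ u v, hermForm 5 F 2 (ι x *ᵥ u) v = hermForm 5 F 2 u (ι y *ᵥ v) := by
    intro x
    obtain ⟨y, hy, hy'⟩ := hcl x x.2
    exact ⟨⟨y, hy⟩, hy'⟩
  choose ψ hψ using hadj
  have huniq : ∀ x y : K, (∀ u v, hermForm 5 F 2 (ι x *ᵥ u) v = hermForm 5 F 2 u (ι y *ᵥ v)) → ψ x = y := by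
    intro x y h
    refine hι (Matrix.ext_iff_mulVec.2 fun v => ?_)
    rw [← sub_eq_zero]
    refine H50.eq_zero_of_h_right hF fun u => ?_
    rw [H50.h_sub_right hF, ← hψ, ← h, sub_self]
  have hψmul : ∀ x y, ψ (x * y) = ψ x * ψ y := fun x y => huniq _ _ fun u v => by
    rw [hactmul, hψ, hψ, ← hactmul, mul_comm]
  have hψinv : ∀ x, ψ (ψ x) = x := fun x => huniq _ _ fun u v => by
    rw [H50.h_symm hF, ← hψ, ← H50.h_symm hF]
  have hψadd : ∀ x y, ψ (x + y) = ψ x + ψ y := fun x y => huniq _ _ fun u v => by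
    rw [map_add, map_add, Matrix.add_mulVec, Matrix.add_mulVec, H50.h_add_left, H50.h_add_right hF, hψ, hψ]
  have hψalg : ∀ a : F, ψ (algebraMap F K a) = algebraMap F K (a ^ 2) := fun a => huniq _ _ fun u v => by
    rw [AlgHom.commutes, AlgHom.commutes, Algebra.algebraMap_eq_smul_one, Algebra.algebraMap_eq_smul_one,
      Matrix.smul_mulVec, Matrix.smul_mulVec, Matrix.one_mulVec, Matrix.one_mulVec, H50.h_smul_left,
      H50.h_smul_right hF, ← pow_mul, hF4]
  have hψ32 : ∀ x, ψ x = x ^ 32 := by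
    let θ : K →ₐ[F] K :=
      { toFun := fun x => ψ (x ^ 2)
        map_one' := huniq _ _ fun u v => by simp
        map_mul' := fun x y => by rw [mul_pow, hψmul]
        map_zero' := huniq _ _ fun u v => by simp [H50.h_zero_left, H50.h_zero_right hF]
        map_add' := fun x y => by rw [← hψadd]; exact congrArg ψ (padd 1 x y)
        commutes' := fun a => by rw [← map_pow, hψalg, ← pow_mul, hF4] }
    obtain ⟨⟨i, hi⟩, h⟩ := (FiniteField.bijective_frobeniusAlgHom_pow F K).2 θ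
    have hθ' : ∀ x, ψ (x ^ 2) = x ^ 4 ^ i := fun x => by
      show θ x = _
      rw [← h, AlgHom.coe_pow, FiniteField.coe_frobeniusAlgHom, pow_iterate, ← Nat.card_eq_fintype_card, hcardF]
    rw [hdeg] at hi
    have hψpow : ∀ x, ψ (x ^ 2) = ψ x ^ 2 := fun x => by rw [sq, hψmul, sq]
    have h1 : ∀ x, (x ^ 4 ^ i) ^ 4 ^ i = x ^ 4 := fun x => by
      rw [← hθ' (x ^ 4 ^ i), ← hθ' x, ← hψpow, hψinv]
      rw [show (x ^ 4 : K) = (x ^ 2) ^ 2 by ring]
    obtain ⟨g, hg⟩ := IsCyclic.exists_ofOrder_eq_natCard (α := Kˣ)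
    have hg' : orderOf g = 1023 := by
      rw [hg, Nat.card_eq_fintype_card, Fintype.card_units, hcardK]
    have hg4 := h1 g
    rw [← pow_mul, ← Units.val_pow_eq_pow_val, ← Units.val_pow_eq_pow_val] at hg4
    have hi3 : i = 3 := by
      have h3 := pow_inj_mod.1 (Units.ext hg4)
      rw [hg'] at h3
      interval_cases i <;> first | rfl | (norm_num at h3)
    subst hi3
    intro x
    have hx : x = (x ^ 512) ^ 2 := by rw [← pow_mul]; exact (h1024 x).symm
    conv_lhs => rw [hx, hθ']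
    rw [← pow_mul, show 512 * 4 ^ 3 = 1024 * 32 by norm_num, pow_mul, h1024]
  have hself : ∀ a b u v, hermForm 5 F 2 (ι a *ᵥ u) (ι b *ᵥ v) = hermForm 5 F 2 (ι (b ^ 32 * a) *ᵥ u) v := by
    intro a b u v
    rw [← hψ32, hactmul, hψ (ψ b), hψinv]
  -- the trace
  set tr := Algebra.trace F K with htr
  have hT : ∀ x : K, algebraMap F K (tr x) = x + x ^ 4 + x ^ 16 + x ^ 64 + x ^ 256 := fun x => by
    rw [htr, FiniteField.algebraMap_trace_eq_sum_pow, hdeg, hcardF]
    simp [Finset.sum_range_succ]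
  have htr32 : ∀ x, tr (x ^ 32) = tr x ^ 2 := fun x => by
    apply (algebraMap F K).injective
    rw [hT, (algebraMap F K).map_pow, hT]
    have p2 : ∀ x y : K, (x + y) ^ 2 = x ^ 2 + y ^ 2 := padd 1
    simp only [p2, ← pow_mul]
    have e1 : x ^ (32 * 64) = x ^ 2 := by rw [show 32 * 64 = 1024 * 2 by norm_num, pow_mul, h1024]
    have e2 : x ^ (32 * 256) = x ^ 8 := by rw [show 32 * 256 = 1024 * 8 by norm_num, pow_mul, h1024]
    rw [e1, e2]
    ring
  -- an element of order eleven with the right period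
  obtain ⟨g, hg⟩ := IsCyclic.exists_ofOrder_eq_natCard (α := Kˣ)
  have hg' : orderOf g = 1023 := by
    rw [hg, Nat.card_eq_fintype_card, Fintype.card_units, hcardK]
  set z₀ : K := ((g ^ 93 : Kˣ) : K) with hz₀
  have hz₀11 : z₀ ^ 11 = 1 := by
    rw [hz₀, ← Units.val_pow_eq_pow_val, ← pow_mul, show 93 * 11 = 1023 by norm_num, ← hg',
      pow_orderOf_eq_one, Units.val_one]
  have hz₀1 : z₀ ≠ 1 := fun h => by
    have h1 := orderOf_dvd_of_pow_eq_one (Units.ext h : g ^ 93 = 1)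
    rw [hg'] at h1
    norm_num at h1
  obtain ⟨z, hz11, hz1, hper⟩ : ∃ z : K, z ^ 11 = 1 ∧ z ≠ 1 ∧
      z + z ^ 3 + z ^ 4 + z ^ 5 + z ^ 9 = algebraMap F K (e vv) := by
    have hsum : 1 + z₀ + z₀ ^ 2 + z₀ ^ 3 + z₀ ^ 4 + z₀ ^ 5 + z₀ ^ 6 + z₀ ^ 7 + z₀ ^ 8 + z₀ ^ 9 + z₀ ^ 10 = 0 :=
      (mul_eq_zero.1 (show (z₀ - 1) * (1 + z₀ + z₀ ^ 2 + z₀ ^ 3 + z₀ ^ 4 + z₀ ^ 5 + z₀ ^ 6 + z₀ ^ 7 + z₀ ^ 8 +
        z₀ ^ 9 + z₀ ^ 10) = 0 by linear_combination hz₀11)).resolve_left (sub_ne_zero.2 hz₀1)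
    set a := z₀ + z₀ ^ 3 + z₀ ^ 4 + z₀ ^ 5 + z₀ ^ 9 with ha
    set b := z₀ ^ 2 + z₀ ^ 6 + z₀ ^ 7 + z₀ ^ 8 + z₀ ^ 10 with hb
    have hab : a * b = 1 := by
      rw [ha, hb]
      linear_combination (z₀ ^ 8 + z₀ ^ 6 + z₀ ^ 5 + 2 * z₀ ^ 4 + z₀ ^ 3 + 2 * z₀ ^ 2 + 2 * z₀ + 5) * hz₀11 +
        2 * hsum + h2K
    have hab' : a + b = 1 := by rw [ha, hb]; linear_combination hsum - h2K
    have hw := congrArg (algebraMap F K ∘ e.toRingHom) vv_sq.2.2.1
    have hwv := congrArg (algebraMap F K ∘ e.toRingHom) vv_sq.2.2.2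
    simp only [Function.comp_apply, map_add, map_pow, map_one, map_zero] at hw hwv
    set W := algebraMap F K (e.toRingHom ww) with hW
    set V := algebraMap F K (e.toRingHom vv) with hV
    have hquad : (a - W) * (a - V) = 0 := by
      have hWV : W * V = 1 := by linear_combination W * hwv - hw + (W - 1) * h2K + h2K
      linear_combination (-a) * hwv + hWV - hab + a * hab'
    rcases mul_eq_zero.1 hquad with h | h
    · refine ⟨z₀ ^ 10, by rw [← pow_mul, mul_comm, pow_mul, hz₀11, one_pow], fun h10 => hz₀1 ?_, ?_⟩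
      · calc z₀ = z₀ * z₀ ^ 10 := by rw [h10, mul_one]
          _ = 1 := by rw [← pow_succ', hz₀11]
      · show _ = V
        have hbV : b = V := by linear_combination hab' - hwv - h
        rw [← hbV, hb]
        simp only [← pow_mul]
        rw [pow_eq_pow_mod (10 * 3) hz₀11, pow_eq_pow_mod (10 * 4) hz₀11, pow_eq_pow_mod (10 * 5) hz₀11,
          pow_eq_pow_mod (10 * 9) hz₀11]
        norm_num
        ring
    · exact ⟨z₀, hz₀11, hz₀1, by show a = V; exact sub_eq_zero.1 h⟩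
  have hsum : 1 + z + z ^ 2 + z ^ 3 + z ^ 4 + z ^ 5 + z ^ 6 + z ^ 7 + z ^ 8 + z ^ 9 + z ^ 10 = 0 :=
    (mul_eq_zero.1 (show (z - 1) * (1 + z + z ^ 2 + z ^ 3 + z ^ 4 + z ^ 5 + z ^ 6 + z ^ 7 + z ^ 8 +
      z ^ 9 + z ^ 10) = 0 by linear_combination hz11)).resolve_left (sub_ne_zero.2 hz1)
  have htrz : ∀ k : ℕ, tr (z ^ k) = e.toRingHom (trCode k) := by
    intro k
    apply (algebraMap F K).injective
    rw [hT]
    simp only [← pow_mul]
    rw [pow_eq_pow_mod k hz11, pow_eq_pow_mod (k * 4) hz11, pow_eq_pow_mod (k * 16) hz11,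
      pow_eq_pow_mod (k * 64) hz11, pow_eq_pow_mod (k * 256) hz11, Nat.mul_mod k 4, Nat.mul_mod k 16,
      Nat.mul_mod k 64, Nat.mul_mod k 256]
    have hk : k % 11 < 11 := Nat.mod_lt _ (by norm_num)
    have hww : algebraMap F K (e.toRingHom ww) = z ^ 2 + z ^ 6 + z ^ 7 + z ^ 8 + z ^ 10 := by
      have hwv := congrArg (algebraMap F K ∘ e.toRingHom) vv_sq.2.2.2
      simp only [Function.comp_apply, map_add, map_one] at hwv
      have hper' : z + z ^ 3 + z ^ 4 + z ^ 5 + z ^ 9 = algebraMap F K (e.toRingHom vv) := hper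
      linear_combination hwv - hsum + hper' + h2K
    have hper' : algebraMap F K (e.toRingHom vv) = z + z ^ 3 + z ^ 4 + z ^ 5 + z ^ 9 := hper.symm
    rw [trCode]
    generalize k % 11 = r at hk ⊢
    interval_cases r <;> simp <;>
      simp only [RingEquiv.toRingHom_eq_coe, RingHom.coe_coe] at hper' hww <;>
      first
      | (rw [hper']; ring1)
      | (rw [hww]; ring1)
      | linear_combination (2 : K) * h2K
  -- a normalised vector
  obtain ⟨u₀, -, hu₀⟩ := H50.exists_norm_one_mem hF (W := ⊤) (H50.isNondeg_top hF) (by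
    intro h
    have := finrank_top F (Fin 5 → F)
    rw [h, finrank_bot, Module.finrank_fintype_fun_eq_card] at this
    simp at this)
  obtain ⟨v, hv⟩ : ∃ v, ∀ x, hermForm 5 F 2 (ι x *ᵥ v) v = tr x := by
    let ℓ : K →ₗ[F] F :=
      { toFun := fun x => hermForm 5 F 2 (ι x *ᵥ u₀) u₀
        map_add' := fun x y => by rw [map_add, Matrix.add_mulVec, H50.h_add_left]
        map_smul' := fun a x => by rw [map_smul, Matrix.smul_mulVec, H50.h_smul_left]; rfl }
    let Tr : K →ₗ[F] Module.Dual F K := Algebra.traceForm F K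
    have hTr : Function.Surjective Tr := by
      refine (LinearMap.injective_iff_surjective_of_finrank_eq_finrank Subspace.dual_finrank_eq.symm).1 ?_
      rw [← LinearMap.ker_eq_bot, Submodule.eq_bot_iff]
      intro a ha
      exact (traceForm_nondegenerate F K).1 a fun b => LinearMap.congr_fun ha b
    obtain ⟨t, ht⟩ := hTr ℓ
    have ht' : ∀ x, hermForm 5 F 2 (ι x *ᵥ u₀) u₀ = tr (t * x) := fun x => (LinearMap.congr_fun ht x).symm
    have ht0 : t ≠ 0 := fun e => by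
      have := ht' 1
      rw [map_one, Matrix.one_mulVec, hu₀, e, zero_mul, map_zero] at this
      exact one_ne_zero this
    have ht32 : t ^ 32 = t := by
      rw [← sub_eq_zero]
      by_contra hne
      have key : ∀ c : K, tr (t * c ^ 32) = tr (t ^ 32 * c ^ 32) := fun c => by
        rw [← mul_pow, htr32, ← ht', ← ht', ← hψ32, hψ, hψinv, H50.h_symm hF]
      refine hne ((traceForm_nondegenerate F K).1 _ fun b => ?_)
      have e1 := key (b ^ 32)
      rw [← pow_mul, h1024] at e1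
      rw [Algebra.traceForm_apply, sub_mul, map_sub, e1, sub_self]
    refine ⟨ι (t⁻¹ ^ 512) *ᵥ u₀, fun x => ?_⟩
    rw [← hactmul, hself, ht']
    congr 1
    have h5 : (t⁻¹ ^ 512) ^ 32 = t⁻¹ ^ 512 := by rw [← pow_mul, mul_comm, pow_mul, inv_pow, ht32]
    rw [h5, show t * (t⁻¹ ^ 512 * (x * t⁻¹ ^ 512)) = x * (t * t⁻¹ ^ 1024) by ring, h1024,
      mul_inv_cancel₀ ht0, mul_one]
  -- the change of coordinates
  set T := onMat.map e.toRingHom with hTdef
  set B : Matrix (Fin 5) (Fin 5) F := Matrix.of fun r (a : Fin 5) => (ι (z ^ (a : ℕ)) *ᵥ v) r with hB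
  have hgram : ∀ (k : ℕ) (a b : Fin 5),
      hermForm 5 F 2 (ι (z ^ k) *ᵥ (ι (z ^ (a : ℕ)) *ᵥ v)) (ι (z ^ (b : ℕ)) *ᵥ v) =
        e.toRingHom (trCode (a + k + 10 * b)) := by
    intro k a b
    rw [← hactmul, hself, hv, ← htrz]
    have key : ∀ m m' : ℕ, m % 11 = m' % 11 → z ^ m = z ^ m' := fun m m' h => by
      rw [pow_eq_pow_mod m hz11, pow_eq_pow_mod m' hz11, h]
    rw [← pow_mul, ← pow_add, ← pow_add]
    exact congrArg tr (key _ _ (by omega))
  have hcol : ∀ i, (B * T) *ᵥ Pi.single i 1 = ∑ a : Fin 5, T a i • (ι (z ^ (a : ℕ)) *ᵥ v) := fun i => by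
    ext r
    simp [Matrix.mul_apply, hB, mul_comm]
  have hform : ∀ (k : ℕ) i j, hermForm 5 F 2 (ι (z ^ k) *ᵥ ((B * T) *ᵥ Pi.single i 1)) ((B * T) *ᵥ Pi.single j 1) =
      e.toRingHom ((onMatᵀ * (Matrix.of fun a b : Fin 5 => trCode (a + k + 10 * b)) *
        onMat.map (fun z => z ^ 2)) i j) := by
    intro k i j
    rw [hcol, hcol, Matrix.mulVec_sum, H50.h_sum_left]
    simp only [H50.h_sum_right hF, Matrix.mulVec_smul, H50.h_smul_left, H50.h_smul_right hF, hgram,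
      Matrix.mul_apply, Finset.sum_mul, Finset.mul_sum, Matrix.transpose_apply, Matrix.of_apply,
      Matrix.map_apply, map_sum, map_mul, hTdef]
    simp only [map_pow]
    rw [Finset.sum_comm]
    refine Finset.sum_congr rfl fun a _ => Finset.sum_congr rfl fun b _ => ?_
    ring
  have hon : ∀ i j, hermForm 5 F 2 ((B * T) *ᵥ Pi.single i 1) ((B * T) *ᵥ Pi.single j 1) =
      if i = j then 1 else 0 := by
    intro i j
    have := hform 0 i j
    simp only [pow_zero, map_one, Matrix.one_mulVec, add_zero] at this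
    rw [this, gram_on, Matrix.one_apply]
    split <;> simp
  have hiso : H50.IsIso 2 (B * T) := by
    intro x y
    have hx : ∀ x : Fin 5 → F, (B * T) *ᵥ x = ∑ i, x i • ((B * T) *ᵥ Pi.single i 1) := fun x => by
      simp only [← Matrix.mulVec_smul, ← Matrix.mulVec_sum]
      congr 1
      ext i
      simp [Pi.single_apply, Finset.sum_apply]
    rw [hx, hx, H50.h_sum_left]
    simp only [H50.h_sum_right hF, H50.h_smul_left, H50.h_smul_right hF, hon, mul_ite, mul_one,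
      mul_zero, Finset.sum_ite_eq, Finset.mem_univ, if_true]
    simp [hermForm, mul_comm]
  set u := Matrix.GeneralLinearGroup.mkOfDetNeZero (B * T) (H50.IsIso.det_ne_zero hF hiso) with hu
  have huU : u ∈ Cfsg.GU 5 F 2 := hiso
  have hconj : ((u⁻¹ : GL (Fin 5) F) : Matrix (Fin 5) (Fin 5) F) * ι z * (B * T) = xMat.map e.toRingHom := by
    ext i j
    set X := ((u⁻¹ : GL (Fin 5) F) : Matrix (Fin 5) (Fin 5) F) * ι z * (B * T) with hX
    have h1 : hermForm 5 F 2 ((u : Matrix (Fin 5) (Fin 5) F) *ᵥ (X *ᵥ Pi.single j 1))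
        ((u : Matrix (Fin 5) (Fin 5) F) *ᵥ Pi.single i 1) = X i j := by
      rw [H50.mem_GU.1 huU, H50.h_single_right hF, Matrix.mulVec_single_one, Matrix.col_apply]
    have hcancel : (u : Matrix (Fin 5) (Fin 5) F) * X = ι z * (B * T) := by
      rw [hX, Matrix.mul_assoc _ (ι z), ← Matrix.mul_assoc (u : Matrix (Fin 5) (Fin 5) F),
        show (u : Matrix (Fin 5) (Fin 5) F) * ((u⁻¹ : GL (Fin 5) F) : Matrix (Fin 5) (Fin 5) F) = 1 from u.mul_inv,
        Matrix.one_mul]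
    rw [← h1, Matrix.mulVec_mulVec, hcancel, ← Matrix.mulVec_mulVec]
    have h2 := hform 1 j i
    rw [pow_one] at h2
    show hermForm 5 F 2 _ ((B * T) *ᵥ Pi.single i 1) = _
    rw [h2]
    exact congrArg e.toRingHom (congrFun (congrFun gram_x i) j)
  refine ⟨u, huU, fun x hx g hg => ?_⟩
  have hzK : (g : Matrix (Fin 5) (Fin 5) F) * ι z * ((g⁻¹ : GL (Fin 5) F) : Matrix (Fin 5) (Fin 5) F) ∈ K :=
    (hg _).1 z.2
  have hx' : ((u * x * u⁻¹ : GL (Fin 5) F) : Matrix (Fin 5) (Fin 5) F) = ι z := by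
    rw [Units.val_mul, Units.val_mul, hx, ← hconj]
    show (u : Matrix (Fin 5) (Fin 5) F) * (_ * (u : Matrix (Fin 5) (Fin 5) F)) * _ = _
    simp only [← Matrix.mul_assoc]
    rw [show (u : Matrix (Fin 5) (Fin 5) F) * ((u⁻¹ : GL (Fin 5) F) : Matrix (Fin 5) (Fin 5) F) = 1 from u.mul_inv,
      Matrix.one_mul, Matrix.mul_assoc,
      show (u : Matrix (Fin 5) (Fin 5) F) * ((u⁻¹ : GL (Fin 5) F) : Matrix (Fin 5) (Fin 5) F) = 1 from u.mul_inv,
      Matrix.mul_one]
  have hcomm : Commute (g * (u * x * u⁻¹) * g⁻¹) (u * x * u⁻¹) := by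
    apply Units.ext
    simp only [Units.val_mul] at hx' ⊢
    rw [hx']
    exact hK.comm _ hzK _ z.2
  have h2 : Commute ((u⁻¹ * g * u) * x * (u⁻¹ * g * u)⁻¹) x := by
    have h3 := hcomm.map (MulAut.conj u⁻¹)
    have e1 : MulAut.conj u⁻¹ (g * (u * x * u⁻¹) * g⁻¹) = (u⁻¹ * g * u) * x * (u⁻¹ * g * u)⁻¹ := by
      simp only [MulAut.conj_apply]; group
    have e2 : MulAut.conj u⁻¹ (u * x * u⁻¹) = x := by simp only [MulAut.conj_apply]; group
    rwa [e1, e2] at h3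
  have h4 := congrArg Units.val h2.eq
  rw [Units.val_mul, Units.val_mul _ (_ * _ * _), hx] at h4
  exact h4

variable {q : ℕ}

/-- An element of SU commuting with the element of order eleven is a power of it. -/
theorem commutant_pow (hF : Fintype.card F = q ^ 2) (hq : q = 2) (e : Quad4 ≃+* F)
    {g : GL (Fin 5) F} (hg : g ∈ suGL 5 F q)
    (h : (g : Matrix (Fin 5) (Fin 5) F) * xMat.map e = xMat.map e * (g : Matrix (Fin 5) (Fin 5) F)) :
    ∃ j : Fin 11, (g : Matrix (Fin 5) (Fin 5) F) = (xMat.map e) ^ (j : ℕ) := by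
  obtain ⟨hgu, hgd⟩ := Subgroup.mem_inf.1 hg
  obtain ⟨c, hc⟩ := centralizer_poly e.toRingHom h
  obtain ⟨d, rfl⟩ : ∃ d, c = e.toRingHom ∘ d := ⟨e.symm ∘ c, funext fun i => by simp⟩
  set B := polyX xMat d with hB
  have hmap : (g : Matrix (Fin 5) (Fin 5) F) = e.toRingHom.mapMatrix B := by
    rw [hc, RingHom.mapMatrix_apply, polyX_map]
  have hinj : Function.Injective (e.toRingHom.mapMatrix (m := Fin 5)) :=
    Matrix.map_injective e.injective
  have hB1 : (B.map fun z => z ^ 2)ᵀ * B = 1 := by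
    apply hinj
    have h1 := (H51.mem_GU_iff hF g).1 hgu
    rw [hmap, H51.adj_def, hq] at h1
    rw [map_mul, map_one]
    refine Eq.trans ?_ h1
    congr 1
    ext i j
    simp [RingHom.mapMatrix_apply]
  have hB2 : B.det = 1 := by
    apply e.toRingHom.injective
    have h7 : Matrix.GeneralLinearGroup.det g = 1 := hgd
    rw [RingHom.map_det, map_one, ← hmap, ← Matrix.GeneralLinearGroup.val_det_apply, h7, Units.val_one]
  have hd : d = ![d 0, d 1, d 2, d 3, d 4] := funext fun i => by fin_cases i <;> rfl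
  rw [hB, hd] at hB1 hB2
  obtain ⟨j, hj⟩ := x_powers _ _ _ _ _ hB1 hB2
  refine ⟨j, ?_⟩
  rw [hmap, hB, hd, hj, map_pow]
  rfl

/-- No maximal subgroup of SU(5,2) normalises a field subalgebra of degree five. -/
theorem no_field (hF : Fintype.card F = q ^ 2) (hq : q = 2)
    {K : Subalgebra F (Matrix (Fin 5) (Fin 5) F)} (hK : IsFieldSubalgebra 5 K)
    (hcl : IsAdjointClosedFor (hermForm 5 F q) K) {H : Subgroup (GL (Fin 5) F)}
    (hH : IsMaximalIn (suGL 5 F q) H) (hle : H ≤ subalgebraNormalizer K) : False := by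
  classical
  subst hq
  obtain ⟨e⟩ := exists_model Quad4 (F := F) (by rw [hF]; decide)
  obtain ⟨u, hu, huK⟩ := exists_coords hF e hK hcl
  set H' := H.map (MulAut.conj u⁻¹).toMonoidHom with hH'
  have hmax : IsMaximalIn (suGL 5 F 2) H' := isMaximal_conj (inv_mem hu) hH
  obtain ⟨x, hx, hxv⟩ := exists_of_model hF e.toRingHom unitary_x.1 unitary_x.2
  obtain ⟨y, hy, hyv⟩ := exists_of_model hF e.toRingHom unitary_y.1 unitary_y.2
  obtain ⟨w, hw, hwv⟩ := exists_of_model hF e.toRingHom unitary_w.1 unitary_w.2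
  obtain ⟨m, hm, hmv⟩ := exists_of_model hF e.toRingHom unitary_move.1 unitary_move.2
  have hinj : Function.Injective (e.toRingHom.mapMatrix (m := Fin 5)) :=
    Matrix.map_injective e.injective
  have hxmap : (x : Matrix (Fin 5) (Fin 5) F) = e.toRingHom.mapMatrix xMat := hxv
  -- the elements of H'
  have key : ∀ g ∈ H', ∃ (i : Fin 5) (j : Fin 11), g = y ^ (i : ℕ) * x ^ (j : ℕ) ∧
      ∃ l : Fin 11, g * x = x ^ (l : ℕ) * g := by
    intro g hg
    have hg' := hmax.1.le hg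
    obtain ⟨g₀, hg₀, hgg⟩ := hg
    have hgg' : g = u⁻¹ * g₀ * u := by rw [← hgg]; simp [MulAut.conj_apply]
    have hcomm := huK x hxv g₀ (hle hg₀)
    rw [← hgg'] at hcomm
    obtain ⟨l, hl⟩ := commutant_pow hF rfl e (g := g * x * g⁻¹)
      (mul_mem (mul_mem hg' hx) (inv_mem hg')) hcomm
    have hl' : g * x = x ^ (l : ℕ) * g := by
      have h1 : g * x * g⁻¹ = x ^ (l : ℕ) :=
        Units.ext (by rw [hl, Units.val_pow_eq_pow_val, hxv]; rfl)
      rw [← h1, inv_mul_cancel_right]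
    obtain ⟨i, hi⟩ := x_trace l (by
      apply e.toRingHom.injective
      have h1 : (((x ^ (l : ℕ) : GL (Fin 5) F)) : Matrix (Fin 5) (Fin 5) F).trace =
          (x : Matrix (Fin 5) (Fin 5) F).trace := by
        rw [← mul_inv_cancel_right (x ^ (l : ℕ)) g, ← hl', Units.val_mul, Units.val_mul,
          Matrix.trace_mul_comm, ← Matrix.mul_assoc, ← Units.val_mul, inv_mul_cancel, Units.val_one,
          Matrix.one_mul]
      rw [Units.val_pow_eq_pow_val, hxmap, ← map_pow] at h1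
      have htr : ∀ A : Matrix (Fin 5) (Fin 5) Quad4,
          (e.toRingHom.mapMatrix A).trace = e.toRingHom A.trace := fun A => by simp [Matrix.trace]
      rw [← htr, ← htr]
      exact h1)
    have hyx : y ^ (i : ℕ) * x = x ^ (l : ℕ) * y ^ (i : ℕ) := by
      apply Units.ext
      have h1 := congrArg e.toRingHom.mapMatrix (y_conj i)
      rw [map_mul, map_mul, map_pow, map_pow] at h1
      rw [Units.val_mul, Units.val_mul, Units.val_pow_eq_pow_val, Units.val_pow_eq_pow_val, hxv, hyv, hi]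
      exact h1
    have hc : ((y ^ (i : ℕ))⁻¹ * g) * x = x * ((y ^ (i : ℕ))⁻¹ * g) := by
      rw [mul_assoc, hl', ← mul_assoc, ← mul_assoc,
        show (y ^ (i : ℕ))⁻¹ * x ^ (l : ℕ) = x * (y ^ (i : ℕ))⁻¹ by
          rw [eq_mul_inv_iff_mul_eq, mul_assoc, ← hyx, inv_mul_cancel_left]]
    obtain ⟨j, hj⟩ := commutant_pow hF rfl e (g := (y ^ (i : ℕ))⁻¹ * g)
      (mul_mem (inv_mem (pow_mem hy _)) hg') (by
        have h1 := congrArg Units.val hc
        rw [Units.val_mul, Units.val_mul x, hxv] at h1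
        exact h1)
    refine ⟨i, j, ?_, l, hl'⟩
    have h1 : (y ^ (i : ℕ))⁻¹ * g = x ^ (j : ℕ) :=
      Units.ext (by rw [hj, Units.val_pow_eq_pow_val, hxv]; rfl)
    rw [← h1, mul_inv_cancel_left]
  set S : Set (Fin 5 → F) := {v | ∃ c ∈ vecs, v = e.toRingHom ∘ c} with hS
  have hmem : ∀ (A : Matrix (Fin 5) (Fin 5) Quad4) (g : GL (Fin 5) F),
      (g : Matrix (Fin 5) (Fin 5) F) = A.map e.toRingHom → (∀ v ∈ vecs, A *ᵥ v ∈ vecs) →
      g ∈ vecStab S := by
    intro A g hgA hA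
    refine mem_vecStab fun v hv => ?_
    obtain ⟨c, hc, rfl⟩ := hv
    exact ⟨_, hA c hc, by rw [hgA, map_mulVec_model]⟩
  have hxS := hmem _ x hxv fun v hv => (keeps v hv).1
  have hyS := hmem _ y hyv fun v hv => (keeps v hv).2.1
  have hwS := hmem _ w hwv fun v hv => (keeps v hv).2.2
  have hHM : H' ≤ vecStab S := fun g hg => by
    obtain ⟨i, j, rfl, -⟩ := key g hg
    exact mul_mem (pow_mem hyS _) (pow_mem hxS _)
  rcases hmax.2 (vecStab S ⊓ suGL 5 F 2) (le_inf hHM hmax.1.le) inf_le_right with h | h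
  · obtain ⟨-, -, -, l, hl⟩ := key w (h.le ⟨hwS, hw⟩)
    apply w_not_normal l
    apply hinj
    have h1 := congrArg Units.val hl
    rw [Units.val_mul, Units.val_mul, Units.val_pow_eq_pow_val, hxv, hwv] at h1
    rw [map_mul, map_mul, map_pow]
    exact h1
  · obtain ⟨c, hc, hc'⟩ := moves
    obtain ⟨c', hc1, hc2⟩ := ((h.ge hm).1 (e.toRingHom ∘ c)).1 ⟨c, hc, rfl⟩
    rw [hmv, map_mulVec_model] at hc2
    exact hc' ((e.toRingHom.injective.comp_left hc2) ▸ hc1)

end H38.SUMax.FiveTwo
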