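import Cfsg.Agent.H38.SUMax.Model

/-!
SU(4,3): the monomial group lies properly in the stabiliser of the sixty lines of the Clifford
configuration.
-/

set_option autoImplicit false
set_option linter.unusedSectionVars false
set_option maxHeartbeats 1000000

open Cfsg Cfsg.Geo
open scoped Matrix MatrixGroups

namespace H38.SUMax.FourThree

/-- The vectors of the sixty lines. -/
def Clif {K : Type*} [CommRing K] [DecidableEq K] (v : Fin 4 → K) : Prop :=
  (∀ i j, v i ≠ 0 → v j ≠ 0 → v i ^ 4 = v j ^ 4) ∧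
  ((Finset.univ.filter fun i => v i ≠ 0).card = 1 ∨ (Finset.univ.filter fun i => v i ≠ 0).card = 2 ∨
   ((Finset.univ.filter fun i => v i ≠ 0).card = 4 ∧ (∏ i, v i) ^ 2 = 1))

instance {K : Type*} [CommRing K] [DecidableEq K] (v : Fin 4 → K) : Decidable (Clif v) := by
  unfold Clif; infer_instance

def cc : Quad9 := ⟨1, 1⟩

def ii : Quad9 := ⟨0, 1⟩

def xMat : Matrix (Fin 4) (Fin 4) Quad9 :=
  !![cc, cc, 0, 0; cc, -cc, 0, 0; 0, 0, cc, -cc; 0, 0, cc, cc]

def yMat : Matrix (Fin 4) (Fin 4) Quad9 :=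
  !![1 + ii, ii, ii, 0; ii, 1 + ii, ii, 0; ii, ii, 1 + ii, 0; 0, 0, 0, 1]

theorem xMat_unitary : (xMat.map fun z => z ^ 3)ᵀ * xMat = 1 ∧ xMat.det = 1 := by decide +kernel

theorem yMat_unitary : (yMat.map fun z => z ^ 3)ᵀ * yMat = 1 ∧ yMat.det = 1 := by decide +kernel

theorem yMat_moves : Clif (![1, 0, 0, 0] : Fin 4 → Quad9) ∧
    ¬ Clif (yMat *ᵥ (![1, 0, 0, 0] : Fin 4 → Quad9)) := by decide +kernel

theorem xMat_keeps : ∀ a b c d : Quad9, Clif ![a, b, c, d] → Clif (xMat *ᵥ ![a, b, c, d]) := by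
  decide +kernel

theorem xMat_entries : xMat 0 0 ≠ 0 ∧ xMat 1 0 ≠ 0 := by decide +kernel

theorem clif_map {K F : Type*} [CommRing K] [DecidableEq K] [CommRing F] [DecidableEq F]
    (e : K →+* F) (he : Function.Injective e) (c : Fin 4 → K) : Clif (e ∘ c) ↔ Clif c := by
  simp only [Clif, Function.comp_apply, map_ne_zero_iff e he, ← map_pow, he.eq_iff, ← map_prod,
    ← map_one e]

variable {F : Type*} [Field F] [Fintype F] {q : ℕ}

/-- No maximal subgroup of SU(4,3) fixes a frame. -/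
theorem no_frame (hF : Fintype.card F = q ^ 2) (hq : q = 3) {D : Fin 4 → Submodule F (Fin 4 → F)}
    (hD : IsNondegenerateMDecomposition (hermForm 4 F q) 1 D)
    {H : Subgroup (GL (Fin 4) F)} (hH : IsMaximalIn (suGL 4 F q) H)
    (hle : H ≤ decompositionStabilizer D) : False := by
  classical
  subst hq
  obtain ⟨e⟩ := exists_model Quad9 (F := F) (by rw [hF]; decide)
  have hinj : Function.Injective e.toRingHom := e.injective
  obtain ⟨x, hx, hxv⟩ := exists_of_model hF e.toRingHom xMat_unitary.1 xMat_unitary.2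
  obtain ⟨y, hy, hyv⟩ := exists_of_model hF e.toRingHom yMat_unitary.1 yMat_unitary.2
  refine frame_excluded hF (S := {v | Clif v}) ?_ hx (fun v hv => ?_) ⟨0, 0, 1, by decide, ?_, ?_⟩
    hy ⟨e.toRingHom ∘ ![1, 0, 0, 0], (clif_map _ hinj _).2 yMat_moves.1, ?_⟩ hD hH hle
  · intro π d hd hdet v hv
    have hd0 : ∀ i, d i ≠ 0 := fun i h => by simpa [h] using hd i
    have hcard : (Finset.univ.filter fun i => d i * v (π i) ≠ 0).card =
        (Finset.univ.filter fun i => v i ≠ 0).card :=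
      Finset.card_equiv π fun i => by simp [hd0 i]
    obtain ⟨h1, h2⟩ := hv
    refine ⟨fun i j hi hj => ?_, ?_⟩
    · rw [mul_pow, mul_pow, hd, hd, one_mul, one_mul]
      exact h1 _ _ (right_ne_zero_of_mul hi) (right_ne_zero_of_mul hj)
    · rw [hcard]
      rcases h2 with h | h | ⟨h, h'⟩
      · exact Or.inl h
      · exact Or.inr (Or.inl h)
      · refine Or.inr (Or.inr ⟨h, ?_⟩)
        have hp : (∏ i, d i) ^ 2 = 1 := by
          rcases Int.units_eq_one_or (Equiv.Perm.sign π) with hs | hs <;>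
            simp [hs] at hdet
          · rw [hdet, one_pow]
          · linear_combination (-(∏ i, d i) + 1) * hdet
        rw [Finset.prod_mul_distrib, Equiv.prod_comp π v, mul_pow, hp, h', one_mul]
  · obtain ⟨c, rfl⟩ : ∃ c, v = e.toRingHom ∘ c := ⟨e.symm ∘ v, by ext; simp⟩
    show Clif _
    rw [hxv, map_mulVec_model, clif_map _ hinj]
    rw [Set.mem_setOf_eq, clif_map _ hinj] at hv
    have hc : c = ![c 0, c 1, c 2, c 3] := funext fun i => by fin_cases i <;> rfl
    rw [hc] at hv ⊢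
    exact xMat_keeps _ _ _ _ hv
  · rw [hxv]; exact (map_ne_zero_iff _ hinj).2 xMat_entries.1
  · rw [hxv]; exact (map_ne_zero_iff _ hinj).2 xMat_entries.2
  · show ¬ Clif _
    rw [hyv, map_mulVec_model, clif_map _ hinj]
    exact yMat_moves.2

end H38.SUMax.FourThree
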