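import Cfsg.Agent.H38.SUMax.HeisFiveData

/-!
SU(3,5): the normaliser of an extraspecial group of order 27 lies properly in a triple cover of M10,
seen as the stabiliser of 270 vectors.
-/

set_option autoImplicit false
set_option linter.unusedSectionVars false
set_option linter.style.haveILetI false
set_option maxHeartbeats 4000000

open Cfsg Cfsg.Geo
open scoped Matrix MatrixGroups

namespace H38.SUMax.HeisFive

open H38.SUMax.Coded

variable {F : Type*} [Field F] [Fintype F] {q : ℕ}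

/-- A finite subgroup is normalised by an element conjugating it into itself. -/
theorem mem_normalizer_of_forward {R : Subgroup (GL (Fin 3) F)} {g : GL (Fin 3) F}
    (h : ∀ x ∈ R, g * x * g⁻¹ ∈ R) : g ∈ subgroupNormalizer R := by
  rw [subgroupNormalizer, Subgroup.mem_normalizer_iff]
  intro x
  refine ⟨h x, fun hx => ?_⟩
  let φ : R → R := fun y => ⟨g * y * g⁻¹, h y y.2⟩
  have hφ : Function.Bijective φ := Finite.injective_iff_bijective.1 fun a b e =>
    Subtype.ext (mul_left_cancel (mul_right_cancel (congrArg Subtype.val e)))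
  obtain ⟨y, hy⟩ := hφ.2 ⟨_, hx⟩
  have h1 : g * (y : GL (Fin 3) F) * g⁻¹ = g * x * g⁻¹ := congrArg Subtype.val hy
  exact mul_left_cancel (mul_right_cancel h1) ▸ y.2

/-- Coordinates in which an extraspecial group of order 27 is the standard one. -/
theorem exists_coords (hF : Fintype.card F = 5 ^ 2) (e : Quad25 ≃+* F) {R : Subgroup (GL (Fin 3) F)}
    (hR : IsSymplecticTypeGroup 3 R) (habs : ActsAbsolutelyIrreducibly (matrixSet R))
    (hiso : R ≤ Cfsg.GU 3 F 5) (hcard : Nat.card R = 27) (hcen : Nat.card (Subgroup.center R) = 3) :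
    ∃ u ∈ Cfsg.GU 3 F 5, ∀ x : GL (Fin 3) F, x ∈ R.map (MulAut.conj u⁻¹).toMonoidHom ↔
      ∃ i j k, (x : Matrix (Fin 3) (Fin 3) F) = e.toRingHom.mapMatrix (rr i j k) := by
  classical
  obtain ⟨hw3, hw1, hw2, hwsum, -, hroots, hwq⟩ := ww_facts
  set ω : F := e ww with hω
  have hω3 : ω ^ 3 = 1 := by rw [hω, ← map_pow, hw3, map_one]
  have hω1 : ω ≠ 1 := fun h => hw1 (e.injective (by rw [map_one]; exact h))
  have hωsum : ω ^ 2 + ω + 1 = 0 := by
    have h := congrArg e hwsum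
    simpa only [map_add, map_pow, map_one, map_zero, ← hω] using h
  have hω0 : ω ≠ 0 := fun h => by simp [h] at hω3
  haveI : Fact (Nat.Prime 3) := ⟨Nat.prime_three⟩
  have hexp : ∀ x ∈ R, x ^ 3 = 1 := fun x hx => by
    have h := Monoid.pow_exponent_eq_one (⟨x, hx⟩ : R)
    rw [hR.exponent_eq] at h
    exact congrArg Subtype.val h
  -- two elements with commutator the scalar of order three
  have hsc : ∀ z : R, z ∈ Subgroup.center R → ∃ κ : F, ((z : GL (Fin 3) F) : Matrix (Fin 3) (Fin 3) F) = κ • 1 := by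
    intro z hz
    refine habs.2 _ ?_
    rintro _ ⟨y, hy, rfl⟩
    exact congrArg (fun t : R => ((t : GL (Fin 3) F) : Matrix (Fin 3) (Fin 3) F))
      (Subgroup.mem_center_iff.1 hz ⟨y, hy⟩).symm
  obtain ⟨A₀, hA₀, B₀, hB₀, hnc⟩ : ∃ A₀ ∈ R, ∃ B₀ ∈ R, A₀ * B₀ ≠ B₀ * A₀ := by
    by_contra hcon
    push Not at hcon
    have htop : Subgroup.center R = ⊤ := eq_top_iff.2 fun z _ =>
      Subgroup.mem_center_iff.2 fun y => Subtype.ext (hcon y y.2 z z.2)
    rw [htop, Subgroup.card_top, hcard] at hcen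
    norm_num at hcen
  have hcomm : ∀ a b : R, a * b * a⁻¹ * b⁻¹ ∈ Subgroup.center R := by
    intro a b
    have hq9 : Nat.card (R ⧸ Subgroup.center R) = 3 ^ 2 := by
      have h := Subgroup.card_eq_card_quotient_mul_card_subgroup (Subgroup.center R)
      rw [hcard, hcen] at h
      omega
    have h2 := IsPGroup.commutative_of_card_eq_prime_sq hq9
    rw [← QuotientGroup.eq_one_iff]
    simp only [QuotientGroup.mk_mul, QuotientGroup.mk_inv]
    rw [mul_inv_eq_one, mul_inv_eq_iff_eq_mul]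
    exact h2 _ _
  obtain ⟨A, hA, B, hB, hAB⟩ : ∃ A ∈ R, ∃ B ∈ R, (A : Matrix (Fin 3) (Fin 3) F) * (B : Matrix (Fin 3) (Fin 3) F) =
      ω • ((B : Matrix (Fin 3) (Fin 3) F) * (A : Matrix (Fin 3) (Fin 3) F)) := by
    obtain ⟨κ, hκ⟩ := hsc _ (hcomm ⟨A₀, hA₀⟩ ⟨B₀, hB₀⟩)
    have h1 : (A₀ : Matrix (Fin 3) (Fin 3) F) * (B₀ : Matrix (Fin 3) (Fin 3) F) =
        κ • ((B₀ : Matrix (Fin 3) (Fin 3) F) * (A₀ : Matrix (Fin 3) (Fin 3) F)) := by
      rw [← Units.val_mul, show A₀ * B₀ = (A₀ * B₀ * A₀⁻¹ * B₀⁻¹) * (B₀ * A₀) by group, Units.val_mul,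
        show ((A₀ * B₀ * A₀⁻¹ * B₀⁻¹ : GL (Fin 3) F) : Matrix (Fin 3) (Fin 3) F) = κ • 1 from hκ,
        Matrix.smul_mul, Matrix.one_mul, Units.val_mul]
    have hκ3 : κ ^ 3 = 1 := by
      have h2 := hexp _ (mul_mem (mul_mem (mul_mem hA₀ hB₀) (inv_mem hA₀)) (inv_mem hB₀))
      have h3 := congrArg Units.val h2
      rw [Units.val_pow_eq_pow_val, show ((A₀ * B₀ * A₀⁻¹ * B₀⁻¹ : GL (Fin 3) F) : Matrix (Fin 3) (Fin 3) F) = κ • 1 from hκ,
        smul_pow, one_pow, Units.val_one] at h3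
      simpa using congrFun (congrFun h3 0) 0
    rcases hroots (e.symm κ) (by rw [← map_pow, hκ3, map_one]) with h | h | h
    · exfalso
      have hk : κ = 1 := by rw [← e.apply_symm_apply κ, h, map_one]
      rw [hk, one_smul, ← Units.val_mul, ← Units.val_mul] at h1
      exact hnc (Units.ext h1)
    · exact ⟨A₀, hA₀, B₀, hB₀, by rw [hω, ← h, e.apply_symm_apply]; exact h1⟩
    · refine ⟨B₀, hB₀, A₀, hA₀, ?_⟩
      have hk : κ = ω ^ 2 := by rw [hω, ← map_pow, ← h, e.apply_symm_apply]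
      rw [h1, hk, smul_smul, ← pow_succ', hω3, one_smul]
  set a := (A : Matrix (Fin 3) (Fin 3) F) with ha
  set b := (B : Matrix (Fin 3) (Fin 3) F) with hb
  have ha3 : a * a * a = 1 := by
    have h := congrArg Units.val (hexp A hA)
    rw [pow_succ, pow_two, Units.val_mul, Units.val_mul, Units.val_one] at h
    exact h
  have hb3 : b * b * b = 1 := by
    have h := congrArg Units.val (hexp B hB)
    rw [pow_succ, pow_two, Units.val_mul, Units.val_mul, Units.val_one] at h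
    exact h
  have hfA : ∀ x y, hermForm 3 F 5 (a *ᵥ x) (a *ᵥ y) = hermForm 3 F 5 x y := H50.mem_GU.1 (hiso hA)
  have hfB : ∀ x y, hermForm 3 F 5 (b *ᵥ x) (b *ᵥ y) = hermForm 3 F 5 x y := H50.mem_GU.1 (hiso hB)
  have hω5 : ω ^ 5 = ω ^ 2 := by linear_combination (ω ^ 2) * hω3
  have horth : ∀ x y : Fin 3 → F, ∀ s t : F, a *ᵥ x = s • x → a *ᵥ y = t • y → s * t ^ 5 ≠ 1 →
      hermForm 3 F 5 x y = 0 := by
    intro x y s t hx hy hst
    have h := hfA x y
    rw [hx, hy, H50.h_smul_left, H50.h_smul_right hF, ← mul_assoc] at h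
    by_contra hne
    exact hst (mul_right_cancel₀ hne (h.trans (one_mul _).symm))
  have hBshift : ∀ x : Fin 3 → F, ∀ s : F, a *ᵥ x = s • x → a *ᵥ (b *ᵥ x) = (ω * s) • (b *ᵥ x) := by
    intro x s hx
    rw [Matrix.mulVec_mulVec, hAB, Matrix.smul_mulVec, ← Matrix.mulVec_mulVec, hx, Matrix.mulVec_smul, smul_smul]
  -- an anisotropic eigenvector
  obtain ⟨v, s, hs3, hvs, hvv⟩ : ∃ (v : Fin 3 → F) (s : F), s ^ 3 = 1 ∧ a *ᵥ v = s • v ∧
      hermForm 3 F 5 v v ≠ 0 := by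
    by_contra hcon
    push Not at hcon
    obtain ⟨u₀, -, hu₀⟩ := H50.exists_norm_one_mem hF (W := ⊤) (H50.isNondeg_top hF) (by
      intro h
      have := finrank_top F (Fin 3 → F)
      rw [h, finrank_bot, Module.finrank_fintype_fun_eq_card] at this
      simp at this)
    let pr : F → (Fin 3 → F) := fun t => u₀ + t • (a *ᵥ u₀) + (t * t) • (a *ᵥ (a *ᵥ u₀))
    have haaa : a *ᵥ (a *ᵥ (a *ᵥ u₀)) = u₀ := by
      rw [Matrix.mulVec_mulVec, Matrix.mulVec_mulVec, ha3, Matrix.one_mulVec]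
    have heig : ∀ t : F, t ^ 3 = 1 → a *ᵥ pr t = (t * t) • pr t := by
      intro t ht
      simp only [pr, Matrix.mulVec_add, Matrix.mulVec_smul, haaa, smul_add, smul_smul]
      rw [show t * t * t = 1 by linear_combination ht, show t * t * (t * t) = t by linear_combination t * ht,
        one_smul]
      abel
    have hω23 : (ω ^ 2) ^ 3 = 1 := by rw [← pow_mul, mul_comm, pow_mul, hω3, one_pow]
    have hz : ∀ t : F, t ^ 3 = 1 → hermForm 3 F 5 (pr t) (pr t) = 0 := fun t ht =>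
      hcon _ (t * t) (by linear_combination (t ^ 3 + 1) * ht) (heig t ht)
    have e1 := heig 1 (one_pow 3)
    have e2 := heig ω hω3
    have e3 := heig (ω ^ 2) hω23
    have hsum : (3 : F) • u₀ = pr 1 + pr ω + pr (ω ^ 2) := by
      have h4 : ω ^ 2 * ω ^ 2 = ω := by linear_combination ω * hω3
      simp only [pr, one_mul, one_smul, h4, ← pow_two]
      have : (3 : F) • u₀ + ((ω ^ 2 + ω + 1) • (a *ᵥ u₀) + (ω ^ 2 + ω + 1) • (a *ᵥ (a *ᵥ u₀))) = (3 : F) • u₀ := by
        rw [hωsum, zero_smul, zero_smul, add_zero, add_zero]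
      rw [← this]
      match_scalars <;> first | ring1 | linear_combination (-ω) * hω3 | linear_combination ω * hω3
    have hne12 : (1 * 1 : F) * (ω * ω) ^ 5 ≠ 1 := fun h => hω1 (by linear_combination h - (ω ^ 7 + ω ^ 4 + ω) * hω3)
    have hne13 : (1 * 1 : F) * (ω ^ 2 * ω ^ 2) ^ 5 ≠ 1 := fun h => hω1 (by
      linear_combination -ω * h + (ω ^ 18 + ω ^ 15 + ω ^ 12 + ω ^ 9 + ω ^ 6 + ω ^ 3 + 1) * hω3)
    have hne23 : ω * ω * (ω ^ 2 * ω ^ 2) ^ 5 ≠ 1 := fun h => hω1 (by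
      linear_combination h - (ω ^ 19 + ω ^ 16 + ω ^ 13 + ω ^ 10 + ω ^ 7 + ω ^ 4 + ω) * hω3)
    have o12 := horth _ _ _ _ e1 e2 hne12
    have o13 := horth _ _ _ _ e1 e3 hne13
    have o23 := horth _ _ _ _ e2 e3 hne23
    have h9 : hermForm 3 F 5 ((3 : F) • u₀) ((3 : F) • u₀) = 0 := by
      rw [hsum]
      simp only [H50.h_add_left, H50.h_add_right hF, hz 1 (one_pow 3), hz ω hω3, hz (ω ^ 2) hω23, o12, o13,
        o23, (H50.h_eq_zero_comm hF).1 o12, (H50.h_eq_zero_comm hF).1 o13, (H50.h_eq_zero_comm hF).1 o23,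
        add_zero]
    rw [H50.h_smul_left, H50.h_smul_right hF, hu₀, mul_one] at h9
    have h30 : (3 : Quad25) ≠ 0 := dMat_det.2.2.2
    have h3F : (3 : F) ≠ 0 := fun h => h30 (e.injective (by rw [map_ofNat, h, map_zero]))
    exact mul_ne_zero h3F (pow_ne_zero _ h3F) h9
  obtain ⟨l₀, hl₀⟩ := H50.exists_norm_eq hF (c := hermForm 3 F 5 v v) (H50.h_self_fixed hF v)
  have hl00 : l₀ ≠ 0 := fun h => hvv (by rw [← hl₀, h, zero_pow (by norm_num)])
  set v₀ := l₀⁻¹ • v with hv₀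
  have hv₀n : hermForm 3 F 5 v₀ v₀ = 1 := by
    rw [hv₀, H50.h_smul_left, H50.h_smul_right hF, ← mul_assoc, inv_pow, ← mul_inv, ← pow_succ', hl₀,
      inv_mul_cancel₀ hvv]
  have hv₀s : a *ᵥ v₀ = s • v₀ := by rw [hv₀, Matrix.mulVec_smul, hvs, smul_comm]
  set U : Matrix (Fin 3) (Fin 3) F := Matrix.of fun r (i : Fin 3) =>
    (![v₀, b *ᵥ v₀, b *ᵥ (b *ᵥ v₀)] i) r with hU
  have hUcol : ∀ i, U *ᵥ Pi.single i 1 = ![v₀, b *ᵥ v₀, b *ᵥ (b *ᵥ v₀)] i := fun i => by
    rw [Matrix.mulVec_single_one]; rfl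
  have e0 := hv₀s
  have e1 := hBshift _ _ e0
  have e2 := hBshift _ _ e1
  have hs0 : s ≠ 0 := fun h => by simp [h] at hs3
  have hss : s * s ^ 5 = 1 := by linear_combination (s ^ 3 + 1) * hs3
  have n01 : s * (ω * s) ^ 5 ≠ 1 := fun h => hω1 (by
    linear_combination -ω * h + ω ^ 6 * hss + (ω ^ 3 + 1) * hω3)
  have n02 : s * (ω * (ω * s)) ^ 5 ≠ 1 := fun h => hω1 (by
    linear_combination h - ω ^ 10 * hss - (ω ^ 7 + ω ^ 4 + ω) * hω3)
  have n12 : ω * s * (ω * (ω * s)) ^ 5 ≠ 1 := fun h => hω1 (by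
    linear_combination (-ω) * h + ω ^ 12 * hss + (ω ^ 9 + ω ^ 6 + ω ^ 3 + 1) * hω3)
  have o01 := horth _ _ _ _ e0 e1 n01
  have o02 := horth _ _ _ _ e0 e2 n02
  have o12 := horth _ _ _ _ e1 e2 n12
  have hiso' : H50.IsIso 5 U := by
    intro x y
    have hx : ∀ x : Fin 3 → F, U *ᵥ x = ∑ i, x i • (U *ᵥ Pi.single i 1) := fun x => by
      simp only [← Matrix.mulVec_smul, ← Matrix.mulVec_sum]
      congr 1
      ext i
      simp [Pi.single_apply, Finset.sum_apply]
    have hon : ∀ i j, hermForm 3 F 5 (U *ᵥ Pi.single i 1) (U *ᵥ Pi.single j 1) = if i = j then 1 else 0 := by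
      intro i j
      rw [hUcol, hUcol]
      fin_cases i <;> fin_cases j <;>
        simp [-Matrix.mulVec_mulVec, hv₀n, hfB, o01, o02, o12, (H50.h_eq_zero_comm hF).1 o01, (H50.h_eq_zero_comm hF).1 o02,
          (H50.h_eq_zero_comm hF).1 o12]
    rw [hx, hx, H50.h_sum_left]
    simp only [H50.h_sum_right hF, H50.h_smul_left, H50.h_smul_right hF, hon, mul_ite, mul_one,
      mul_zero, Finset.sum_ite_eq, Finset.mem_univ, if_true]
    simp [hermForm, mul_comm]
  set u := Matrix.GeneralLinearGroup.mkOfDetNeZero U (H50.IsIso.det_ne_zero hF hiso') with hu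
  have huU : u ∈ Cfsg.GU 3 F 5 := hiso'
  refine ⟨u, huU, ?_⟩
  have hb3v : b *ᵥ (b *ᵥ (b *ᵥ v₀)) = v₀ := by
    rw [Matrix.mulVec_mulVec, Matrix.mulVec_mulVec, hb3, Matrix.one_mulVec]
  have hcols : ∀ (X : Matrix (Fin 3) (Fin 3) F) (Y : Matrix (Fin 3) (Fin 3) Quad25),
      (∀ i, X *ᵥ (U *ᵥ Pi.single i 1) = U *ᵥ ((e.toRingHom.mapMatrix Y) *ᵥ Pi.single i 1)) →
      X * U = U * e.toRingHom.mapMatrix Y := by
    intro X Y h
    refine Matrix.ext fun r i => ?_
    have h1 := congrFun (h i) r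
    rw [Matrix.mulVec_mulVec, Matrix.mulVec_mulVec, Matrix.mulVec_single_one, Matrix.mulVec_single_one] at h1
    exact h1
  -- scalar of order three
  obtain ⟨κ, hκR, hκ⟩ : ∃ κ ∈ R, (κ : Matrix (Fin 3) (Fin 3) F) = ω • 1 := by
    refine ⟨A * B * A⁻¹ * B⁻¹, mul_mem (mul_mem (mul_mem hA hB) (inv_mem hA)) (inv_mem hB), ?_⟩
    rw [Units.val_mul, Units.val_mul, Units.val_mul, hAB, Matrix.smul_mul, Matrix.smul_mul,
      Matrix.mul_assoc b, ← Units.val_mul, mul_inv_cancel, Units.val_one, Matrix.mul_one,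
      ← Units.val_mul, mul_inv_cancel, Units.val_one]
  obtain ⟨A', hA', hA'v⟩ : ∃ A' ∈ R, (A' : Matrix (Fin 3) (Fin 3) F) = s⁻¹ • a := by
    rcases hroots (e.symm s) (by rw [← map_pow, hs3, map_one]) with h | h | h
    · exact ⟨A, hA, by rw [show s = 1 by rw [← e.apply_symm_apply s, h, map_one], inv_one, one_smul]⟩
    · refine ⟨κ * κ * A, mul_mem (mul_mem hκR hκR) hA, ?_⟩
      have hk : s = ω := by rw [hω, ← h, e.apply_symm_apply]
      have hi : s⁻¹ = ω * ω := inv_eq_of_mul_eq_one_right (by rw [hk]; linear_combination hω3)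
      rw [hi, Units.val_mul, Units.val_mul, hκ, Matrix.smul_mul, Matrix.one_mul, smul_smul, Matrix.smul_mul,
        Matrix.one_mul]
    · refine ⟨κ * A, mul_mem hκR hA, ?_⟩
      have hk : s = ω ^ 2 := by rw [hω, ← map_pow, ← h, e.apply_symm_apply]
      have hi : s⁻¹ = ω := inv_eq_of_mul_eq_one_right (by rw [hk]; linear_combination hω3)
      rw [hi, Units.val_mul, hκ, Matrix.smul_mul, Matrix.one_mul]
  have hAU : (A' : Matrix (Fin 3) (Fin 3) F) * U = U * e.toRingHom.mapMatrix dMat := by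
    refine hcols _ _ fun i => ?_
    have hd : (e.toRingHom.mapMatrix dMat) *ᵥ Pi.single i 1 = (![1, ω, ω ^ 2] i) • Pi.single i 1 := by
      funext r
      fin_cases i <;> fin_cases r <;> simp [dMat, hω]
    rw [hd, Matrix.mulVec_smul, hUcol, hA'v, Matrix.smul_mulVec]
    fin_cases i
    · show s⁻¹ • (a *ᵥ v₀) = (1 : F) • v₀
      rw [e0, smul_smul, inv_mul_cancel₀ hs0]
    · show s⁻¹ • (a *ᵥ (b *ᵥ v₀)) = ω • (b *ᵥ v₀)
      rw [e1, smul_smul]; congr 1; field_simp
    · show s⁻¹ • (a *ᵥ (b *ᵥ (b *ᵥ v₀))) = ω ^ 2 • (b *ᵥ (b *ᵥ v₀))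
      rw [e2, smul_smul]; congr 1; field_simp
  have hBU : b * U = U * e.toRingHom.mapMatrix cMat := by
    refine hcols _ _ fun i => ?_
    have hc : (e.toRingHom.mapMatrix cMat) *ᵥ Pi.single i 1 = Pi.single (i + 1) 1 := by
      funext r
      fin_cases i <;> fin_cases r <;> simp [cMat]
    rw [hc, hUcol, hUcol]
    fin_cases i
    · rfl
    · rfl
    · exact hb3v
  set ψ := (MulAut.conj u⁻¹).toMonoidHom with hψ
  have hψval : ∀ (X : GL (Fin 3) F) (Y : Matrix (Fin 3) (Fin 3) Quad25),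
      (X : Matrix (Fin 3) (Fin 3) F) * U = U * e.toRingHom.mapMatrix Y →
      ((ψ X : GL (Fin 3) F) : Matrix (Fin 3) (Fin 3) F) = e.toRingHom.mapMatrix Y := by
    intro X Y h
    show ((u⁻¹ * X * u⁻¹⁻¹ : GL (Fin 3) F) : Matrix (Fin 3) (Fin 3) F) = _
    rw [inv_inv, Units.val_mul, Units.val_mul, Matrix.mul_assoc]
    show _ * ((X : Matrix (Fin 3) (Fin 3) F) * U) = _
    rw [h, ← Matrix.mul_assoc]
    show ((u⁻¹ : GL (Fin 3) F) : Matrix (Fin 3) (Fin 3) F) * (u : Matrix (Fin 3) (Fin 3) F) * _ = _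
    rw [← Units.val_mul, inv_mul_cancel, Units.val_one, Matrix.one_mul]
  have hcA := hψval A' dMat hAU
  have hcB := hψval B cMat hBU
  have hcκ : ((ψ κ : GL (Fin 3) F) : Matrix (Fin 3) (Fin 3) F) = e.toRingHom.mapMatrix (ww • 1) := by
    refine hψval κ _ ?_
    rw [hκ, Matrix.smul_mul, Matrix.one_mul]
    have : e.toRingHom.mapMatrix (ww • (1 : Matrix (Fin 3) (Fin 3) Quad25)) = ω • 1 := by
      ext r c; simp [Matrix.one_apply, apply_ite e, hω]
    rw [this, Matrix.mul_smul, Matrix.mul_one]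
  let word : Fin 3 × Fin 3 × Fin 3 → R.map ψ := fun t =>
    ⟨ψ (κ ^ (t.1 : ℕ) * (A' ^ (t.2.1 : ℕ) * B ^ (t.2.2 : ℕ))),
      ⟨_, mul_mem (pow_mem hκR _) (mul_mem (pow_mem hA' _) (pow_mem hB _)), rfl⟩⟩
  have hword : ∀ t, ((word t : GL (Fin 3) F) : Matrix (Fin 3) (Fin 3) F) =
      e.toRingHom.mapMatrix (rr t.1 t.2.1 t.2.2) := by
    intro t
    show ((ψ _ : GL (Fin 3) F) : Matrix (Fin 3) (Fin 3) F) = _
    rw [map_mul, map_mul, map_pow, map_pow, map_pow, Units.val_mul, Units.val_mul, Units.val_pow_eq_pow_val,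
      Units.val_pow_eq_pow_val, Units.val_pow_eq_pow_val, hcA, hcB, hcκ, ← map_pow, ← map_pow, ← map_pow,
      ← map_mul, ← map_mul, smul_pow, one_pow, Matrix.smul_mul, Matrix.one_mul]
    rfl
  have hinj : Function.Injective word := fun t t' h => by
    have h1 := congrArg (fun z : R.map ψ => ((z : GL (Fin 3) F) : Matrix (Fin 3) (Fin 3) F)) h
    simp only [hword] at h1
    obtain ⟨h2, h3, h4⟩ := rr_inj _ _ _ _ _ _ (Matrix.map_injective e.injective h1)
    exact Prod.ext h2 (Prod.ext h3 h4)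
  have hbij : Function.Bijective word := (Nat.bijective_iff_injective_and_card word).2 ⟨hinj, by
    rw [Subgroup.card_map_of_injective (MulAut.conj u⁻¹).injective, hcard]
    simp⟩
  intro x
  constructor
  · intro hx
    obtain ⟨t, ht⟩ := hbij.2 ⟨x, hx⟩
    exact ⟨t.1, t.2.1, t.2.2, by rw [← hword, ht]⟩
  · rintro ⟨i, j, k, hx⟩
    rw [show x = (word (i, j, k) : GL (Fin 3) F) from Units.ext (hx.trans (hword (i, j, k)).symm)]
    exact (word (i, j, k)).2

/-- No maximal subgroup of SU(3,5) normalises an extraspecial group of order 27. -/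
theorem no_sympType (hF : Fintype.card F = q ^ 2) (hq : q = 5) {R : Subgroup (GL (Fin 3) F)}
    (hR : IsSymplecticTypeGroup 3 R) (habs : ActsAbsolutelyIrreducibly (matrixSet R))
    (hiso : R ≤ Cfsg.GU 3 F q) (hcard : Nat.card R = 27) (hcen : Nat.card (Subgroup.center R) = 3)
    {H : Subgroup (GL (Fin 3) F)} (hH : IsMaximalIn (suGL 3 F q) H) (hle : H ≤ subgroupNormalizer R) :
    False := by
  classical
  subst hq
  obtain ⟨e⟩ := exists_model Quad25 (F := F) (by rw [hF]; decide)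
  obtain ⟨u, hu, hstd⟩ := exists_coords hF e hR habs hiso hcard hcen
  set ψ := (MulAut.conj u⁻¹).toMonoidHom with hψ
  set R' := R.map ψ with hR'
  set H' := H.map ψ with hH'
  have hmax : IsMaximalIn (suGL 3 F 5) H' := isMaximal_conj (inv_mem hu) hH
  have hnorm : ∀ g ∈ H', ∀ x ∈ R', g * x * g⁻¹ ∈ R' := by
    rintro _ ⟨g, hg, rfl⟩ _ ⟨x, hx, rfl⟩
    exact ⟨g * x * g⁻¹, (Subgroup.mem_normalizer_iff.1 (hle hg) x).1 hx, by rw [map_mul, map_mul, map_inv]⟩
  set S := codedSet e.toRingHom codes with hS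
  have hinjm : Function.Injective (e.toRingHom.mapMatrix (m := Fin 3)) := Matrix.map_injective e.injective
  have hDunit : IsUnit (e.toRingHom.mapMatrix dMat) :=
    IsUnit.map _ ((Matrix.isUnit_iff_isUnit_det _).2 (isUnit_iff_ne_zero.2 dMat_det.1))
  have hCunit : IsUnit (e.toRingHom.mapMatrix cMat) :=
    IsUnit.map _ ((Matrix.isUnit_iff_isUnit_det _).2 (isUnit_iff_ne_zero.2 dMat_det.2.1))
  set Dg : GL (Fin 3) F := hDunit.unit with hDg
  set Cg : GL (Fin 3) F := hCunit.unit with hCg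
  have hDv : (Dg : Matrix (Fin 3) (Fin 3) F) = e.toRingHom.mapMatrix dMat := IsUnit.unit_spec _
  have hCv : (Cg : Matrix (Fin 3) (Fin 3) F) = e.toRingHom.mapMatrix cMat := IsUnit.unit_spec _
  have hD' : Dg ∈ R' := (hstd _).2 ⟨0, 1, 0, by rw [hDv]; congr 1; simp [rr]⟩
  have hC' : Cg ∈ R' := (hstd _).2 ⟨0, 0, 1, by rw [hCv]; congr 1; simp [rr]⟩
  -- image of a conjugate, in the model
  have hconj : ∀ (g x : GL (Fin 3) F), g * x * g⁻¹ ∈ R' → ∃ i j k,
      (g : Matrix (Fin 3) (Fin 3) F) * (x : Matrix (Fin 3) (Fin 3) F) =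
        e.toRingHom.mapMatrix (rr i j k) * (g : Matrix (Fin 3) (Fin 3) F) := by
    intro g x h
    obtain ⟨i, j, k, hx⟩ := (hstd _).1 h
    exact ⟨i, j, k, by rw [← hx, ← Units.val_mul, ← Units.val_mul, inv_mul_cancel_right]⟩
  have hHM : H' ≤ vecStab S := by
    intro g hg
    obtain ⟨i, j, k, hgD⟩ := hconj g Dg (hnorm g hg _ hD')
    have htr : (rr i j k).trace = dMat.trace := by
      apply e.injective
      have h1 : ((e.toRingHom.mapMatrix (rr i j k))).trace = (Dg : Matrix (Fin 3) (Fin 3) F).trace := by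
        have h2 : e.toRingHom.mapMatrix (rr i j k) = (g : Matrix (Fin 3) (Fin 3) F) * (Dg : Matrix (Fin 3) (Fin 3) F) *
            ((g⁻¹ : GL (Fin 3) F) : Matrix (Fin 3) (Fin 3) F) := by
          rw [hgD, Matrix.mul_assoc, ← Units.val_mul, mul_inv_cancel, Units.val_one, Matrix.mul_one]
        rw [h2, Matrix.trace_mul_comm, ← Matrix.mul_assoc, ← Units.val_mul, inv_mul_cancel, Units.val_one,
          Matrix.one_mul]
      have htr' : ∀ A : Matrix (Fin 3) (Fin 3) Quad25, (e.toRingHom.mapMatrix A).trace = e A.trace :=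
        fun A => by simp [Matrix.trace]
      rwa [hDv, htr', htr'] at h1
    obtain ⟨l, hl⟩ := rr_cases i j k htr
    obtain ⟨h, hh, hhv⟩ := exists_of_model hF e.toRingHom (unitary_h l).1 (unitary_h l).2
    have hhm : (h : Matrix (Fin 3) (Fin 3) F) = e.toRingHom.mapMatrix (hMat l) := hhv
    have hhS : h ∈ vecStab S := mem_stab (keeps_h l) hhv
    have hin : ∀ (x : GL (Fin 3) F) (Y : Matrix (Fin 3) (Fin 3) Quad25),
        (x : Matrix (Fin 3) (Fin 3) F) = e.toRingHom.mapMatrix Y →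
        (∃ i j k, hMat l * Y = rr i j k * hMat l) → h * x * h⁻¹ ∈ R' := by
      rintro x Y hx ⟨i', j', k', he'⟩
      refine (hstd _).2 ⟨i', j', k', ?_⟩
      rw [Units.val_mul, Units.val_mul, hhm, hx, ← map_mul, he', map_mul, ← hhm, Matrix.mul_assoc,
        ← Units.val_mul, mul_inv_cancel, Units.val_one, Matrix.mul_one]
    have hconjD := hin Dg dMat hDv (h_conj l).1
    have hconjC := hin Cg cMat hCv (h_conj l).2
    have hhN : ∀ x ∈ R', h * x * h⁻¹ ∈ R' := by
      intro x hx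
      obtain ⟨i', j', k', hx'⟩ := (hstd _).1 hx
      set c₀ : F := e (ww ^ (i' : ℕ)) with hc₀
      have hc0 : c₀ ≠ 0 := (map_ne_zero_iff _ e.injective).2 (pow_ne_zero _ dMat_det.2.2.1)
      have hxw : (x : Matrix (Fin 3) (Fin 3) F) =
          c₀ • ((Dg ^ (j' : ℕ) * Cg ^ (k' : ℕ) : GL (Fin 3) F) : Matrix (Fin 3) (Fin 3) F) := by
        rw [hx', rr, Units.val_mul, Units.val_pow_eq_pow_val, Units.val_pow_eq_pow_val, hDv, hCv, ← map_pow,
          ← map_pow, ← map_mul]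
        generalize dMat ^ (j' : ℕ) * cMat ^ (k' : ℕ) = Z
        ext r c; simp [hc₀]
      set Y := Dg ^ (j' : ℕ) * Cg ^ (k' : ℕ) with hY
      have hYR : h * Y * h⁻¹ ∈ R' := by
        rw [hY, show h * (Dg ^ (j' : ℕ) * Cg ^ (k' : ℕ)) * h⁻¹ =
          (h * Dg * h⁻¹) ^ (j' : ℕ) * (h * Cg * h⁻¹) ^ (k' : ℕ) by rw [conj_pow, conj_pow]; group]
        exact mul_mem (pow_mem hconjD _) (pow_mem hconjC _)
      have hscal : x * Y⁻¹ ∈ R' := mul_mem hx (inv_mem (mul_mem (pow_mem hD' _) (pow_mem hC' _)))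
      have hcen : h * (x * Y⁻¹) * h⁻¹ = x * Y⁻¹ := by
        have hsm : ((x * Y⁻¹ : GL (Fin 3) F) : Matrix (Fin 3) (Fin 3) F) = c₀ • 1 := by
          rw [Units.val_mul, hxw, Matrix.smul_mul, ← Units.val_mul, mul_inv_cancel, Units.val_one]
        apply Units.ext
        rw [Units.val_mul, Units.val_mul, hsm, Matrix.mul_smul, Matrix.mul_one, Matrix.smul_mul,
          ← Units.val_mul, mul_inv_cancel, Units.val_one]
      rw [show h * x * h⁻¹ = (h * (x * Y⁻¹) * h⁻¹) * (h * Y * h⁻¹) by group, hcen]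
      exact mul_mem hscal hYR
    have hg1n : h⁻¹ * g ∈ subgroupNormalizer R' :=
      mul_mem (inv_mem (mem_normalizer_of_forward hhN)) (mem_normalizer_of_forward (hnorm g hg))
    set g1 := h⁻¹ * g with hg1
    have hg1D : (g1 : Matrix (Fin 3) (Fin 3) F) * (Dg : Matrix (Fin 3) (Fin 3) F) =
        (Dg : Matrix (Fin 3) (Fin 3) F) * (g1 : Matrix (Fin 3) (Fin 3) F) := by
      refine h.isUnit.mul_left_cancel ?_
      rw [← Matrix.mul_assoc, ← Matrix.mul_assoc, ← Units.val_mul h, hg1, mul_inv_cancel_left, hgD, hhm, hDv,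
        ← map_mul, hl, map_mul, Matrix.mul_assoc, ← hhm, ← Units.val_mul h, mul_inv_cancel_left]
    have hoff : ∀ r c, r ≠ c → (g1 : Matrix (Fin 3) (Fin 3) F) r c = 0 := by
      intro r c hrc
      have h1 := congrFun (congrFun hg1D r) c
      rw [hDv] at h1
      simp only [RingHom.mapMatrix_apply, dMat, Matrix.diagonal_map e.toRingHom.map_zero, Matrix.mul_diagonal,
        Matrix.diagonal_mul] at h1
      by_contra hne
      have h2 := mul_left_cancel₀ hne (h1.trans (mul_comm _ _))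
      exact hrc (diag_inj r c (e.injective h2))
    have hgs := mul_mem (inv_mem hh) (hmax.1.le hg)
    obtain ⟨hg1u, hg1d⟩ := Subgroup.mem_inf.1 hgs
    set d := fun r => (g1 : Matrix (Fin 3) (Fin 3) F) r r with hd
    have hg1diag : (g1 : Matrix (Fin 3) (Fin 3) F) = Matrix.diagonal d := by
      ext r c
      rcases eq_or_ne r c with rfl | hrc
      · rw [Matrix.diagonal_apply_eq]
      · rw [Matrix.diagonal_apply_ne _ hrc, hoff r c hrc]
    have hx6 : ∀ r, ∃ a : Fin 6, d r = e (zz ^ (a : ℕ)) := by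
      intro r
      have h1 := H50.mem_GU.1 hg1u (Pi.single r 1) (Pi.single r 1)
      rw [hg1diag, Matrix.mulVec_single_one, H50.h_single_single hF, if_pos rfl] at h1
      rw [show (Matrix.diagonal d).col r = d r • Pi.single r 1 by
          ext c; rcases eq_or_ne c r with rfl | hc <;> simp [*],
        H50.h_smul_left, H50.h_smul_right hF, H50.h_single_single hF, if_pos rfl, mul_one, ← pow_succ'] at h1
      have h6 : e.symm (d r) ^ 6 = 1 := by rw [← map_pow, h1, map_one]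
      obtain ⟨a, ha⟩ := roots_six _ h6
      exact ⟨a, by rw [← ha, e.apply_symm_apply]⟩
    choose a ha using hx6
    have hprod : zz ^ (a 0 : ℕ) * zz ^ (a 1 : ℕ) * zz ^ (a 2 : ℕ) = 1 := by
      apply e.injective
      rw [map_mul, map_mul, map_one, ← ha, ← ha, ← ha]
      have h7 : Matrix.GeneralLinearGroup.det g1 = 1 := hg1d
      have h8 : (g1 : Matrix (Fin 3) (Fin 3) F).det = 1 := by
        rw [← Matrix.GeneralLinearGroup.val_det_apply, h7, Units.val_one]
      rwa [hg1diag, Matrix.det_diagonal, Fin.prod_univ_three] at h8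
    set M := Matrix.diagonal ![zz ^ (a 0 : ℕ), zz ^ (a 1 : ℕ), zz ^ (a 2 : ℕ)] with hM
    have hg1M : (g1 : Matrix (Fin 3) (Fin 3) F) = e.toRingHom.mapMatrix M := by
      rw [hg1diag, hM, RingHom.mapMatrix_apply, Matrix.diagonal_map e.toRingHom.map_zero]
      congr 1
      funext r
      fin_cases r <;> exact ha _
    obtain ⟨i', j', k', hC1⟩ := hconj g1 Cg ((Subgroup.mem_normalizer_iff.1 hg1n _).1 hC')
    have hkeep := keeps_diag (a 0) (a 1) (a 2) hprod ⟨i', j', k', hinjm (by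
      rw [map_mul, map_mul]
      rw [hg1M, hCv] at hC1
      exact hC1)⟩
    have hg1S : g1 ∈ vecStab S := mem_stab hkeep hg1M
    simpa [hg1] using mul_mem hhS hg1S
  obtain ⟨w, hw, hwv⟩ := exists_of_model hF e.toRingHom unitary_w.1 unitary_w.2
  obtain ⟨m, hm, hmv⟩ := exists_of_model hF e.toRingHom unitary_move.1 unitary_move.2
  rcases hmax.2 (vecStab S ⊓ suGL 3 F 5) (le_inf hHM hmax.1.le) inf_le_right with h | h
  · obtain ⟨i, j, k, hwD⟩ := hconj w Dg (hnorm w (h.le ⟨mem_stab keeps_w hwv, hw⟩) _ hD')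
    apply w_not_normal i j k
    apply hinjm
    rw [hDv, show (w : Matrix (Fin 3) (Fin 3) F) = e.toRingHom.mapMatrix wMat from hwv] at hwD
    rw [map_mul, map_mul]
    exact hwD
  · exact not_mem_stab moves hmv (h.ge hm).1

end H38.SUMax.HeisFive
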