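import Cfsg.Agent.H38.SUMax.Coded

/-!
SU(3,5): the normaliser of an extraspecial group of order 27 lies properly in a triple cover of M10,
seen as the stabiliser of 270 vectors.
-/

set_option autoImplicit false
set_option linter.unusedSectionVars false
set_option linter.style.haveILetI false
set_option maxHeartbeats 4000000
set_option maxRecDepth 8000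

open Cfsg Cfsg.Geo
open scoped Matrix MatrixGroups

namespace H38.SUMax.HeisFive

open H38.SUMax.Coded

def zz : Quad25 := ⟨3, 2⟩

/-- A primitive cube root of unity. -/
def ww : Quad25 := ⟨2, 2⟩

def dMat : Matrix (Fin 3) (Fin 3) Quad25 := Matrix.diagonal ![1, ww, ww ^ 2]

def cMat : Matrix (Fin 3) (Fin 3) Quad25 := !![0, 0, 1; 1, 0, 0; 0, 1, 0]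

/-- The twenty-seven elements of the extraspecial group. -/
def rr (i j k : Fin 3) : Matrix (Fin 3) (Fin 3) Quad25 :=
  ww ^ (i : ℕ) • (dMat ^ (j : ℕ) * cMat ^ (k : ℕ))

def hMat : Fin 24 → Matrix (Fin 3) (Fin 3) Quad25 := ![
  !![⟨0, 0⟩, ⟨0, 0⟩, ⟨1, 0⟩; ⟨1, 0⟩, ⟨0, 0⟩, ⟨0, 0⟩; ⟨0, 0⟩, ⟨1, 0⟩, ⟨0, 0⟩],
  !![⟨0, 0⟩, ⟨0, 0⟩, ⟨4, 0⟩; ⟨0, 0⟩, ⟨4, 0⟩, ⟨0, 0⟩; ⟨4, 0⟩, ⟨0, 0⟩, ⟨0, 0⟩],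
  !![⟨0, 0⟩, ⟨1, 0⟩, ⟨0, 0⟩; ⟨0, 0⟩, ⟨0, 0⟩, ⟨1, 0⟩; ⟨1, 0⟩, ⟨0, 0⟩, ⟨0, 0⟩],
  !![⟨0, 0⟩, ⟨4, 0⟩, ⟨0, 0⟩; ⟨4, 0⟩, ⟨0, 0⟩, ⟨0, 0⟩; ⟨0, 0⟩, ⟨0, 0⟩, ⟨4, 0⟩],
  !![⟨1, 0⟩, ⟨0, 0⟩, ⟨0, 0⟩; ⟨0, 0⟩, ⟨1, 0⟩, ⟨0, 0⟩; ⟨0, 0⟩, ⟨0, 0⟩, ⟨1, 0⟩],
  !![⟨4, 0⟩, ⟨0, 0⟩, ⟨0, 0⟩; ⟨0, 0⟩, ⟨0, 0⟩, ⟨4, 0⟩; ⟨0, 0⟩, ⟨4, 0⟩, ⟨0, 0⟩],
  !![⟨2, 1⟩, ⟨2, 1⟩, ⟨2, 1⟩; ⟨2, 1⟩, ⟨0, 3⟩, ⟨3, 1⟩; ⟨2, 1⟩, ⟨3, 1⟩, ⟨0, 3⟩],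
  !![⟨2, 1⟩, ⟨2, 1⟩, ⟨2, 1⟩; ⟨3, 1⟩, ⟨2, 1⟩, ⟨0, 3⟩; ⟨0, 3⟩, ⟨2, 1⟩, ⟨3, 1⟩],
  !![⟨2, 1⟩, ⟨2, 1⟩, ⟨2, 1⟩; ⟨0, 3⟩, ⟨3, 1⟩, ⟨2, 1⟩; ⟨3, 1⟩, ⟨0, 3⟩, ⟨2, 1⟩],
  !![⟨2, 1⟩, ⟨2, 1⟩, ⟨3, 1⟩; ⟨2, 1⟩, ⟨0, 3⟩, ⟨0, 3⟩; ⟨0, 3⟩, ⟨2, 1⟩, ⟨0, 3⟩],
  !![⟨2, 1⟩, ⟨2, 1⟩, ⟨3, 1⟩; ⟨3, 1⟩, ⟨2, 1⟩, ⟨2, 1⟩; ⟨3, 1⟩, ⟨0, 3⟩, ⟨3, 1⟩],
  !![⟨2, 1⟩, ⟨2, 1⟩, ⟨3, 1⟩; ⟨0, 3⟩, ⟨3, 1⟩, ⟨3, 1⟩; ⟨2, 1⟩, ⟨3, 1⟩, ⟨2, 1⟩],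
  !![⟨2, 1⟩, ⟨2, 1⟩, ⟨0, 3⟩; ⟨2, 1⟩, ⟨0, 3⟩, ⟨2, 1⟩; ⟨3, 1⟩, ⟨0, 3⟩, ⟨0, 3⟩],
  !![⟨2, 1⟩, ⟨2, 1⟩, ⟨0, 3⟩; ⟨3, 1⟩, ⟨2, 1⟩, ⟨3, 1⟩; ⟨2, 1⟩, ⟨3, 1⟩, ⟨3, 1⟩],
  !![⟨2, 1⟩, ⟨2, 1⟩, ⟨0, 3⟩; ⟨0, 3⟩, ⟨3, 1⟩, ⟨0, 3⟩; ⟨0, 3⟩, ⟨2, 1⟩, ⟨2, 1⟩],
  !![⟨0, 2⟩, ⟨0, 2⟩, ⟨0, 2⟩; ⟨0, 2⟩, ⟨3, 4⟩, ⟨2, 4⟩; ⟨0, 2⟩, ⟨2, 4⟩, ⟨3, 4⟩],
  !![⟨0, 2⟩, ⟨0, 2⟩, ⟨0, 2⟩; ⟨2, 4⟩, ⟨0, 2⟩, ⟨3, 4⟩; ⟨3, 4⟩, ⟨0, 2⟩, ⟨2, 4⟩],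
  !![⟨0, 2⟩, ⟨0, 2⟩, ⟨0, 2⟩; ⟨3, 4⟩, ⟨2, 4⟩, ⟨0, 2⟩; ⟨2, 4⟩, ⟨3, 4⟩, ⟨0, 2⟩],
  !![⟨0, 2⟩, ⟨0, 2⟩, ⟨2, 4⟩; ⟨0, 2⟩, ⟨3, 4⟩, ⟨3, 4⟩; ⟨3, 4⟩, ⟨0, 2⟩, ⟨3, 4⟩],
  !![⟨0, 2⟩, ⟨0, 2⟩, ⟨2, 4⟩; ⟨2, 4⟩, ⟨0, 2⟩, ⟨0, 2⟩; ⟨2, 4⟩, ⟨3, 4⟩, ⟨2, 4⟩],
  !![⟨0, 2⟩, ⟨0, 2⟩, ⟨2, 4⟩; ⟨3, 4⟩, ⟨2, 4⟩, ⟨2, 4⟩; ⟨0, 2⟩, ⟨2, 4⟩, ⟨0, 2⟩],
  !![⟨0, 2⟩, ⟨0, 2⟩, ⟨3, 4⟩; ⟨0, 2⟩, ⟨3, 4⟩, ⟨0, 2⟩; ⟨2, 4⟩, ⟨3, 4⟩, ⟨3, 4⟩],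
  !![⟨0, 2⟩, ⟨0, 2⟩, ⟨3, 4⟩; ⟨2, 4⟩, ⟨0, 2⟩, ⟨2, 4⟩; ⟨0, 2⟩, ⟨2, 4⟩, ⟨2, 4⟩],
  !![⟨0, 2⟩, ⟨0, 2⟩, ⟨3, 4⟩; ⟨3, 4⟩, ⟨2, 4⟩, ⟨3, 4⟩; ⟨3, 4⟩, ⟨0, 2⟩, ⟨0, 2⟩]]

def wMat : Matrix (Fin 3) (Fin 3) Quad25 := !![⟨0, 0⟩, ⟨0, 4⟩, ⟨0, 4⟩; ⟨0, 1⟩, ⟨2, 0⟩, ⟨3, 0⟩; ⟨0, 1⟩, ⟨3, 0⟩, ⟨2, 0⟩]

def moveMat : Matrix (Fin 3) (Fin 3) Quad25 := !![⟨1, 0⟩, ⟨0, 0⟩, ⟨0, 0⟩; ⟨0, 0⟩, ⟨1, 1⟩, ⟨0, 2⟩; ⟨0, 0⟩, ⟨0, 2⟩, ⟨1, 4⟩]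

def codes : List ℕ := [2525, 8150, 11275, 725, 7600, 10725, 2800, 8425, 11550, 950, 7825, 10950, 2925, 8550, 11675, 1075, 7950, 11075, 2501, 8126, 11251, 101, 3251, 9026, 326, 7226, 12276, 451, 10476, 13001, 1927, 1327, 1952, 5777, 13277, 3977, 4277, 15527, 13727, 1303, 1928, 1328, 5778, 3978, 15228, 15528, 6228, 13728, 629, 7504, 10629, 29, 3254, 9029, 304, 7229, 12279, 429, 10479, 13004, 3155, 3230, 755, 2630, 5180, 4580, 7780, 11530, 7180, 9080, 8480, 10980, 9755, 9180, 7330, 5681, 13181, 5706, 15156, 1481, 2106, 1781, 4356, 15606, 5132, 8932, 3332, 9657, 4732, 7257, 4508, 3308, 7083, 5283, 9733, 9133, 3809, 3834, 15084, 1409, 2034, 13359, 6159, 13659, 2484, 12760, 14160,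 14860, 6760, 10560, 12460, 8786, 8861, 7636, 11386, 9561, 5211, 8411, 10911, 3436, 7211, 986, 2861, 4761, 7311, 3586, 2512, 8137, 11262, 112, 7012, 3412, 337, 9112, 10412, 462, 12987, 12387, 638, 7513, 10638, 38, 8888, 7163, 313, 3488, 12913, 438, 12363, 10513, 6914, 6989, 8264, 10764, 4564, 9589, 914, 2789, 9064, 3464, 7864, 11614, 5389, 3564, 9214, 9515, 7065, 8965, 4665, 5365, 3515, 11916, 11991, 14016, 10316, 12841, 7916, 11666, 12941, 10466, 1116, 2991, 8641, 11141, 6816, 14966, 2517, 8142, 11267, 117, 8892, 7167, 342, 3492, 12917, 467, 12367, 10517, 643, 7518, 10643, 43, 7018, 3418, 318, 9118, 10418, 443, 12993, 12393, 10044, 10119, 14644, 12819, 12219, 1044, 2919, 12319,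 12969, 8619, 11119, 8019, 11769, 14319, 6844, 12545, 12620, 6520, 12195, 10345, 8545, 11045, 10445, 12345, 7995, 11745, 1145, 3020, 14945, 14345, 3821, 15071, 15096, 1421, 5871, 13371, 6171, 1871, 2496, 10272, 6672, 14247, 14897, 12447, 13097, 12148, 14798, 6748, 14273, 13073, 10598, 13199, 5724, 13224, 3924, 15174, 2124, 1799, 2424, 4374]

theorem roots_six : ∀ x : Quad25, x ^ 6 = 1 → ∃ a : Fin 6, x = zz ^ (a : ℕ) := by decide +kernel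

theorem ww_facts : ww ^ 3 = 1 ∧ ww ≠ 1 ∧ ww ^ 2 ≠ 1 ∧ ww ^ 2 + ww + 1 = 0 ∧ ww ≠ ww ^ 2 ∧
    (∀ x : Quad25, x ^ 3 = 1 → x = 1 ∨ x = ww ∨ x = ww ^ 2) ∧ ww ^ 5 = ww ^ 2 := by
  decide +kernel

theorem rr_inj : ∀ i j k i' j' k', rr i j k = rr i' j' k' → i = i' ∧ j = j' ∧ k = k' := by decide +kernel

theorem rr_cases : ∀ i j k, (rr i j k).trace = dMat.trace →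
    ∃ l, hMat l * dMat = rr i j k * hMat l := by decide +kernel

theorem h_conj : ∀ l, (∃ i j k, hMat l * dMat = rr i j k * hMat l) ∧
    ∃ i j k, hMat l * cMat = rr i j k * hMat l := by decide +kernel

theorem unitary_h : ∀ l, ((hMat l).map fun z => z ^ 5)ᵀ * hMat l = 1 ∧ (hMat l).det = 1 := by
  decide +kernel

theorem keeps_h : ∀ l, Keeps codes (hMat l) := by decide +kernel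

theorem keeps_diag : ∀ a b c : Fin 6, zz ^ (a : ℕ) * zz ^ (b : ℕ) * zz ^ (c : ℕ) = 1 →
    (∃ i j k, Matrix.diagonal ![zz ^ (a : ℕ), zz ^ (b : ℕ), zz ^ (c : ℕ)] * cMat =
      rr i j k * Matrix.diagonal ![zz ^ (a : ℕ), zz ^ (b : ℕ), zz ^ (c : ℕ)]) →
    Keeps codes (Matrix.diagonal ![zz ^ (a : ℕ), zz ^ (b : ℕ), zz ^ (c : ℕ)]) := by decide +kernel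

theorem keeps_w : Keeps codes wMat := by decide +kernel

theorem unitary_w : (wMat.map fun z => z ^ 5)ᵀ * wMat = 1 ∧ wMat.det = 1 := by decide +kernel

theorem unitary_move : (moveMat.map fun z => z ^ 5)ᵀ * moveMat = 1 ∧ moveMat.det = 1 := by
  decide +kernel

theorem w_not_normal : ∀ i j k, wMat * dMat ≠ rr i j k * wMat := by decide +kernel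

theorem moves : ∃ k ∈ codes, code3 (vec3 5 (2 : ZMod 5) 0 k) = k ∧
    code3 (moveMat *ᵥ vec3 5 (2 : ZMod 5) 0 k) ∉ codes := by decide +kernel

/-- Scalars on the diagonal are told apart. -/
theorem diag_inj : ∀ r c : Fin 3, (![1, ww, ww ^ 2] : Fin 3 → Quad25) c = ![1, ww, ww ^ 2] r → r = c := by
  decide +kernel

theorem dMat_det : dMat.det ≠ 0 ∧ cMat.det ≠ 0 ∧ ww ≠ 0 ∧ (3 : Quad25) ≠ 0 := by decide +kernel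

end H38.SUMax.HeisFive
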