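import Cfsg.Agent.H38.SUMax.Tv
import Cfsg.Agent.H46.AschLinear

/-!
The members of the geometric classes other than subspace stabilisers do not contain SU.
-/

set_option autoImplicit false
set_option linter.unusedSectionVars false
set_option maxHeartbeats 1000000

open Cfsg Cfsg.Geo
open scoped Matrix MatrixGroups Kronecker commutatorElement

namespace H38.SUMax

variable {F : Type*} [Field F] [Fintype F] {n q : ℕ} (hF : Fintype.card F = q ^ 2)
include hF

theorem not_suTv_frame (hn : 3 ≤ n) (hq : n = 3 → 3 ≤ q) {t : ℕ}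
    {D : Fin t → Submodule F (Fin n → F)} (hD : IsNondegenerateMDecomposition (hermForm n F q) 1 D) :
    ¬ HasSUTv q (decompositionStabilizer D) := by
  classical
  intro h
  have hd' : ∀ i, ∃ d ∈ D i, d ≠ 0 := fun i => Submodule.exists_mem_ne_zero_of_ne_bot fun e => by
    have h1 := hD.decomp.finrank_eq i
    rw [e, finrank_bot] at h1
    omega
  choose d hdD hd0 using hd'
  have hspan : ∀ i, ∀ x ∈ D i, ∃ b : F, x = b • d i := fun i x hx => by
    obtain ⟨b, hb⟩ := exists_smul_eq_of_finrank_eq_one (hD.decomp.finrank_eq i)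
      (x := (⟨d i, hdD i⟩ : D i)) (fun e => hd0 i (congrArg Subtype.val e)) ⟨x, hx⟩
    exact ⟨b, (congrArg Subtype.val hb).symm⟩
  set a : Fin t → F := fun i => hermForm n F q (d i) (d i) with ha
  have hort : ∀ i j, i ≠ j → hermForm n F q (d i) (d j) = 0 :=
    fun i j hij => hD.orthogonal i j hij _ (hdD i) _ (hdD j)
  have ha0 : ∀ i, a i ≠ 0 := by
    intro i hi
    obtain ⟨⟨x, hx, hxd⟩, -⟩ := hD.nondegenerate i (d i) (hdD i) (hd0 i)
    obtain ⟨b, rfl⟩ := hspan i x hx
    exact hxd (by rw [H50.h_smul_left, show hermForm n F q (d i) (d i) = 0 from hi, mul_zero])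
  have ht : n ≤ t := by
    have h1 : (⊤ : Submodule F (Fin n → F)) ≤ Submodule.span F (Set.range d) := by
      rw [← hD.decomp.iSup_eq_top]
      refine iSup_le fun i x hx => ?_
      obtain ⟨b, rfl⟩ := hspan i x hx
      exact Submodule.smul_mem _ _ (Submodule.subset_span ⟨i, rfl⟩)
    have h2 := finrank_range_le_card (R := F) d
    rw [Fintype.card_fin, Set.finrank, top_le_iff.1 h1, finrank_top,
      Module.finrank_fintype_fun_eq_card, Fintype.card_fin] at h2
    exact h2
  have hfix : ∀ i, a i ^ q = a i := fun i => H50.h_self_fixed hF _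
  -- a set of at least three coordinates carrying an isotropic vector
  obtain ⟨S, s, hS, hs0, hsfix, hsum⟩ : ∃ (S : Finset (Fin t)) (s : Fin t → F),
      3 ≤ S.card ∧ (∀ i ∈ S, s i ≠ 0) ∧ (∀ i ∈ S, s i ^ q = s i) ∧ ∑ i ∈ S, s i = 0 := by
    have h3 : 3 ≤ t := hn.trans ht
    by_cases hq3 : 3 ≤ q
    · obtain ⟨z, hz, hz0, hz1⟩ : ∃ z : F, z ^ q = z ∧ z ≠ 0 ∧ 1 + z ≠ 0 := by
        by_contra hcon
        push Not at hcon
        have h1 : Nat.card {x : F // x ^ q = x} ≤ Nat.card ↥(({0, -1} : Finset F)) :=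
          Nat.card_le_card_of_injective (fun x => ⟨x.1, by
            by_cases h0 : x.1 = 0
            · simp [h0]
            · have := hcon x.1 x.2 h0
              simp [eq_neg_of_add_eq_zero_right this]⟩)
            fun x y e => Subtype.ext (congrArg Subtype.val e :)
        rw [H50.card_fixed hF, Nat.card_eq_fintype_card, Fintype.card_coe] at h1
        have := (Finset.card_le_two (a := (0 : F)) (b := -1))
        omega
      set i₁ : Fin t := ⟨0, by omega⟩
      set i₂ : Fin t := ⟨1, by omega⟩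
      set i₃ : Fin t := ⟨2, by omega⟩
      refine ⟨{i₁, i₂, i₃}, fun i => if i = i₁ then 1 else if i = i₂ then z else -(1 + z), ?_, ?_, ?_, ?_⟩
      · simp [i₁, i₂, i₃, Fin.ext_iff]
      · intro i hi
        dsimp only
        split_ifs
        exacts [one_ne_zero, hz0, neg_ne_zero.2 hz1]
      · intro i hi
        dsimp only
        split_ifs
        · exact one_pow q
        · exact hz
        · rw [H50.neg_pow_q hF, H50.add_pow_q hF, one_pow, hz]
      · simp [i₁, i₂, i₃, Fin.ext_iff]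
    · have hq2 : q = 2 := by have := H50.two_le hF; omega
      have h4 : 4 ≤ t := by
        rcases Nat.lt_or_ge n 4 with h4 | h4
        · exact absurd (hq (by omega)) hq3
        · omega
      haveI : CharP F 2 := by
        obtain ⟨p, f, hp, -, hc, hqp⟩ := H50.exists_prime_pow hF
        obtain rfl : p = 2 := by
          have : p ∣ 2 := by rw [← hq2, hqp]; exact dvd_pow_self p (by rintro rfl; simp [hq2] at hqp)
          exact (Nat.prime_dvd_prime_iff_eq hp Nat.prime_two).1 this
        exact hc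
      refine ⟨{⟨0, by omega⟩, ⟨1, by omega⟩, ⟨2, by omega⟩, ⟨3, by omega⟩}, fun _ => 1, ?_,
        fun _ _ => one_ne_zero, fun _ _ => one_pow q, ?_⟩
      · simp [Fin.ext_iff]
      · rw [Finset.sum_const, nsmul_one, show Finset.card _ = 4 from by simp [Fin.ext_iff]]
        rw [show ((4 : ℕ) : F) = 2 * 2 by norm_num, CharTwo.two_eq_zero, zero_mul]
  choose x hx using fun i : S => H50.exists_norm_eq hF (c := s i / a i) (by
    rw [div_pow, hsfix i i.2, hfix])
  have hx0 : ∀ i : S, x i ≠ 0 := fun i e => by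
    have h1 := hx i
    rw [e, zero_pow (by omega)] at h1
    exact div_ne_zero (hs0 i i.2) (ha0 i) h1.symm
  set v : Fin n → F := ∑ i : S, x i • d i with hv
  have hvd : ∀ i : S, hermForm n F q v (d i) = x i * a i := by
    intro i
    rw [hv, H50.h_sum_left, Finset.sum_eq_single i]
    · rw [H50.h_smul_left]
    · intro j _ hj
      rw [H50.h_smul_left, hort _ _ (fun e => hj (Subtype.ext e)), mul_zero]
    · simp
  have hvv : hermForm n F q v v = 0 := by
    conv_lhs => arg 5; rw [hv]
    rw [H50.h_sum_right hF, ← hsum, ← S.sum_coe_sort]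
    refine Finset.sum_congr rfl fun i _ => ?_
    rw [H50.h_smul_right hF, hvd, ← mul_assoc, ← pow_succ, hx, div_mul_cancel₀ _ (ha0 i)]
  obtain ⟨c, hc0, hc⟩ := H50.exists_trace_zero_ne_zero hF
  obtain ⟨g, ⟨σ, hσ⟩, hgx⟩ := h v c hvv hc
  obtain ⟨j, hjS⟩ : S.Nonempty := Finset.card_pos.1 (by omega)
  have hjl : (g : Matrix (Fin n) (Fin n) F) *ᵥ d j ∈ D (σ j) := by
    rw [← hσ j]
    exact ⟨_, hdD j, Matrix.toLin'_apply _ _⟩
  obtain ⟨b, hb⟩ := hspan _ _ hjl
  obtain ⟨i, hiS, hij, hil⟩ : ∃ i ∈ S, i ≠ j ∧ i ≠ σ j := by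
    by_contra hcon
    push Not at hcon
    have hsub : S ⊆ {j, σ j} := fun i hi => by
      by_cases e : i = j
      · simp [e]
      · simp [hcon i hi e]
    have := (Finset.card_le_card hsub).trans Finset.card_le_two
    omega
  have hdv : hermForm n F q (d j) v ≠ 0 := fun e => by
    rw [H50.h_eq_zero_comm hF, hvd ⟨j, hjS⟩] at e
    exact mul_ne_zero (hx0 _) (ha0 _) e
  have h1 := congrArg (fun z => hermForm n F q z (d i)) hb
  simp only [hgx, H50.h_add_left, H50.h_smul_left, hort _ _ (Ne.symm hij), hort _ _ (Ne.symm hil),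
    hvd ⟨i, hiS⟩, zero_add, mul_zero] at h1
  exact mul_ne_zero (mul_ne_zero hc0 hdv) (mul_ne_zero (hx0 _) (ha0 _)) h1

theorem not_suTv_tensor (hn : 2 ≤ n) {n₁ n₂ : ℕ} (h1 : 2 ≤ n₁) (h2 : 3 ≤ n₂)
    (e : Fin n ≃ Fin n₁ × Fin n₂) (P : GL (Fin n) F) :
    ¬ HasSUTv q (tensorProductSubgroup n₁ n₂ e P) := by
  intro h
  set Ψ := fun Y => H46.matCoords e P (H46.kronOne (Fin n₁) (Fin n₂) F Y) with hΨ
  set i0 : Fin n₁ := ⟨0, by omega⟩
  set i1 : Fin n₁ := ⟨1, by omega⟩
  obtain ⟨c, hc⟩ := scalar_of_suTv hF hn h (Ψ (Matrix.single i0 i1 (1 : F))) fun g hg v w hvw => by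
    obtain ⟨_, ⟨k, ⟨a, b, hab⟩, rfl⟩, rfl⟩ := hg
    set X := Matrix.single i0 i1 (1 : F)
    have hconj : ((H46.glCoords e P k : GL (Fin n) F) : Matrix (Fin n) (Fin n) F) * Ψ X *
        (((H46.glCoords e P k)⁻¹ : GL (Fin n) F) : Matrix (Fin n) (Fin n) F) = Ψ (H46.glConj a X) := by
      rw [← map_inv, H46.glCoords_val, H46.glCoords_val]
      simp only [hΨ, ← map_mul]
      congr 1
      obtain rfl : k = H46.glKron a b := Units.ext hab
      show (a : Matrix (Fin n₁) (Fin n₁) F) ⊗ₖ (b : Matrix (Fin n₂) (Fin n₂) F) * _ *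
        (((a⁻¹ : GL (Fin n₁) F) : Matrix (Fin n₁) (Fin n₁) F) ⊗ₖ
          ((b⁻¹ : GL (Fin n₂) F) : Matrix (Fin n₂) (Fin n₂) F)) = _
      rw [H46.kronOne_apply, H46.kronOne_apply, ← Matrix.mul_kronecker_mul, ← Matrix.mul_kronecker_mul,
        mul_one, ← Units.val_mul b, mul_inv_cancel, Units.val_one, H46.glConj_apply]
    change ∀ x, (((H46.glCoords e P k : GL (Fin n) F) : Matrix (Fin n) (Fin n) F) * Ψ X *
        (((H46.glCoords e P k)⁻¹ : GL (Fin n) F) : Matrix (Fin n) (Fin n) F) - Ψ X) *ᵥ x ∈ _ at hvw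
    show ((H46.glCoords e P k : GL (Fin n) F) : Matrix (Fin n) (Fin n) F) * Ψ X *
        (((H46.glCoords e P k)⁻¹ : GL (Fin n) F) : Matrix (Fin n) (Fin n) F) = Ψ X
    rw [hconj] at hvw ⊢
    refine congrArg Ψ (Matrix.ext fun p r => ?_)
    by_contra hne
    simp only [hΨ, ← map_sub] at hvw
    refine sub_ne_zero.2 hne (H46.eq_zero_of_submatrix
      (D := ((H46.kronOne (Fin n₁) (Fin n₂) F (H46.glConj a X - X)).submatrix e e))
      (v := ((P⁻¹ : GL (Fin n) F) : Matrix (Fin n) (Fin n) F) *ᵥ v)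
      (w := ((P⁻¹ : GL (Fin n) F) : Matrix (Fin n) (Fin n) F) *ᵥ w)
      (fun u => ?_) (κ := Fin n₂) (by simpa using h2) (fun a => e.symm (p, a)) (fun a => e.symm (r, a))
      _ fun a b => by simp [H46.kronOne_apply, Matrix.one_apply])
    obtain ⟨α, β, hab'⟩ := Submodule.mem_span_pair.1 (hvw ((P : Matrix (Fin n) (Fin n) F) *ᵥ u))
    refine Submodule.mem_span_pair.2 ⟨α, β, ?_⟩
    rw [← Matrix.mulVec_smul, ← Matrix.mulVec_smul, ← Matrix.mulVec_add, hab']
    show ((P⁻¹ : GL (Fin n) F) : Matrix (Fin n) (Fin n) F) *ᵥ ((H46.glConj P _) *ᵥ _) = _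
    rw [H46.glConj_apply, Matrix.mulVec_mulVec, Matrix.mulVec_mulVec, ← Matrix.mul_assoc, ← Matrix.mul_assoc,
      ← Units.val_mul, inv_mul_cancel, Units.val_one, one_mul, Matrix.mul_assoc, ← Units.val_mul, inv_mul_cancel,
      Units.val_one, mul_one]
    rfl
  haveI : Nonempty (Fin n₂) := ⟨⟨0, by omega⟩⟩
  have hinj : Function.Injective Ψ := fun X Y hXY =>
    H46.kronOne_injective ((H46.matCoords e P).injective hXY)
  have hc' : Matrix.single i0 i1 (1 : F) = c • 1 := hinj (by
    rw [hc]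
    simp [hΨ, map_smul, map_one])
  have h3 := congrFun (congrFun hc' i0) i1
  simp [i0, i1, Fin.ext_iff] at h3

theorem not_suTv_wreath (hn : 2 ≤ n) {m t : ℕ} (hm : 3 ≤ m) (ht : 2 ≤ t)
    (e : Fin n ≃ (Fin t → Fin m)) (P : GL (Fin n) F) :
    ¬ HasSUTv q (tensorWreathSubgroup m t e P) := by
  intro h
  let i0 : Fin t := ⟨0, by omega⟩
  set X : Matrix (Fin m) (Fin m) F := Matrix.single ⟨0, by omega⟩ ⟨1, by omega⟩ 1 with hXdef
  have hX01 : X ⟨0, by omega⟩ ⟨1, by omega⟩ ≠ 0 := by simp [hXdef]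
  obtain ⟨c, hc⟩ := scalar_of_suTv hF hn h (H46.matCoords e P (H46.ptm (Function.update 1 i0 X)))
    fun g hg v w hvw => by
    obtain ⟨_, ⟨k, hk, rfl⟩, rfl⟩ := hg
    have hconj : H46.glConj (H46.glCoords e P k) (H46.matCoords e P (H46.ptm (Function.update 1 i0 X))) =
        H46.matCoords e P (H46.glConj k (H46.ptm (Function.update 1 i0 X))) := by
      rw [H46.glConj_apply, H46.glConj_apply, ← map_inv, H46.glCoords_val, H46.glCoords_val, map_mul, map_mul]
    obtain ⟨l, Y, hY⟩ := H46.wreath_normalizes hk i0 X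
    rw [hY, H46.glConj_apply] at hconj
    change ∀ x, (((H46.glCoords e P k : GL (Fin n) F) : Matrix (Fin n) (Fin n) F) * _ *
        (((H46.glCoords e P k)⁻¹ : GL (Fin n) F) : Matrix (Fin n) (Fin n) F) - _) *ᵥ x ∈ _ at hvw
    show ((H46.glCoords e P k : GL (Fin n) F) : Matrix (Fin n) (Fin n) F) * _ *
        (((H46.glCoords e P k)⁻¹ : GL (Fin n) F) : Matrix (Fin n) (Fin n) F) = _
    rw [hconj] at hvw ⊢
    rw [← map_sub] at hvw
    set D : Matrix (Fin n) (Fin n) F :=
      (H46.ptm (Function.update 1 l Y) - H46.ptm (Function.update 1 i0 X)).submatrix e e with hDdef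
    have hDle : ∀ u, D *ᵥ u ∈ Submodule.span F
        {((P⁻¹ : GL (Fin n) F) : Matrix (Fin n) (Fin n) F) *ᵥ v,
          ((P⁻¹ : GL (Fin n) F) : Matrix (Fin n) (Fin n) F) *ᵥ w} := by
      intro u
      have h3 := hvw ((P : Matrix (Fin n) (Fin n) F) *ᵥ u)
      simp only [H46.matCoords, AlgEquiv.trans_apply, H46.glConj_apply, Matrix.coe_reindexAlgEquiv,
        Matrix.reindex_apply, Equiv.symm_symm, Matrix.mulVec_mulVec, mul_assoc, ← Units.val_mul,
        inv_mul_cancel, Units.val_one, mul_one] at h3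
      obtain ⟨a, c, hac⟩ := Submodule.mem_span_pair.1 h3
      refine Submodule.mem_span_pair.2 ⟨a, c, ?_⟩
      rw [← Matrix.mulVec_smul, ← Matrix.mulVec_smul, ← Matrix.mulVec_add, hac, Matrix.mulVec_mulVec,
        ← mul_assoc, ← Units.val_mul, inv_mul_cancel, Units.val_one, one_mul]
    congr 1
    have hother : ∃ i1 : Fin t, i1 ≠ i0 ∧ (l = i0 ∨ l = i1) := by
      by_cases hl : l = i0
      · exact ⟨⟨1, by omega⟩, by simp [i0], Or.inl hl⟩
      · exact ⟨l, hl, Or.inr rfl⟩
    obtain ⟨i1, hi1, hl⟩ := hother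
    let pt : Fin m → Fin m → (Fin t → Fin m) := fun p a =>
      Function.update (fun k => if k = i0 then p else ⟨0, by omega⟩) i1 a
    have hpt : ∀ p a k, pt p a k = if k = i1 then a else if k = i0 then p else ⟨0, by omega⟩ := by
      intro p a k
      simp [pt, Function.update_apply]
    have hval : ∀ (s : Fin t) (Z : Matrix (Fin m) (Fin m) F) p r a b, (s = i0 ∨ s = i1) →
        H46.ptm (Function.update 1 s Z) (pt p a) (pt r b) =
          if s = i0 then Z p r * (if a = b then 1 else 0) else Z a b * (if p = r then 1 else 0) := by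
      intro s Z p r a b hs
      simp only [H46.ptm, Matrix.of_apply]
      rw [← Finset.prod_subset (Finset.subset_univ {i0, i1}) (fun k _ hk => by
        simp only [Finset.mem_insert, Finset.mem_singleton, not_or] at hk
        rw [Function.update_of_ne (by rcases hs with rfl | rfl <;> tauto)]
        rw [Pi.one_apply, hpt, hpt, if_neg hk.2, if_neg hk.1, if_neg hk.2, if_neg hk.1,
          Matrix.one_apply_eq]), Finset.prod_pair (Ne.symm hi1)]
      rcases hs with rfl | rfl
      · simp [hpt, Ne.symm hi1, hi1, Matrix.one_apply]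
      · simp [hpt, Ne.symm hi1, hi1, Matrix.one_apply, mul_comm]
    rcases hl with rfl | rfl
    · congr 2
      ext p r
      by_contra hne
      refine sub_ne_zero.2 hne (H46.eq_zero_of_submatrix hDle (κ := Fin m) (by simpa using hm)
        (fun a => e.symm (pt p a)) (fun a => e.symm (pt r a)) _ fun a b => ?_)
      simp [hDdef, hval, hi1]
      split_ifs <;> simp
    · have hoff : ∀ p r, p ≠ r → X p r = 0 := by
        intro p r hpr
        have := H46.eq_zero_of_submatrix hDle (κ := Fin m) (by simpa using hm)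
          (fun a => e.symm (pt p a)) (fun a => e.symm (pt r a)) (-(X p r)) fun a b => by
            simp [hDdef, hval, hi1, hpr]
            split_ifs <;> simp
        simpa using this
      exact absurd (hoff _ _ (by simp [Fin.ext_iff])) hX01
  have hc' : H46.ptm (Function.update 1 i0 X) = c • 1 := by
    apply (H46.matCoords e P).injective
    rw [hc, map_smul, map_one]
  have h3 := congrFun (congrFun hc' (Function.update (fun _ => ⟨0, by omega⟩) i0 ⟨0, by omega⟩))
    (Function.update (fun _ => ⟨0, by omega⟩) i0 ⟨1, by omega⟩)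
  rw [Matrix.smul_apply, Matrix.one_apply_ne (fun h => by simpa using congrFun h i0), smul_zero] at h3
  simp only [H46.ptm, Matrix.of_apply] at h3
  rw [Finset.prod_eq_one] at h3
  · exact one_ne_zero h3
  · intro k _
    rcases eq_or_ne k i0 with rfl | hk
    · simp [hXdef]
    · simp [Function.update_of_ne hk]

/-- An isotropic pair with inner product one and an anisotropic vector orthogonal to both. -/
theorem exists_hyp_aniso (hn : 3 ≤ n) : ∃ a b z : Fin n → F,
    hermForm n F q a a = 0 ∧ hermForm n F q b b = 0 ∧ hermForm n F q a b = 1 ∧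
      hermForm n F q b a = 1 ∧
      hermForm n F q z a = 0 ∧ hermForm n F q z b = 0 ∧ hermForm n F q z z ≠ 0 := by
  obtain ⟨a, ha, hae⟩ := exists_iso_pairing hF (by omega)
    (show (Pi.single (⟨0, by omega⟩ : Fin n) (1 : F) : Fin n → F) ≠ 0 by simp)
  have ha0 : a ≠ 0 := fun e => hae (by rw [e, H50.h_zero_left])
  obtain ⟨b₀, hb₀, hb₀a⟩ := exists_iso_pairing hF (by omega) ha0
  set b := (hermForm n F q b₀ a)⁻¹ • b₀ with hb
  have hbb : hermForm n F q b b = 0 := by
    rw [hb, H50.h_smul_left, H50.h_smul_right hF, hb₀, mul_zero, mul_zero]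
  have hba : hermForm n F q b a = 1 := by rw [hb, H50.h_smul_left, inv_mul_cancel₀ hb₀a]
  have hab : hermForm n F q a b = 1 := by rw [H50.h_symm hF b a, hba, one_pow]
  by_contra hcon
  push Not at hcon
  let pr : (Fin n → F) → (Fin n → F) := fun x => x - hermForm n F q x b • a - hermForm n F q x a • b
  have hpa : ∀ x, hermForm n F q (pr x) a = 0 := fun x => by
    simp [pr, H50.h_sub_left, H50.h_smul_left, ha, hba]
  have hpb : ∀ x, hermForm n F q (pr x) b = 0 := fun x => by
    simp [pr, H50.h_sub_left, H50.h_smul_left, hbb, hab]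
  have hzero : ∀ z, hermForm n F q z a = 0 → hermForm n F q z b = 0 → hermForm n F q z z = 0 :=
    fun z h1 h2 => hcon a b z ha hbb hab hba h1 h2
  have hall : ∀ x, pr x = 0 := by
    intro x
    refine H50.eq_zero_of_h_left hF fun y => ?_
    have h1 : ∀ c : F, c * hermForm n F q (pr x) (pr y) + (c * hermForm n F q (pr x) (pr y)) ^ q = 0 := by
      intro c
      have := hzero (c • pr x + pr y) (by simp [H50.h_add_left, H50.h_smul_left, hpa])
        (by simp [H50.h_add_left, H50.h_smul_left, hpb])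
      simp only [H50.h_add_left, H50.h_add_right hF, H50.h_smul_left, H50.h_smul_right hF,
        hzero _ (hpa x) (hpb x), hzero _ (hpa y) (hpb y), H50.h_symm hF (pr x) (pr y)] at this
      rw [mul_pow]
      linear_combination this
    have h2 : hermForm n F q (pr x) (pr y) = 0 := by
      by_contra hne
      obtain ⟨d, hd⟩ := H50.exists_trace_ne_zero hF
      have := h1 (d / hermForm n F q (pr x) (pr y))
      rw [div_mul_cancel₀ _ hne] at this
      exact hd this
    calc hermForm n F q (pr x) y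
        = hermForm n F q (pr x) (pr y + (hermForm n F q y b • a + hermForm n F q y a • b)) := by
          congr 1
          simp [pr]
      _ = 0 := by simp [H50.h_add_right hF, H50.h_smul_right hF, h2, hpa, hpb]
  have htop : (⊤ : Submodule F (Fin n → F)) ≤ Submodule.span F {a, b} := fun x _ => by
    have e : x = hermForm n F q x b • a + hermForm n F q x a • b := by
      have := hall x
      simp only [pr, sub_sub, sub_eq_zero] at this
      exact this
    rw [e]
    exact Submodule.mem_span_pair.2 ⟨_, _, rfl⟩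
  classical
  have h2 : Module.finrank F (Submodule.span F ({a, b} : Set (Fin n → F))) ≤ 2 := by
    have : ({a, b} : Set (Fin n → F)) = (({a, b} : Finset (Fin n → F)) : Set (Fin n → F)) := by simp
    rw [this]
    exact (finrank_span_finset_le_card _).trans Finset.card_le_two
  rw [top_le_iff.1 htop, finrank_top, Module.finrank_fintype_fun_eq_card, Fintype.card_fin] at h2
  omega

theorem trace_conj_mem {F₀ : Subfield F} (P : GL (Fin n) F) {g : GL (Fin n) F}
    (hg : g ∈ ⁅subfieldSubgroup F₀ P, subfieldSubgroup F₀ P⁆) :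
    (g : Matrix (Fin n) (Fin n) F).trace ∈ F₀ := by
  rw [subfieldSubgroup, ← Subgroup.map_commutator, H46.commutator_sup_scalars] at hg
  obtain ⟨x, hx, rfl⟩ := hg
  obtain ⟨A, rfl⟩ := Subgroup.commutator_le_self _ hx
  show ((P * Matrix.GeneralLinearGroup.map (F₀.subtype : F₀ →+* F) A * P⁻¹ : GL (Fin n) F) :
    Matrix (Fin n) (Fin n) F).trace ∈ F₀
  rw [Units.val_mul, Units.val_mul, Matrix.trace_mul_comm, ← mul_assoc, ← Units.val_mul,
    inv_mul_cancel, Units.val_one, one_mul]
  exact Subfield.sum_mem _ fun i _ => ((A : Matrix (Fin n) (Fin n) F₀) i i).2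

theorem not_su_le_subfield (hn : 3 ≤ n) (h32 : ¬(n = 3 ∧ q = 2)) {F₀ : Subfield F} (hF₀ : F₀ ≠ ⊤)
    (P : GL (Fin n) F) : ¬ suGL n F q ≤ subfieldSubgroup F₀ P := by
  intro hle
  apply hF₀
  obtain ⟨a, b, z, ha, hb, hab, hba, hza, hzb, hzz⟩ := exists_hyp_aniso hF hn
  obtain ⟨d, hd0, hd⟩ := H50.exists_trace_zero_ne_zero hF
  set E : (Fin n → F) → Matrix (Fin n) (Fin n) F :=
    fun v => Matrix.vecMulVec v (fun j => v j ^ q) with hE
  have htr : ∀ g ∈ suGL n F q, (g : Matrix (Fin n) (Fin n) F).trace ∈ F₀ := fun g hg =>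
    trace_conj_mem hF P (Subgroup.commutator_mono hle hle ((suGL_perfect hF hn h32).ge hg))
  have hT : ∀ v, hermForm n F q v v = 0 → ∃ g ∈ suGL n F q,
      (g : Matrix (Fin n) (Fin n) F) = 1 + d • E v := fun v hv =>
    ⟨toGLHom n F q (H50.tv hF v d hv hd), range_toGLHom.le ⟨_, rfl⟩, rfl⟩
  have hdot : ∀ u v : Fin n → F, (fun j => u j ^ q) ⬝ᵥ v = hermForm n F q v u := fun u v => by
    simp [dotProduct, hermForm, mul_comm]
  have hdot' : ∀ u v : Fin n → F, u ⬝ᵥ (fun j => v j ^ q) = hermForm n F q u v := fun u v => by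
    rw [dotProduct_comm, hdot]
  have hE1 : ∀ u, (E u).trace = hermForm n F q u u := fun u => by
    rw [hE]; simp only [Matrix.trace_vecMulVec, hdot']
  have hE2 : ∀ u v, (E u * E v).trace = hermForm n F q v u * hermForm n F q u v := fun u v => by
    rw [hE]
    simp only [Matrix.vecMulVec_mul_vecMulVec, hdot, Matrix.trace_smul, Matrix.vecMulVec_smul,
      Matrix.smul_vecMulVec, Matrix.trace_vecMulVec, dotProduct_smul, hdot', smul_eq_mul]
  have hE3 : ∀ u v w, (E u * E v * E w).trace =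
      hermForm n F q v u * hermForm n F q w v * hermForm n F q u w := fun u v w => by
    rw [hE]
    simp only [Matrix.vecMulVec_mul_vecMulVec, hdot, Matrix.smul_mul, Matrix.vecMulVec_smul,
      Matrix.smul_vecMulVec, Matrix.trace_smul, Matrix.trace_vecMulVec, dotProduct_smul, hdot',
      smul_eq_mul]
    ring
  have hpair : ∀ u v, hermForm n F q u u = 0 → hermForm n F q v v = 0 →
      d * d * (hermForm n F q v u * hermForm n F q u v) ∈ F₀ := by
    intro u v hu hv
    obtain ⟨g, hg, hgu⟩ := hT u hu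
    obtain ⟨k, hk, hkv⟩ := hT v hv
    have := htr _ (mul_mem hg hk)
    rw [Units.val_mul, hgu, hkv] at this
    simp only [add_mul, mul_add, one_mul, mul_one, Matrix.smul_mul, Matrix.mul_smul, smul_add,
      smul_smul, Matrix.trace_add, Matrix.trace_smul, Matrix.trace_one, hE1, hE2, hu, hv, mul_zero,
      add_zero, zero_add, smul_eq_mul, Fintype.card_fin] at this
    have h2 := sub_mem this (natCast_mem F₀ n)
    rwa [add_sub_cancel_left] at h2
  rw [eq_top_iff]
  intro w₀ _
  set w := w₀ / (d * d * d) with hw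
  obtain ⟨μ, hμ⟩ := H50.exists_norm_eq hF (c := -(w + w ^ q) / hermForm n F q z z) (by
    rw [div_pow, H50.neg_pow_q hF, H50.trace_fixed hF, H50.h_self_fixed hF])
  set c := w • a + b + μ • z with hcdef
  have haz : hermForm n F q a z = 0 := (H50.h_eq_zero_comm hF).1 hza
  have hbz : hermForm n F q b z = 0 := (H50.h_eq_zero_comm hF).1 hzb
  have hcc : hermForm n F q c c = 0 := by
    simp only [hcdef, H50.h_add_left, H50.h_add_right hF, H50.h_smul_left, H50.h_smul_right hF, ha,
      hb, hab, hba, hza, hzb, haz, hbz, mul_zero, add_zero, zero_add, mul_one]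
    rw [← mul_assoc, ← pow_succ, hμ, div_mul_cancel₀ _ hzz]
    ring
  obtain ⟨g1, hg1, hg1'⟩ := hT a ha
  obtain ⟨g2, hg2, hg2'⟩ := hT b hb
  obtain ⟨g3, hg3, hg3'⟩ := hT c hcc
  have := htr _ (mul_mem (mul_mem hg1 hg2) hg3)
  rw [Units.val_mul, Units.val_mul, hg1', hg2', hg3'] at this
  simp only [add_mul, mul_add, one_mul, mul_one, Matrix.smul_mul, Matrix.mul_smul, smul_add,
    smul_smul, Matrix.trace_add, Matrix.trace_smul, Matrix.trace_one, hE1, hE2, hE3, ha, hb, hcc,
    mul_zero, add_zero, zero_add, smul_eq_mul, Fintype.card_fin] at this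
  have h2 : d * d * d * (hermForm n F q b a * hermForm n F q c b * hermForm n F q a c) ∈ F₀ := by
    have := sub_mem (sub_mem (sub_mem (sub_mem this (natCast_mem F₀ n)) (hpair a b ha hb))
      (hpair a c ha hcc)) (hpair b c hb hcc)
    convert this using 1
    ring
  simpa [hcdef, H50.h_add_left, H50.h_add_right hF, H50.h_smul_left, H50.h_smul_right hF, ha, hb, hab,
    hba, hza, hzb, haz, hbz, hw, mul_div_cancel₀ _ (mul_ne_zero (mul_ne_zero hd0 hd0) hd0)] using h2

/-- The normaliser of an absolutely irreducible group of prime power order. -/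
theorem not_su_le_normalizer (hn : 3 ≤ n) (h32 : ¬(n = 3 ∧ q = 2)) {r : ℕ} (hr : r.Prime)
    {R : Subgroup (GL (Fin n) F)} (hR : IsPGroup r R)
    (hsim : R ≤ similarityGroup (hermForm n F q)) (habs : ActsAbsolutelyIrreducibly (matrixSet R)) :
    ¬ suGL n F q ≤ subgroupNormalizer R := by
  intro hle
  haveI : Fact r.Prime := ⟨hr⟩
  haveI : Nonempty (Fin n) := ⟨⟨0, by omega⟩⟩
  have hperf := suGL_perfect (F := F) hF hn h32
  have hconj : ∀ y ∈ R, ∀ k ∈ suGL n F q, y * k * y⁻¹ ∈ suGL n F q := by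
    intro y hy k hk
    obtain ⟨hk1, hk2⟩ := Subgroup.mem_inf.1 hk
    refine Subgroup.mem_inf.2 ⟨fun u v => ?_, (MonoidHom.normal_ker _).conj_mem k hk2 y⟩
    obtain ⟨l, hl⟩ := hsim hy
    have hu : ∀ x, x = (y : Matrix (Fin n) (Fin n) F) *ᵥ (((y⁻¹ : GL (Fin n) F) : Matrix (Fin n) (Fin n) F) *ᵥ x) :=
      fun x => by rw [Matrix.mulVec_mulVec, ← Units.val_mul, mul_inv_cancel, Units.val_one, Matrix.one_mulVec]
    show hermForm n F q (((y * k * y⁻¹ : GL (Fin n) F) : Matrix (Fin n) (Fin n) F) *ᵥ u)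
      (((y * k * y⁻¹ : GL (Fin n) F) : Matrix (Fin n) (Fin n) F) *ᵥ v) = _
    simp only [Units.val_mul, ← Matrix.mulVec_mulVec]
    have hk' : ∀ u v, hermForm n F q ((k : Matrix (Fin n) (Fin n) F) *ᵥ u)
        ((k : Matrix (Fin n) (Fin n) F) *ᵥ v) = hermForm n F q u v := hk1
    rw [hl, hk', ← hl, ← hu, ← hu]
  have hnormN : ∀ g ∈ suGL n F q, ∀ x ∈ R ⊓ suGL n F q, g * x * g⁻¹ ∈ R ⊓ suGL n F q :=
    fun g hg x hx => Subgroup.mem_inf.2 ⟨(Subgroup.mem_normalizer_iff.1 (hle hg) x).1 hx.1,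
      mul_mem (mul_mem hg hx.2) (inv_mem hg)⟩
  rcases normal_dichotomy hF hn h32 inf_le_right hnormN with h | h
  · have hsc : R ≤ scalars (Fin n) F := by
      intro y hy
      have hcom : ∀ k ∈ suGL n F q, y * k * y⁻¹ * k⁻¹ ∈ scalars (Fin n) F := fun k hk => by
        refine h (Subgroup.mem_inf.2 ⟨?_, mul_mem (hconj y hy k hk) (inv_mem hk)⟩)
        rw [show y * k * y⁻¹ * k⁻¹ = y * (k * y⁻¹ * k⁻¹) by group]
        exact mul_mem hy ((Subgroup.mem_normalizer_iff.1 (hle hk) _).1 (inv_mem hy))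
      have hcomm := H46.commute_of_perfect hperf hcom
      obtain ⟨c, hc⟩ := scalar_of_suTv hF (by omega) (hasSUTv_of_le hF (le_refl (suGL n F q)))
        (y : Matrix (Fin n) (Fin n) F) fun g hg _ _ _ => by
          rw [← Units.val_mul, ← hcomm g hg, ← Units.val_mul, mul_inv_cancel_right]
      exact H46.mem_scalars_of_eq_smul hc
    haveI : Nontrivial (Fin n) := Fin.nontrivial_iff_two_le.2 (by omega)
    obtain ⟨i, j, hij⟩ := exists_pair_ne (Fin n)
    obtain ⟨c, hc⟩ := habs.2 (Matrix.single i j 1) (by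
      rintro _ ⟨x, hx, rfl⟩
      obtain ⟨u, rfl⟩ := H46.exists_scl (hsc hx)
      show _ * ((H46.scl (Fin n) u : GL (Fin n) F) : Matrix (Fin n) (Fin n) F) =
        ((H46.scl (Fin n) u : GL (Fin n) F) : Matrix (Fin n) (Fin n) F) * _
      rw [H46.scl_val, Matrix.mul_smul, Matrix.smul_mul, mul_one, one_mul])
    have := congrFun (congrFun hc i) j
    simp [hij] at this
  · have hS : IsPGroup r (suGL n F q) := hR.to_le (h.ge.trans inf_le_left)
    haveI : Finite (suGL n F q) := inferInstance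
    haveI := hS.isNilpotent
    haveI : Nontrivial (suGL n F q) := by
      obtain ⟨a, b, z, ha, hb, hab, hba, -⟩ := exists_hyp_aniso hF hn
      obtain ⟨d, hd0, hd⟩ := H50.exists_trace_zero_ne_zero hF
      refine ⟨⟨⟨_, range_toGLHom.le ⟨H50.tv hF a d ha hd, rfl⟩⟩, 1, fun e => ?_⟩⟩
      have e1 := congrArg (fun y : suGL n F q => ((y : GL (Fin n) F) : Matrix (Fin n) (Fin n) F) *ᵥ b) e
      simp only [toGLHom_val, H50.tv_mulVec, hba, mul_one, OneMemClass.coe_one, Units.val_one,
        Matrix.one_mulVec, add_eq_left, smul_eq_zero] at e1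
      rcases e1 with e1 | e1
      · exact hd0 e1
      · rw [e1, H50.h_zero_left] at hab
        exact zero_ne_one hab
    refine (IsSolvable.commutator_lt_top_of_nontrivial (suGL n F q)).ne ?_
    refine Subgroup.map_injective (suGL n F q).subtype_injective ?_
    rw [Subgroup.map_subtype_commutator, hperf, ← MonoidHom.range_eq_map, Subgroup.range_subtype]

end H38.SUMax
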