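import Cfsg.Agent.H38.SUMax.Exclude
import Cfsg.Agent.H51.Herm
import Mathlib.Algebra.QuadraticAlgebra.Basic
import Mathlib.FieldTheory.Finite.GaloisField

/-!
Computable models of the fields with 4, 9 and 25 elements, and unitary matrices written over them.
-/

set_option autoImplicit false
set_option linter.unusedSectionVars false

open Cfsg Cfsg.Geo
open scoped Matrix MatrixGroups

namespace H38.SUMax

instance fintypeQuad {R : Type*} [Fintype R] (a b : R) : Fintype (QuadraticAlgebra R a b) :=
  Fintype.ofEquiv (R × R) (QuadraticAlgebra.equivProd a b).symm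

/-- The field with four elements, w² = 1 + w. -/
abbrev Quad4 : Type := QuadraticAlgebra (ZMod 2) 1 1

/-- The field with nine elements, i² = -1. -/
abbrev Quad9 : Type := QuadraticAlgebra (ZMod 3) 2 0

/-- The field with twenty-five elements, s² = 2. -/
abbrev Quad25 : Type := QuadraticAlgebra (ZMod 5) 2 0

instance fact4 : Fact (∀ r : ZMod 2, r ^ 2 ≠ 1 + 1 * r) := ⟨by decide⟩
instance fact9 : Fact (∀ r : ZMod 3, r ^ 2 ≠ 2 + 0 * r) := ⟨by decide⟩
instance fact25 : Fact (∀ r : ZMod 5, r ^ 2 ≠ 2 + 0 * r) := ⟨by decide⟩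
instance prime5 : Fact (Nat.Prime 5) := ⟨by norm_num⟩

/-- A field with as many elements as a given one is isomorphic to it. -/
theorem exists_model (K : Type) [Field K] [Fintype K] {F : Type*} [Field F] [Fintype F]
    (h : Fintype.card K = Fintype.card F) : Nonempty (K ≃+* F) :=
  ⟨FiniteField.ringEquivOfCardEq h⟩

/-- A matrix over the model which is unitary of determinant one gives an element of SU. -/
theorem exists_of_model {F : Type*} [Field F] [Fintype F] {n q : ℕ} (hF : Fintype.card F = q ^ 2)
    {K : Type} [CommRing K] (e : K →+* F) {M : Matrix (Fin n) (Fin n) K}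
    (h1 : (M.map fun z => z ^ q)ᵀ * M = 1) (h2 : M.det = 1) :
    ∃ x ∈ suGL n F q, (x : Matrix (Fin n) (Fin n) F) = M.map e := by
  have h3 : H51.adj hF (M.map e) * M.map e = 1 := by
    rw [H51.adj_def, show (M.map e).map (fun z : F => z ^ q) = (M.map fun z => z ^ q).map e by
      ext i j; simp, ← Matrix.transpose_map, ← Matrix.map_mul, h1, Matrix.map_one _ e.map_zero e.map_one]
  refine ⟨H51.mkGL hF _ h3, Subgroup.mem_inf.2 ⟨H51.mkGL_mem hF _ h3, Units.ext ?_⟩, rfl⟩
  show (M.map e).det = 1
  rw [← RingHom.mapMatrix_apply, ← RingHom.map_det, h2, map_one]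

theorem map_mulVec_model {K F : Type*} [CommRing K] [CommRing F] {n : ℕ} (e : K →+* F)
    (M : Matrix (Fin n) (Fin n) K) (c : Fin n → K) :
    M.map e *ᵥ (e ∘ c) = e ∘ (M *ᵥ c) :=
  (funext fun i => RingHom.map_mulVec e M c i).symm

end H38.SUMax
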