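import Cfsg.Agent.H38.SUMax.Exclude
import Cfsg.Agent.H46.ClsFieldAux

/-!
SU(3,p), p = 3 or 5: orthonormal coordinates for an orthogonal subfield structure.
-/

set_option autoImplicit false
set_option linter.unusedSectionVars false
set_option linter.style.haveILetI false
set_option maxHeartbeats 1000000

open Cfsg Cfsg.Geo
open scoped Matrix MatrixGroups

namespace H38.SUMax.Three

theorem pair_three : ∀ d0 d1 d2 : ZMod 3, d0 ≠ 0 → d1 ≠ 0 → d2 ≠ 0 →
    (∃ t, d0 = d1 * t ^ 2 ∧ ∃ s, s ≠ 0 ∧ ∃ x y, d0 * (x ^ 2 + y ^ 2) = d2 * s ^ 2) ∨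
    (∃ t, d1 = d2 * t ^ 2 ∧ ∃ s, s ≠ 0 ∧ ∃ x y, d1 * (x ^ 2 + y ^ 2) = d0 * s ^ 2) ∨
    (∃ t, d2 = d0 * t ^ 2 ∧ ∃ s, s ≠ 0 ∧ ∃ x y, d2 * (x ^ 2 + y ^ 2) = d1 * s ^ 2) := by decide

theorem pair_five : ∀ d0 d1 d2 : ZMod 5, d0 ≠ 0 → d1 ≠ 0 → d2 ≠ 0 →
    (∃ t, d0 = d1 * t ^ 2 ∧ ∃ s, s ≠ 0 ∧ ∃ x y, d0 * (x ^ 2 + y ^ 2) = d2 * s ^ 2) ∨
    (∃ t, d1 = d2 * t ^ 2 ∧ ∃ s, s ≠ 0 ∧ ∃ x y, d1 * (x ^ 2 + y ^ 2) = d0 * s ^ 2) ∨
    (∃ t, d2 = d0 * t ^ 2 ∧ ∃ s, s ≠ 0 ∧ ∃ x y, d2 * (x ^ 2 + y ^ 2) = d1 * s ^ 2) := by decide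

theorem two_ne_three : (2 : ZMod 3) ≠ 0 := by decide

theorem two_ne_five : (2 : ZMod 5) ≠ 0 := by decide

theorem root_three : ∀ ν d : ZMod 3, ν ≠ 0 → ν ^ 3 = d ^ 2 → ∃ μ, μ * μ = ν := by decide

theorem root_five : ∀ ν d : ZMod 5, ν ≠ 0 → ν ^ 3 = d ^ 2 → ∃ μ, μ * μ = ν := by decide

variable {F : Type*} [Field F] [Fintype F] {p : ℕ}

/-- In suitable orthonormal coordinates the elements of SU preserving an orthogonal subfield
structure are cube roots of unity times elements of SO(3,p). -/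
theorem exists_real_coords (hp : p = 3 ∨ p = 5) (hF : Fintype.card F = p ^ 2) {F₀ : Subfield F}
    (hc : Fintype.card F = Nat.card F₀ ^ 2) {P : GL (Fin 3) F}
    (hrat : IsFormRationalStructure (hermForm 3 F p) F₀ 1 P) {H : Subgroup (GL (Fin 3) F)}
    (hSU : H ≤ suGL 3 F p) (hle : H ≤ subfieldSubgroup F₀ P) :
    ∃ (φ : ZMod p →+* F), Function.Injective φ ∧ ∃ u ∈ Cfsg.GU 3 F p, ∀ g ∈ H, ∃ (l : F)
      (R : Matrix (Fin 3) (Fin 3) (ZMod p)), l ^ 3 = 1 ∧ Rᵀ * R = 1 ∧ R.det = 1 ∧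
      ((u⁻¹ * g * u : GL (Fin 3) F) : Matrix (Fin 3) (Fin 3) F) = l • R.map φ := by
  classical
  haveI hpp : Fact p.Prime := ⟨by rcases hp with rfl | rfl <;> norm_num⟩
  haveI hcharF : CharP F p := by
    obtain ⟨r, f, hr, -, hc', hqp⟩ := H50.exists_prime_pow hF
    obtain rfl : r = p := (Nat.prime_dvd_prime_iff_eq hr hpp.out).1
      (hqp ▸ dvd_pow_self r (by rintro rfl; simp at hqp; exact hpp.out.ne_one hqp))
    exact hc'
  set φ := ZMod.castHom dvd_rfl F with hφ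
  have hinj : Function.Injective φ := ZMod.castHom_injective F
  refine ⟨φ, hinj, ?_⟩
  haveI : Invertible (2 : ZMod p) := invertibleOfNonzero (by
    rcases hp with rfl | rfl
    · exact two_ne_three
    · exact two_ne_five)
  have hcard0 : Nat.card F₀ = p := Nat.pow_left_injective (by norm_num) (hc.symm.trans hF)
  have hmemφ : ∀ k, φ k ∈ F₀ := fun k => by
    rw [show φ k = ((k.val : ℕ) : F) by rw [← map_natCast φ, ZMod.natCast_zmod_val]]
    exact natCast_mem F₀ _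
  have hsurj : ∀ x ∈ F₀, ∃ k, φ k = x := by
    intro x hx
    let j : ZMod p → F₀ := fun k => ⟨φ k, hmemφ k⟩
    have hj : Function.Bijective j := (Nat.bijective_iff_injective_and_card j).2
      ⟨fun a b h => hinj (congrArg Subtype.val h), by rw [hcard0, Nat.card_zmod]⟩
    obtain ⟨k, hk⟩ := hj.2 ⟨x, hx⟩
    exact ⟨k, congrArg Subtype.val hk⟩
  have hfix : ∀ k, φ k ^ p = φ k := fun k => by rw [← map_pow, ZMod.pow_card]
  -- the Gram matrix of the rational structure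
  have hent : ∀ i j, hermForm 3 F p ((P : Matrix (Fin 3) (Fin 3) F) *ᵥ Pi.single i 1)
      ((P : Matrix (Fin 3) (Fin 3) F) *ᵥ Pi.single j 1) ∈ F₀ := by
    intro i j
    have hs : ∀ i k, (Pi.single i 1 : Fin 3 → F) k ∈ F₀ := fun i k => by
      rcases eq_or_ne k i with rfl | hk
      · rw [Pi.single_eq_same]; exact one_mem _
      · rw [Pi.single_eq_of_ne hk]; exact zero_mem _
    simpa using hrat _ _ (hs i) (hs j)
  choose G hG using fun i j => hsurj _ (hent i j)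
  set B : LinearMap.BilinForm (ZMod p) (Fin 3 → ZMod p) := Matrix.toBilin' (Matrix.of G) with hBdef
  have hBf : ∀ a b : Fin 3 → ZMod p, hermForm 3 F p ((P : Matrix (Fin 3) (Fin 3) F) *ᵥ (φ ∘ a))
      ((P : Matrix (Fin 3) (Fin 3) F) *ᵥ (φ ∘ b)) = φ (B a b) := by
    intro a b
    have hx : ∀ a : Fin 3 → ZMod p, (P : Matrix (Fin 3) (Fin 3) F) *ᵥ (φ ∘ a) =
        ∑ i, φ (a i) • ((P : Matrix (Fin 3) (Fin 3) F) *ᵥ Pi.single i 1) := fun a => by
      simp only [← Matrix.mulVec_smul, ← Matrix.mulVec_sum]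
      congr 1
      ext i
      simp [Pi.single_apply, Finset.sum_apply]
    rw [hx, hx, H50.h_sum_left, hBdef, Matrix.toBilin'_apply]
    simp only [H50.h_sum_right hF, H50.h_smul_left, H50.h_smul_right hF, hfix, map_sum, map_mul,
      Matrix.of_apply, hG]
    exact Finset.sum_congr rfl fun i _ => Finset.sum_congr rfl fun j _ => by ring
  have hsymm : ∀ a b, B a b = B b a := fun a b => hinj (by
    rw [← hBf, ← hBf, H50.h_symm hF, hBf, hfix])
  obtain ⟨v, hv⟩ := LinearMap.BilinForm.exists_orthogonal_basis (B := B) ⟨hsymm⟩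
  let v' := v.reindex (finCongr (by simp : Module.finrank (ZMod p) (Fin 3 → ZMod p) = 3))
  have hv' : ∀ i j, i ≠ j → B (v' i) (v' j) = 0 := fun i j hij => by
    simp only [v', Module.Basis.reindex_apply]
    exact hv ((finCongr _).symm.injective.ne hij)
  have hd : ∀ i, B (v' i) (v' i) ≠ 0 := by
    intro i hi
    have hall : ∀ b, B (v' i) b = 0 := by
      intro b
      rw [← v'.sum_repr b, map_sum]
      refine Finset.sum_eq_zero fun j _ => ?_
      rw [map_smul]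
      rcases eq_or_ne i j with rfl | hij
      · rw [hi, smul_zero]
      · rw [hv' i j hij, smul_zero]
    have h0 : (P : Matrix (Fin 3) (Fin 3) F) *ᵥ (φ ∘ v' i) = 0 := by
      refine H50.eq_zero_of_h_left hF fun z => ?_
      obtain ⟨w, rfl⟩ : ∃ w, (P : Matrix (Fin 3) (Fin 3) F) *ᵥ w = z :=
        ⟨((P⁻¹ : GL (Fin 3) F) : Matrix (Fin 3) (Fin 3) F) *ᵥ z, by
          rw [Matrix.mulVec_mulVec, ← Units.val_mul, mul_inv_cancel, Units.val_one, Matrix.one_mulVec]⟩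
      rw [show w = ∑ j, w j • (φ ∘ Pi.single j 1) by
          ext k; simp [Pi.single_apply, Finset.sum_apply, apply_ite φ],
        Matrix.mulVec_sum, H50.h_sum_right hF]
      refine Finset.sum_eq_zero fun j _ => ?_
      rw [Matrix.mulVec_smul, H50.h_smul_right hF, hBf, hall, map_zero, mul_zero]
    apply v'.ne_zero i
    funext k
    apply hinj
    have h1 : φ ∘ v' i = 0 := Matrix.mulVec_injective_of_isUnit P.isUnit (h0.trans (Matrix.mulVec_zero _).symm)
    rw [Pi.zero_apply, map_zero]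
    exact congrFun h1 k
  -- an orthogonal basis with constant diagonal
  obtain ⟨c, hc0, w, hw⟩ : ∃ c : ZMod p, c ≠ 0 ∧ ∃ w : Fin 3 → Fin 3 → ZMod p,
      ∀ i j, B (w i) (w j) = if i = j then c else 0 := by
    have key : ∀ i j k : Fin 3, i ≠ j → i ≠ k → j ≠ k →
        (∃ t, B (v' i) (v' i) = B (v' j) (v' j) * t ^ 2 ∧ ∃ s, s ≠ 0 ∧ ∃ x y,
          B (v' i) (v' i) * (x ^ 2 + y ^ 2) = B (v' k) (v' k) * s ^ 2) →
        ∃ c : ZMod p, c ≠ 0 ∧ ∃ w : Fin 3 → Fin 3 → ZMod p,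
          ∀ i j, B (w i) (w j) = if i = j then c else 0 := by
      rintro i j k hij hik hjk ⟨t, ht, s, hs, x, y, hxy⟩
      refine ⟨B (v' k) (v' k) * s ^ 2, mul_ne_zero (hd k) (pow_ne_zero _ hs),
        ![x • v' i + (y * t) • v' j, (-y) • v' i + (x * t) • v' j, s • v' k], fun a b => ?_⟩
      fin_cases a <;> fin_cases b <;>
        simp [hv' _ _ hij, hv' _ _ hij.symm, hv' _ _ hik, hv' _ _ hik.symm, hv' _ _ hjk, hv' _ _ hjk.symm] <;>
        first
          | ring1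
          | linear_combination hxy - y ^ 2 * ht
          | linear_combination hxy - x ^ 2 * ht
          | linear_combination (-(x * y)) * ht
          | linear_combination (x * y) * ht
    have h3 := (by
      rcases hp with rfl | rfl
      · exact pair_three _ _ _ (hd 0) (hd 1) (hd 2)
      · exact pair_five _ _ _ (hd 0) (hd 1) (hd 2) :
      (∃ t, B (v' 0) (v' 0) = B (v' 1) (v' 1) * t ^ 2 ∧ ∃ s, s ≠ 0 ∧ ∃ x y,
        B (v' 0) (v' 0) * (x ^ 2 + y ^ 2) = B (v' 2) (v' 2) * s ^ 2) ∨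
      (∃ t, B (v' 1) (v' 1) = B (v' 2) (v' 2) * t ^ 2 ∧ ∃ s, s ≠ 0 ∧ ∃ x y,
        B (v' 1) (v' 1) * (x ^ 2 + y ^ 2) = B (v' 0) (v' 0) * s ^ 2) ∨
      (∃ t, B (v' 2) (v' 2) = B (v' 0) (v' 0) * t ^ 2 ∧ ∃ s, s ≠ 0 ∧ ∃ x y,
        B (v' 2) (v' 2) * (x ^ 2 + y ^ 2) = B (v' 1) (v' 1) * s ^ 2))
    rcases h3 with h | h | h
    · exact key 0 1 2 (by decide) (by decide) (by decide) h
    · exact key 1 2 0 (by decide) (by decide) (by decide) h
    · exact key 2 0 1 (by decide) (by decide) (by decide) h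
  obtain ⟨l₀, hl₀⟩ := H50.exists_norm_eq hF (c := φ c) (hfix c)
  have hc' : φ c ≠ 0 := (map_ne_zero_iff _ hinj).2 hc0
  have hl0 : l₀ ≠ 0 := fun h => hc' (by rw [← hl₀, h, zero_pow (by omega)])
  set T : Matrix (Fin 3) (Fin 3) (ZMod p) := Matrix.of fun r i => w i r with hT
  set U : Matrix (Fin 3) (Fin 3) F := l₀⁻¹ • ((P : Matrix (Fin 3) (Fin 3) F) * T.map φ) with hU
  have hUcol : ∀ i, U *ᵥ Pi.single i 1 = l₀⁻¹ • ((P : Matrix (Fin 3) (Fin 3) F) *ᵥ (φ ∘ w i)) := fun i => by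
    rw [hU, Matrix.smul_mulVec, ← Matrix.mulVec_mulVec, Matrix.mulVec_single_one]
    rfl
  have hiso : H50.IsIso p U := by
    intro x y
    have hx : ∀ x : Fin 3 → F, U *ᵥ x = ∑ i, x i • (U *ᵥ Pi.single i 1) := fun x => by
      simp only [← Matrix.mulVec_smul, ← Matrix.mulVec_sum]
      congr 1
      ext i
      simp [Pi.single_apply, Finset.sum_apply]
    have hon : ∀ i j, hermForm 3 F p (U *ᵥ Pi.single i 1) (U *ᵥ Pi.single j 1) = if i = j then 1 else 0 := by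
      intro i j
      rw [hUcol, hUcol, H50.h_smul_left, H50.h_smul_right hF, hBf, hw]
      split
      · rw [inv_pow, ← mul_assoc, ← mul_inv, ← pow_succ', hl₀, inv_mul_cancel₀ hc']
      · rw [map_zero, mul_zero, mul_zero]
    rw [hx, hx, H50.h_sum_left]
    simp only [H50.h_sum_right hF, H50.h_smul_left, H50.h_smul_right hF, hon, mul_ite, mul_one,
      mul_zero, Finset.sum_ite_eq, Finset.mem_univ, if_true]
    simp [hermForm, mul_comm]
  set u := Matrix.GeneralLinearGroup.mkOfDetNeZero U (H50.IsIso.det_ne_zero hF hiso) with hu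
  have huU : u ∈ Cfsg.GU 3 F p := hiso
  refine ⟨u, huU, fun g hg => ?_⟩
  have hTdet : T.det ≠ 0 := by
    intro h
    refine H50.IsIso.det_ne_zero hF hiso ?_
    rw [hU, Matrix.det_smul, Matrix.det_mul, ← RingHom.mapMatrix_apply, ← RingHom.map_det, h, map_zero,
      mul_zero, mul_zero]
  -- the element in the rational structure
  obtain ⟨y, hy, hyg⟩ := hle hg
  haveI : (scalars (Fin 3) F).Normal := ⟨fun a ha b => by
    rw [← H46.scalars_mul_comm ha, mul_inv_cancel_right]; exact ha⟩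
  obtain ⟨_, ⟨S, rfl⟩, z, hz, rfl⟩ := Subgroup.mem_sup_of_normal_right.1 hy
  obtain ⟨lz, hlz⟩ := (Cfsg.Geo.mem_scalars_iff z).1 hz
  choose S' hS' using fun i j => hsurj _ ((S : Matrix (Fin 3) (Fin 3) F₀) i j).2
  set R₀ : Matrix (Fin 3) (Fin 3) (ZMod p) := T⁻¹ * Matrix.of S' * T with hR₀
  set g' : GL (Fin 3) F := u⁻¹ * g * u with hg'
  have hval : (g' : Matrix (Fin 3) (Fin 3) F) = (lz : F) • R₀.map φ := by
    refine u.isUnit.mul_left_cancel ?_
    show (u : Matrix (Fin 3) (Fin 3) F) * _ = (u : Matrix (Fin 3) (Fin 3) F) * _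
    rw [← Units.val_mul, show u * g' = g * u by rw [hg']; group, Units.val_mul]
    show (g : Matrix (Fin 3) (Fin 3) F) * U = U * _
    have hmapS : (Matrix.of S').map φ = (S : Matrix (Fin 3) (Fin 3) F₀).map F₀.subtype :=
      Matrix.ext fun i j => hS' i j
    rw [← hyg]
    show ((P * (Matrix.GeneralLinearGroup.map (F₀.subtype : F₀ →+* F) S * z) * P⁻¹ : GL (Fin 3) F) :
      Matrix (Fin 3) (Fin 3) F) * U = _
    rw [hU, Units.val_mul, Units.val_mul, Units.val_mul, hlz]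
    simp only [Matrix.mul_smul, Matrix.smul_mul, Matrix.mul_one, smul_smul]
    rw [mul_comm (lz : F)]
    congr 1
    rw [Matrix.mul_assoc _ _ ((P : Matrix (Fin 3) (Fin 3) F) * _), ← Matrix.mul_assoc _ (P : Matrix (Fin 3) (Fin 3) F),
      show ((P⁻¹ : GL (Fin 3) F) : Matrix (Fin 3) (Fin 3) F) * (P : Matrix (Fin 3) (Fin 3) F) = 1 from P.inv_mul,
      Matrix.one_mul, Matrix.mul_assoc, Matrix.mul_assoc, hR₀]
    congr 1
    show ((S : Matrix (Fin 3) (Fin 3) F₀).map F₀.subtype) * T.map φ = _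
    rw [← hmapS]
    simp only [← RingHom.mapMatrix_apply, ← map_mul]
    congr 1
    rw [← Matrix.mul_assoc, ← Matrix.mul_assoc, Matrix.mul_nonsing_inv _ (isUnit_iff_ne_zero.2 hTdet),
      Matrix.one_mul]
  have hg'SU : g' ∈ suGL 3 F p := by
    have := suGL_conj_mem (inv_mem huU) (hSU hg)
    rwa [inv_inv] at this
  obtain ⟨hgu, hgd⟩ := Subgroup.mem_inf.1 hg'SU
  have hlz0 : (lz : F) ≠ 0 := lz.ne_zero
  set N : F := (lz : F) ^ (p + 1) with hN
  obtain ⟨n, hn⟩ : ∃ n, φ n = N := by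
    have h1 : N ∈ F₀ := by
      rw [H46.subfield_mem_iff_pow F₀ hcard0, hN, H50.norm_fixed hF]
    exact hsurj _ h1
  have hn0 : n ≠ 0 := fun h => pow_ne_zero _ hlz0 (by rw [← hN, ← hn, h, map_zero])
  have hunit : n • (R₀ᵀ * R₀) = 1 := by
    apply Matrix.map_injective hinj
    ext i j
    have h1 := H50.mem_GU.1 hgu (Pi.single i 1) (Pi.single j 1)
    rw [hval, H50.h_single_single hF, Matrix.smul_mulVec, Matrix.smul_mulVec, H50.h_smul_left,
      H50.h_smul_right hF, Matrix.mulVec_single_one, Matrix.mulVec_single_one] at h1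
    simp only [hermForm, Matrix.col_apply, Matrix.map_apply, hfix] at h1
    rw [← mul_assoc, ← pow_succ', ← hN, ← hn] at h1
    simp only [Matrix.map_apply, Matrix.smul_apply, smul_eq_mul, Matrix.mul_apply, Matrix.transpose_apply,
      map_mul, map_sum]
    rw [h1, Matrix.one_apply]
    split <;> simp
  have hdetR : R₀.det ≠ 0 := fun h => by
    have h1 := congrArg Matrix.det hunit
    rw [Matrix.det_smul, Matrix.det_mul, h, mul_zero, mul_zero, Matrix.det_one] at h1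
    exact zero_ne_one h1
  have hcube : n ^ 3 * R₀.det ^ 2 = 1 := by
    have h1 := congrArg Matrix.det hunit
    rw [Matrix.det_smul, Matrix.det_mul, Matrix.det_transpose, Matrix.det_one, Fintype.card_fin] at h1
    rw [sq]; exact h1
  obtain ⟨μ, hμ⟩ : ∃ μ : ZMod p, μ * μ = n⁻¹ := by
    have h1 : n⁻¹ ^ 3 = R₀.det ^ 2 := by
      rw [inv_pow]; exact inv_eq_of_mul_eq_one_right hcube
    rcases hp with rfl | rfl
    · exact root_three _ _ (inv_ne_zero hn0) h1
    · exact root_five _ _ (inv_ne_zero hn0) h1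
  have hμ0 : μ ≠ 0 := fun h => inv_ne_zero hn0 (by rw [← hμ, h, mul_zero])
  set R₁ := μ⁻¹ • R₀ with hR₁
  have horth : R₁ᵀ * R₁ = 1 := by
    rw [hR₁, Matrix.transpose_smul, Matrix.smul_mul, Matrix.mul_smul, smul_smul, ← mul_inv, hμ, inv_inv]
    exact hunit
  have hε : R₁.det * R₁.det = 1 := by
    have h1 := congrArg Matrix.det horth
    rwa [Matrix.det_mul, Matrix.det_transpose, Matrix.det_one] at h1
  set ε := R₁.det with hεdef
  have hεR : (ε • R₁).det = 1 := by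
    rw [Matrix.det_smul, Fintype.card_fin, ← hεdef]
    linear_combination (ε * ε + 1) * hε
  set l := (lz : F) * φ μ * φ ε with hl
  have hval' : (g' : Matrix (Fin 3) (Fin 3) F) = l • (ε • R₁).map φ := by
    rw [hval, hR₁, smul_smul]
    ext i j
    simp only [hl, Matrix.smul_apply, Matrix.map_apply, smul_eq_mul, map_mul]
    have h1 : φ μ * φ μ⁻¹ = 1 := by rw [← map_mul, mul_inv_cancel₀ hμ0, map_one]
    have h2 : φ ε * φ ε = 1 := by rw [← map_mul, hε, map_one]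
    linear_combination (-((lz : F) * φ (R₀ i j) * (φ ε * φ ε))) * h1 - ((lz : F) * φ (R₀ i j)) * h2
  refine ⟨l, ε • R₁, ?_, ?_, hεR, hval'⟩
  · have h7 : Matrix.GeneralLinearGroup.det g' = 1 := hgd
    have h8 : (g' : Matrix (Fin 3) (Fin 3) F).det = 1 := by
      rw [← Matrix.GeneralLinearGroup.val_det_apply, h7, Units.val_one]
    rwa [hval', Matrix.det_smul, ← RingHom.mapMatrix_apply, ← RingHom.map_det, hεR, map_one, mul_one,
      Fintype.card_fin] at h8
  · rw [Matrix.transpose_smul, Matrix.smul_mul, Matrix.mul_smul, smul_smul, hε, one_smul, horth]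

end H38.SUMax.Three
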