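import Cfsg.Agent.H38.SUMax.MonFiveData
import Cfsg.Agent.H38.SUMax.ThreeReal

/-!
SU(3,5): the monomial group and the orthogonal subfield group lie properly in a triple cover of A7,
seen as the stabiliser of 630 vectors.
-/

set_option autoImplicit false
set_option linter.unusedSectionVars false
set_option linter.style.haveILetI false
set_option maxHeartbeats 4000000

open Cfsg Cfsg.Geo
open scoped Matrix MatrixGroups

namespace H38.SUMax.MonFive

open H38.SUMax.Coded

variable {F : Type*} [Field F] [Fintype F] {q : ℕ}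

/-- Monomial matrices of SU preserve the 630 vectors. -/
theorem mon_keeps (hq : q = 5) (e : Quad25 ≃+* F) (π : Equiv.Perm (Fin 3)) (d : Fin 3 → F)
    (hd : ∀ i, d i ^ (q + 1) = 1) (hdet : ((Equiv.Perm.sign π : ℤ) : F) * ∏ i, d i = 1)
    {v : Fin 3 → F} (hv : v ∈ codedSet e.toRingHom codes) :
    (fun i => d i * v (π i)) ∈ codedSet e.toRingHom codes := by
  subst hq
  obtain ⟨c, hc, rfl⟩ := hv
  have hx : ∀ i, ∃ a : Fin 6, d i = e (zz ^ (a : ℕ)) := by
    intro i
    have h6 : e.symm (d i) ^ 6 = 1 := by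
      have h := congrArg e.symm (hd i)
      rw [map_pow, map_one] at h
      exact h
    obtain ⟨a, ha⟩ := roots_six _ h6
    exact ⟨a, by rw [← ha, e.apply_symm_apply]⟩
  choose a ha using hx
  have hcond : ((Equiv.Perm.sign π : ℤ) : Quad25) *
      (zz ^ (a 0 : ℕ) * zz ^ (a 1 : ℕ) * zz ^ (a 2 : ℕ)) = 1 := by
    apply e.injective
    rw [map_mul, map_mul, map_mul, map_intCast, map_one, ← ha, ← ha, ← ha]
    rw [Fin.prod_univ_three] at hdet
    exact hdet
  obtain ⟨k, hk⟩ := monomial_word π (a 0) (a 1) (a 2) hcond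
  have hkeep : Keeps codes (Matrix.diagonal ![zz ^ (a 0 : ℕ), zz ^ (a 1 : ℕ), zz ^ (a 2 : ℕ)] *
      π.permMatrix Quad25) := by
    rw [hk]
    split
    · exact keeps_mul (keeps_mul (keeps_pow keeps_z codes_valid _) (keeps_pow keeps_z' codes_valid _))
        (keeps_pow keeps_c codes_valid _)
    · exact keeps_mul (keeps_mul (keeps_mul (keeps_pow keeps_z codes_valid _)
        (keeps_pow keeps_z' codes_valid _)) (keeps_pow keeps_c codes_valid _)) keeps_s
  refine ⟨fun i => zz ^ (a i : ℕ) * c (π i), ?_, funext fun i => by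
    simp only [Function.comp_apply, map_mul, ha]
    rfl⟩
  have h := hkeep _ hc
  rw [vec3_code3, ← Matrix.mulVec_mulVec] at h
  convert h using 2
  funext i
  rw [Matrix.mulVec_diagonal, Matrix.permMatrix_mulVec]
  fin_cases i <;> rfl

/-- No maximal subgroup of SU(3,5) fixes a frame. -/
theorem no_frame (hF : Fintype.card F = q ^ 2) (hq : q = 5) {D : Fin 3 → Submodule F (Fin 3 → F)}
    (hD : IsNondegenerateMDecomposition (hermForm 3 F q) 1 D) {H : Subgroup (GL (Fin 3) F)}
    (hH : IsMaximalIn (suGL 3 F q) H) (hle : H ≤ decompositionStabilizer D) : False := by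
  classical
  subst hq
  obtain ⟨e⟩ := exists_model Quad25 (F := F) (by rw [hF]; decide)
  obtain ⟨x, hx, hxv⟩ := exists_of_model hF e.toRingHom unitary_r.1 unitary_r.2
  obtain ⟨m, hm, hmv⟩ := exists_of_model hF e.toRingHom unitary_move.1 unitary_move.2
  obtain ⟨hrep, i, j, k, hjk, hj, hk⟩ := r_entries
  obtain ⟨r, hr⟩ := List.mem_ofFn.1 hrep
  have hxS : x ∈ vecStab (codedSet e.toRingHom codes) := mem_stab (hr ▸ keeps_rep r) hxv
  obtain ⟨v, hv, hv'⟩ : ∃ v ∈ codedSet e.toRingHom codes,
      (m : Matrix (Fin 3) (Fin 3) F) *ᵥ v ∉ codedSet e.toRingHom codes := by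
    by_contra hcon
    push Not at hcon
    exact not_mem_stab moves hmv (mem_vecStab hcon)
  have hne : ∀ j i, rMat j i ≠ 0 → (x : Matrix (Fin 3) (Fin 3) F) j i ≠ 0 := fun j i h => by
    rw [hxv]
    exact (map_ne_zero_iff _ e.toRingHom.injective).2 fun h0 => h (congrArg QuadraticAlgebra.re h0)
  exact frame_excluded hF (fun π d hd hdet v hv => mon_keeps rfl e π d hd hdet hv) hx
    (fun v hv => (hxS v).1 hv) ⟨i, j, k, hjk, hne j i hj, hne k i hk⟩ hm ⟨v, hv, hv'⟩ hD hH hle

/-- No maximal subgroup of SU(3,5) preserves an orthogonal subfield structure. -/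
theorem no_real (hF : Fintype.card F = q ^ 2) (hq : q = 5) {F₀ : Subfield F}
    (hc : Fintype.card F = Nat.card F₀ ^ 2) {P : GL (Fin 3) F}
    (hrat : IsFormRationalStructure (hermForm 3 F q) F₀ 1 P) {H : Subgroup (GL (Fin 3) F)}
    (hH : IsMaximalIn (suGL 3 F q) H) (hle : H ≤ subfieldSubgroup F₀ P) : False := by
  classical
  subst hq
  obtain ⟨e⟩ := exists_model Quad25 (F := F) (by rw [hF]; decide)
  obtain ⟨φ, hφ, u, hu, hcoord⟩ := Three.exists_real_coords (Or.inr rfl) hF hc hrat hH.1.le hle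
  haveI : CharP F 5 := charP_of_injective_ringHom hφ 5
  have hφe : ∀ k : ZMod 5, φ k = e ⟨k, 0⟩ := by
    intro k
    rw [← natCast_val, map_natCast, ← map_natCast φ, ZMod.natCast_zmod_val]
  set H' := H.map (MulAut.conj u⁻¹).toMonoidHom with hH'
  have hmax : IsMaximalIn (suGL 3 F 5) H' := isMaximal_conj (inv_mem hu) hH
  have hcoord' : ∀ g ∈ H', ∃ (l : F) (R : Matrix (Fin 3) (Fin 3) (ZMod 5)), l ^ 3 = 1 ∧ Rᵀ * R = 1 ∧
      R.det = 1 ∧ (g : Matrix (Fin 3) (Fin 3) F) = l • R.map φ := by
    rintro _ ⟨g, hg, rfl⟩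
    simpa [MulAut.conj_apply] using hcoord g hg
  set S := codedSet e.toRingHom codes with hS
  have hHM : H' ≤ vecStab S := by
    intro g hg
    obtain ⟨l, R, hl, hR, hRd, hgv⟩ := hcoord' g hg
    have horth : ∀ i j, R 0 i * R 0 j + R 1 i * R 1 j + R 2 i * R 2 j = if i = j then 1 else 0 := fun i j => by
      have h := congrFun (congrFun hR i) j
      simpa [Matrix.mul_apply, Fin.sum_univ_three, Matrix.one_apply] using h
    have hadj : R.adjugate = Rᵀ := by
      have h := congrArg (fun X => Rᵀ * X) (Matrix.mul_adjugate R)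
      simpa [← Matrix.mul_assoc, hR, hRd] using h
    have hReq : R = !![R 0 0, R 0 1, R 1 0 * R 2 1 - R 2 0 * R 1 1;
        R 1 0, R 1 1, R 2 0 * R 0 1 - R 0 0 * R 2 1;
        R 2 0, R 2 1, R 0 0 * R 1 1 - R 1 0 * R 0 1] := by
      have h0 := congrFun (congrFun hadj 2) 0
      have h1 := congrFun (congrFun hadj 2) 1
      have h2 := congrFun (congrFun hadj 2) 2
      simp [Matrix.adjugate_fin_three] at h0 h1 h2
      ext i j
      fin_cases i <;> fin_cases j <;> simp <;>
        first | rfl | linear_combination -h0 | linear_combination -h1 | linear_combination -h2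
    obtain ⟨i, hi⟩ := cosets (R 0 0) (R 1 0) (R 2 0) (R 0 1) (R 1 1) (R 2 1)
      (by simpa using horth 0 0) (by simpa using horth 1 1) (by simpa using horth 0 1)
    rw [← hReq] at hi
    obtain ⟨t, ht, htv⟩ := exists_of_model hF e.toRingHom (unitary_rep i).1 (unitary_rep i).2
    have htS : t ∈ vecStab S := mem_stab (keeps_rep i) htv
    have htφ : (t : Matrix (Fin 3) (Fin 3) F) = (repMat i).map φ := by
      rw [htv]; ext a b; exact (hφe _).symm
    have hm := mul_mem (inv_mem ht) (hmax.1.le hg)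
    have hrt : (repMat i)ᵀ * repMat i = 1 := by
      apply Matrix.map_injective hφ
      have h1 := (H51.mem_GU_iff hF t).1 (Subgroup.mem_inf.1 ht).1
      rw [H51.adj_def, htφ] at h1
      show ((repMat i)ᵀ * repMat i).map φ = (1 : Matrix (Fin 3) (Fin 3) (ZMod 5)).map φ
      rw [Matrix.map_mul, Matrix.map_one _ φ.map_zero φ.map_one]
      refine Eq.trans ?_ h1
      congr 1
      ext a b
      simp [← map_pow, ZMod.pow_card]
    have hprod : ((t⁻¹ * g : GL (Fin 3) F) : Matrix (Fin 3) (Fin 3) F) = l • ((repMat i)ᵀ * R).map φ := by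
      refine t.isUnit.mul_left_cancel ?_
      rw [← Units.val_mul, mul_inv_cancel_left, hgv, htφ, Matrix.mul_smul, ← Matrix.map_mul,
        ← Matrix.mul_assoc, mul_eq_one_comm.1 hrt, Matrix.one_mul]
    have hlines : ∀ c, ∃ (j : Fin 3) (x : F),
        ((t⁻¹ * g : GL (Fin 3) F) : Matrix (Fin 3) (Fin 3) F) *ᵥ Pi.single c 1 = x • Pi.single j 1 := by
      intro c
      set col := fun j => ((repMat i)ᵀ * R) j c with hcol
      obtain ⟨j, hj⟩ : ∃ j, ∀ k, k ≠ j → col k = 0 := by
        by_cases h0 : col 0 = 0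
        · by_cases h1 : col 1 = 0
          · exact ⟨2, fun k hk => by
              match k with
              | 0 => exact h0
              | 1 => exact h1
              | 2 => exact absurd rfl hk⟩
          · exact ⟨1, fun k hk => (hi c k 1 hk).resolve_right h1⟩
        · exact ⟨0, fun k hk => (hi c k 0 hk).resolve_right h0⟩
      refine ⟨j, l * φ (col j), ?_⟩
      rw [Matrix.mulVec_single_one, hprod]
      funext k
      rcases eq_or_ne k j with rfl | hk
      · simp only [Matrix.col_apply, Matrix.smul_apply, Matrix.map_apply, Pi.smul_apply, smul_eq_mul,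
          Pi.single_eq_same, mul_one, hcol]
      · have hz := hj k hk
        simp only [hcol] at hz
        simp only [Matrix.col_apply, Matrix.smul_apply, Matrix.map_apply, Pi.smul_apply, smul_eq_mul,
          Pi.single_eq_of_ne hk, mul_zero, hz, map_zero]
    obtain ⟨π, d, hd, hdet, hπd⟩ := monomial_of_lines hF hm hlines
    have : t⁻¹ * g ∈ vecStab S := mem_vecStab fun v hv => by
      rw [hπd]; exact mon_keeps rfl e π d hd hdet hv
    simpa using mul_mem htS this
  obtain ⟨w, hw, hwv⟩ := exists_of_model hF e.toRingHom unitary_z.1 unitary_z.2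
  obtain ⟨m, hm, hmv⟩ := exists_of_model hF e.toRingHom unitary_move.1 unitary_move.2
  rcases hmax.2 (vecStab S ⊓ suGL 3 F 5) (le_inf hHM hmax.1.le) inf_le_right with h | h
  · obtain ⟨l, R, -, -, -, hwR⟩ := hcoord' w (h.le ⟨mem_stab keeps_z hwv, hw⟩)
    obtain ⟨h00, h22, him⟩ := z_entries
    have e0 := congrFun (congrFun hwR 0) 0
    have e2 := congrFun (congrFun hwR 2) 2
    rw [hwv] at e0 e2
    simp only [Matrix.map_apply, Matrix.smul_apply, smul_eq_mul, h22, map_one] at e0 e2
    have hR22 : R 2 2 ≠ 0 := fun h0 => by simp [h0] at e2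
    have hl : l = φ (R 2 2)⁻¹ := by
      rw [map_inv₀, eq_comm, inv_eq_of_mul_eq_one_left e2.symm]
    rw [hl, ← map_mul, hφe] at e0
    exact him (congrArg QuadraticAlgebra.im (e.injective e0))
  · exact not_mem_stab moves hmv (h.ge hm).1

end H38.SUMax.MonFive
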