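import Cfsg.Agent.H38.SUMax.Coded

/-!
SU(3,5): the monomial group and the orthogonal subfield group lie properly in a triple cover of A7,
seen as the stabiliser of 630 vectors.
-/

set_option autoImplicit false
set_option linter.unusedSectionVars false
set_option maxHeartbeats 4000000
set_option maxRecDepth 8000

open Cfsg Cfsg.Geo
open scoped Matrix MatrixGroups

namespace H38.SUMax.MonFive

open H38.SUMax.Coded

/-- A primitive sixth root of unity. -/
def zz : Quad25 := ⟨3, 2⟩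

def zMat : Matrix (Fin 3) (Fin 3) Quad25 := Matrix.diagonal ![zz, zz ^ 5, 1]

def zMat' : Matrix (Fin 3) (Fin 3) Quad25 := Matrix.diagonal ![1, zz, zz ^ 5]

def cMat : Matrix (Fin 3) (Fin 3) Quad25 := !![0, 0, 1; 1, 0, 0; 0, 1, 0]

def sMat : Matrix (Fin 3) (Fin 3) Quad25 := !![-1, 0, 0; 0, 0, -1; 0, -1, 0]

/-- A rotation which is not monomial. -/
def rMat : Matrix (Fin 3) (Fin 3) (ZMod 5) := !![1, 1, 2; 1, 2, 1; 2, 1, 1]

/-- Representatives of the cosets of the monomial rotations. -/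
def repMat : Fin 5 → Matrix (Fin 3) (Fin 3) (ZMod 5) := ![
  !![1, 0, 0; 0, 1, 0; 0, 0, 1],
  !![1, 1, 2; 1, 2, 1; 2, 1, 1],
  !![1, 1, 2; 2, 1, 1; 4, 3, 4],
  !![1, 1, 2; 3, 4, 4; 1, 2, 1],
  !![1, 1, 2; 4, 3, 4; 3, 4, 4]]

/-- The inclusion of the prime field. -/
def lift5 (R : Matrix (Fin 3) (Fin 3) (ZMod 5)) : Matrix (Fin 3) (Fin 3) Quad25 :=
  R.map fun k => ⟨k, 0⟩

def moveMat : Matrix (Fin 3) (Fin 3) Quad25 := !![⟨1, 0⟩, ⟨0, 0⟩, ⟨0, 0⟩; ⟨0, 0⟩, ⟨1, 1⟩, ⟨0, 2⟩; ⟨0, 0⟩, ⟨0, 2⟩, ⟨1, 4⟩]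

def codes : List ℕ := [625, 2500, 7500, 8125, 10625, 11250, 25, 100, 3250, 7000, 8875, 10125, 12000, 12625, 3400, 7150, 9025, 10275, 12150, 12775, 300, 325, 3475, 7225, 9100, 10350, 12225, 12850, 3525, 7275, 9150, 10400, 12275, 12900, 425, 450, 3600, 7350, 9225, 10475, 12350, 12975, 3625, 7375, 9250, 10500, 12375, 13000, 1, 1276, 1901, 676, 2551, 701, 2576, 1351, 1976, 8276, 10776, 7726, 11476, 5926, 13426, 4076, 15326, 4176, 15426, 6076, 13576, 8026, 11776, 8726, 11226, 652, 2527, 3177, 12552, 3202, 12577, 727, 2602, 1377, 2002, 7027, 12027, 8977, 10227, 4027, 15277, 8427, 10927, 7827, 11577, 5977, 13477, 6027, 13527, 7927, 11677, 8577, 11077, 4227, 15477, 1752, 2377, 9277, 10527, 7477, 12477, 653, 2528, 3178, 12553, 3203, 12578, 728, 2603, 1378, 2003, 7028, 12028, 8978, 10228, 4028, 15278, 8428, 10928, 7828, 11578, 5978, 13478, 6028, 13528, 7928, 11678, 8578, 11078, 4228, 15478, 1753, 2378, 9278, 10528, 7478, 12478, 4,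 1279, 1904, 679, 2554, 704, 2579, 1354, 1979, 8279, 10779, 7729, 11479, 5929, 13429, 4079, 15329, 4179, 15429, 6079, 13579, 8029, 11779, 8729, 11229, 3130, 6880, 8755, 10005, 11880, 12505, 1305, 1930, 1330, 1955, 130, 5780, 13280, 3980, 15230, 280, 355, 405, 480, 505, 4280, 15530, 6230, 13730, 8156, 10656, 6931, 11931, 6956, 11956, 8231, 10731, 5756, 13256, 8906, 10156, 3356, 12731, 1531, 2156, 7806, 11556, 956, 2831, 4106, 15356, 4156, 15406, 1056, 2931, 7956, 11706, 1731, 2356, 6131, 13631, 3656, 13031, 9356, 10606, 4557, 14557, 6457, 9582, 5257, 14007, 5382, 14132, 6807, 9932, 4957, 14957, 6433, 9558, 5208, 13958, 4633, 14633, 4758, 14758, 5558, 14308, 6833, 9958, 7534, 11284, 8809, 10059, 8834, 10084, 7609, 11359, 3884, 15134, 3284, 12659, 7109, 12109, 5909, 13409, 934, 2809, 8459, 10959, 1609, 2234, 1659, 2284, 8559, 11059, 1084, 2959, 6109, 13609, 4259, 15509, 7409, 12409, 3734, 13109, 5185, 13935, 4585, 14585, 6510,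 9635, 6635, 9760, 4935, 14935, 5585, 14335, 3136, 6886, 8761, 10011, 11886, 12511, 3811, 15061, 3836, 15086, 136, 1411, 2036, 5861, 13361, 286, 361, 411, 486, 511, 6161, 13661, 1861, 2486, 12, 5662, 13162, 8187, 10687, 8212, 10712, 5737, 13237, 7662, 11412, 862, 2737, 4062, 15312, 1587, 2212, 1687, 2312, 4212, 15462, 1162, 3037, 8112, 11862, 13, 3788, 15038, 7563, 11313, 7588, 11338, 3863, 15113, 788, 2663, 8363, 10863, 1563, 2188, 5963, 13463, 6063, 13563, 1713, 2338, 8663, 11163, 1238, 3113, 3139, 6889, 8764, 10014, 11889, 12514, 5689, 13189, 5714, 13214, 139, 3914, 15164, 1489, 2114, 289, 364, 414, 489, 514, 1789, 2414, 4364, 15614, 5190, 13940, 4590, 14590, 6515, 9640, 6640, 9765, 4940, 14940, 5590, 14340, 3141, 6891, 8766, 10016, 11891, 12516, 5691, 13191, 5716, 13216, 141, 3916, 15166, 1491, 2116, 291, 366, 416, 491, 516, 1791, 2416, 4366, 15616, 17, 3792, 15042, 7567, 11317, 7592, 11342, 3867, 15117, 792, 2667, 8367,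 10867, 1567, 2192, 5967, 13467, 6067, 13567, 1717, 2342, 8667, 11167, 1242, 3117, 18, 5668, 13168, 8193, 10693, 8218, 10718, 5743, 13243, 7668, 11418, 868, 2743, 4068, 15318, 1593, 2218, 1693, 2318, 4218, 15468, 1168, 3043, 8118, 11868, 3144, 6894, 8769, 10019, 11894, 12519, 3819, 15069, 3844, 15094, 144, 1419, 2044, 5869, 13369, 294, 369, 419, 494, 519, 6169, 13669, 1869, 2494, 3145, 6895, 8770, 10020, 11895, 12520, 1320, 1945, 1345, 1970, 145, 5795, 13295, 3995, 15245, 295, 370, 420, 495, 520, 4295, 15545, 6245, 13745, 7546, 11296, 8821, 10071, 8846, 10096, 7621, 11371, 3896, 15146, 3296, 12671, 7121, 12121, 5921, 13421, 946, 2821, 8471, 10971, 1621, 2246, 1671, 2296, 8571, 11071, 1096, 2971, 6121, 13621, 4271, 15521, 7421, 12421, 3746, 13121, 6447, 9572, 5222, 13972, 4647, 14647, 4772, 14772, 5572, 14322, 6847, 9972, 4573, 14573, 6473, 9598, 5273, 14023, 5398, 14148, 6823, 9948, 4973, 14973, 8174, 10674, 6949, 11949, 6974,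 11974, 8249, 10749, 5774, 13274, 8924, 10174, 3374, 12749, 1549, 2174, 7824, 11574, 974, 2849, 4124, 15374, 4174, 15424, 1074, 2949, 7974, 11724, 1749, 2374, 6149, 13649, 3674, 13049, 9374, 10624]

theorem roots_six : ∀ x : Quad25, x ^ 6 = 1 → ∃ a : Fin 6, x = zz ^ (a : ℕ) := by decide +kernel

theorem zz_facts : zz ^ 6 = 1 := by decide +kernel

theorem keeps_z : Keeps codes zMat := by decide +kernel
theorem keeps_z' : Keeps codes zMat' := by decide +kernel
theorem keeps_c : Keeps codes cMat := by decide +kernel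
theorem keeps_s : Keeps codes sMat := by decide +kernel
theorem keeps_rep : ∀ i, Keeps codes (lift5 (repMat i)) := by decide +kernel

theorem unitary_r : ((lift5 rMat).map fun z => z ^ 5)ᵀ * lift5 rMat = 1 ∧ (lift5 rMat).det = 1 := by
  decide +kernel
theorem unitary_rep : ∀ i, ((lift5 (repMat i)).map fun z => z ^ 5)ᵀ * lift5 (repMat i) = 1 ∧
    (lift5 (repMat i)).det = 1 := by decide +kernel
theorem unitary_z : (zMat.map fun z => z ^ 5)ᵀ * zMat = 1 ∧ zMat.det = 1 := by decide +kernel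
theorem unitary_move : (moveMat.map fun z => z ^ 5)ᵀ * moveMat = 1 ∧ moveMat.det = 1 := by
  decide +kernel

theorem r_entries : rMat ∈ List.ofFn repMat ∧ ∃ i j k, j ≠ k ∧ rMat j i ≠ 0 ∧ rMat k i ≠ 0 := by
  decide +kernel

theorem z_entries : zMat 0 0 ≠ 0 ∧ zMat 2 2 = 1 ∧ (zMat 0 0).im ≠ 0 := by decide +kernel

theorem moves : ∃ k ∈ codes, code3 (vec3 5 (2 : ZMod 5) 0 k) = k ∧
    code3 (moveMat *ᵥ vec3 5 (2 : ZMod 5) 0 k) ∉ codes := by decide +kernel

theorem monomial_word : ∀ (π : Equiv.Perm (Fin 3)) (a b c : Fin 6),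
    ((Equiv.Perm.sign π : ℤ) : Quad25) * (zz ^ (a : ℕ) * zz ^ (b : ℕ) * zz ^ (c : ℕ)) = 1 →
    ∃ k : Fin 3, Matrix.diagonal ![zz ^ (a : ℕ), zz ^ (b : ℕ), zz ^ (c : ℕ)] * π.permMatrix Quad25 =
      if Equiv.Perm.sign π = 1 then zMat ^ (a : ℕ) * zMat' ^ ((6 - (c : ℕ)) % 6) * cMat ^ (k : ℕ)
      else zMat ^ (((a : ℕ) + 3) % 6) * zMat' ^ ((9 - (c : ℕ)) % 6) * cMat ^ (k : ℕ) * sMat := by
  decide +kernel

theorem cosets : ∀ a b c a' b' c' : ZMod 5, a * a + b * b + c * c = 1 → a' * a' + b' * b' + c' * c' = 1 →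
    a * a' + b * b' + c * c' = 0 →
    ∃ i, ∀ l : Fin 3, ∀ j k : Fin 3, j ≠ k →
      ((repMat i)ᵀ * !![a, a', b * c' - c * b'; b, b', c * a' - a * c'; c, c', a * b' - b * a']) j l = 0 ∨
      ((repMat i)ᵀ * !![a, a', b * c' - c * b'; b, b', c * a' - a * c'; c, c', a * b' - b * a']) k l = 0 := by
  decide +kernel

theorem keeps_mul {A B : Matrix (Fin 3) (Fin 3) Quad25} (hA : Keeps codes A) (hB : Keeps codes B) :
    Keeps codes (A * B) := by
  intro k hk
  rw [← Matrix.mulVec_mulVec]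
  have h := hA _ (hB k hk)
  rwa [vec3_code3] at h

theorem keeps_pow {A : Matrix (Fin 3) (Fin 3) Quad25} (hA : Keeps codes A) (hp : ∀ k ∈ codes,
    code3 (vec3 5 (2 : ZMod 5) 0 k) = k) (n : ℕ) : Keeps codes (A ^ n) := by
  induction n with
  | zero =>
    intro k hk
    rw [pow_zero, Matrix.one_mulVec, hp k hk]
    exact hk
  | succ n ih => rw [pow_succ]; exact keeps_mul ih hA

theorem codes_valid : ∀ k ∈ codes, code3 (vec3 5 (2 : ZMod 5) 0 k) = k := by decide +kernel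

/-- The prime field inside the model. -/
theorem natCast_val : ∀ k : ZMod 5, ((k.val : ℕ) : Quad25) = ⟨k, 0⟩ := by decide +kernel

end H38.SUMax.MonFive
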