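import Cfsg.Agent.H38.SUMax.Small

/-!
For q ≤ 3 the stabiliser in SU(4,q) of two complementary totally singular planes preserves a
symplectic subfield structure, up to scalars.
-/

set_option autoImplicit false
set_option linter.unusedSectionVars false
set_option maxHeartbeats 1000000

open Cfsg Cfsg.Geo
open scoped Matrix MatrixGroups

namespace H38.SUMax

variable {F : Type*} [Field F] [Fintype F] {q : ℕ}

/-- The form in coordinates adapted to the pair of planes. -/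
def pairForm (q : ℕ) (x y : Fin 4 → F) : F :=
  x 0 * y 3 ^ q - x 1 * y 2 ^ q - x 2 * y 1 ^ q + x 3 * y 0 ^ q

/-- Coordinates adapted to a pair of totally singular planes. -/
theorem exists_pair_coords (hF : Fintype.card F = q ^ 2) {D : Fin 2 → Submodule F (Fin 4 → F)}
    (hD : IsMDecomposition 2 D) (hs : ∀ i, IsTotallySingularFor (hermForm 4 F q) (D i)) :
    ∃ Q : GL (Fin 4) F,
      (∀ x y, hermForm 4 F q ((Q : Matrix (Fin 4) (Fin 4) F) *ᵥ x) ((Q : Matrix (Fin 4) (Fin 4) F) *ᵥ y) =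
        pairForm q x y) ∧
      (∀ x, (Q : Matrix (Fin 4) (Fin 4) F) *ᵥ x ∈ D 0 ↔ x 2 = 0 ∧ x 3 = 0) ∧
      (∀ x, (Q : Matrix (Fin 4) (Fin 4) F) *ᵥ x ∈ D 1 ↔ x 0 = 0 ∧ x 1 = 0) := by
  classical
  let w := Module.finBasisOfFinrankEq F (D 0) (hD.finrank_eq 0)
  let L : D 1 →ₗ[F] (Fin 2 → F) :=
    { toFun := fun z i => hermForm 4 F q z (w i)
      map_add' := fun z z' => funext fun i => H50.h_add_left _ _ _
      map_smul' := fun a z => funext fun i => H50.h_smul_left _ _ _ }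
  have htop : D 0 ⊔ D 1 = ⊤ := by
    rw [← hD.iSup_eq_top]
    refine le_antisymm (sup_le (le_iSup D 0) (le_iSup D 1)) (iSup_le fun a => ?_)
    fin_cases a
    exacts [le_sup_left, le_sup_right]
  have hdisj : Disjoint (D 0) (D 1) := hD.indep.pairwiseDisjoint (by decide)
  have hLinj : Function.Injective L := by
    rw [← LinearMap.ker_eq_bot, Submodule.eq_bot_iff]
    intro z hz
    apply Subtype.ext
    have hw : ∀ v ∈ D 0, hermForm 4 F q z v = 0 := by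
      intro v hv
      have h1 := congrArg (fun t : D 0 => (t : Fin 4 → F)) (w.sum_repr ⟨v, hv⟩)
      simp only [Submodule.coe_sum, Submodule.coe_smul] at h1
      rw [← h1, H50.h_sum_right hF]
      refine Finset.sum_eq_zero fun i _ => ?_
      rw [H50.h_smul_right hF]
      have : hermForm 4 F q z (w i) = 0 := congrFun hz i
      rw [this, mul_zero]
    refine H50.eq_zero_of_h_left hF fun v => ?_
    obtain ⟨a, ha, b, hb, rfl⟩ := Submodule.mem_sup.1 (htop ▸ Submodule.mem_top : v ∈ D 0 ⊔ D 1)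
    rw [H50.h_add_right hF, hw a ha, hs 1 _ z.2 _ hb, add_zero]
  have hLsur : Function.Surjective L :=
    (LinearMap.injective_iff_surjective_of_finrank_eq_finrank (by rw [hD.finrank_eq]; simp)).1 hLinj
  obtain ⟨z1, hz1⟩ := hLsur (Pi.single 0 1)
  obtain ⟨z2, hz2⟩ := hLsur (Pi.single 1 1)
  have e11 : hermForm 4 F q z1 (w 0) = 1 := by simpa [L] using congrFun hz1 0
  have e12 : hermForm 4 F q z1 (w 1) = 0 := by simpa [L] using congrFun hz1 1
  have e21 : hermForm 4 F q z2 (w 0) = 0 := by simpa [L] using congrFun hz2 0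
  have e22 : hermForm 4 F q z2 (w 1) = 1 := by simpa [L] using congrFun hz2 1
  have f11 : hermForm 4 F q (w 0) z1 = 1 := by rw [H50.h_symm hF, e11, one_pow]
  have f12 : hermForm 4 F q (w 1) z1 = 0 := by rw [H50.h_symm hF, e12, zero_pow (H50.q_ne_zero hF)]
  have f21 : hermForm 4 F q (w 0) z2 = 0 := by rw [H50.h_symm hF, e21, zero_pow (H50.q_ne_zero hF)]
  have f22 : hermForm 4 F q (w 1) z2 = 1 := by rw [H50.h_symm hF, e22, one_pow]
  set b : Fin 4 → Fin 4 → F := ![(w 0 : Fin 4 → F), w 1, -(z2 : Fin 4 → F), z1] with hb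
  set M : Matrix (Fin 4) (Fin 4) F := Matrix.of fun r i => b i r with hM
  have hMv : ∀ x, M *ᵥ x = (x 0 • (w 0 : Fin 4 → F) + x 1 • (w 1 : Fin 4 → F)) +
      (x 2 • -(z2 : Fin 4 → F) + x 3 • (z1 : Fin 4 → F)) := by
    intro x
    ext r
    simp [Matrix.mulVec, dotProduct, hM, hb, Fin.sum_univ_four]
    ring
  have hform : ∀ x y, hermForm 4 F q (M *ᵥ x) (M *ᵥ y) = pairForm q x y := by
    intro x y
    rw [hMv, hMv]
    simp only [H50.h_add_left, H50.h_add_right hF, H50.h_smul_left, H50.h_smul_right hF,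
      H50.h_neg_left, H50.h_neg_right hF, hs 0 _ (w 0).2 _ (w 0).2, hs 0 _ (w 0).2 _ (w 1).2,
      hs 0 _ (w 1).2 _ (w 0).2, hs 0 _ (w 1).2 _ (w 1).2, hs 1 _ z1.2 _ z1.2, hs 1 _ z1.2 _ z2.2,
      hs 1 _ z2.2 _ z1.2, hs 1 _ z2.2 _ z2.2, e11, e12, e21, e22, f11, f12, f21, f22, pairForm]
    ring
  have hdet : M.det ≠ 0 := by
    intro h
    obtain ⟨x, hx0, hx⟩ := Matrix.exists_mulVec_eq_zero_iff.2 h
    apply hx0
    have hz : ∀ y, pairForm q x y = 0 := fun y => by rw [← hform, hx, H50.h_zero_left]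
    funext i
    fin_cases i
    · simpa [pairForm, H50.q_ne_zero hF] using hz (Pi.single 3 1)
    · simpa [pairForm, H50.q_ne_zero hF] using hz (Pi.single 2 1)
    · simpa [pairForm, H50.q_ne_zero hF] using hz (Pi.single 1 1)
    · simpa [pairForm, H50.q_ne_zero hF] using hz (Pi.single 0 1)
  refine ⟨Matrix.GeneralLinearGroup.mkOfDetNeZero M hdet, hform, fun x => ?_, fun x => ?_⟩
  · constructor
    · intro hx
      have ha : hermForm 4 F q (M *ᵥ x) (M *ᵥ Pi.single 1 1) = 0 := hs 0 _ hx _ (by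
        rw [hMv]; simpa using (w 1).2)
      have hb' : hermForm 4 F q (M *ᵥ x) (M *ᵥ Pi.single 0 1) = 0 := hs 0 _ hx _ (by
        rw [hMv]; simpa using (w 0).2)
      rw [hform] at ha hb'
      exact ⟨by simpa [pairForm, H50.q_ne_zero hF] using ha, by simpa [pairForm, H50.q_ne_zero hF] using hb'⟩
    · rintro ⟨h2, h3⟩
      show M *ᵥ x ∈ D 0
      rw [hMv, h2, h3, zero_smul, zero_smul, add_zero, add_zero]
      exact add_mem (Submodule.smul_mem _ _ (w 0).2) (Submodule.smul_mem _ _ (w 1).2)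
  · constructor
    · intro hx
      have ha : hermForm 4 F q (M *ᵥ x) (M *ᵥ Pi.single 3 1) = 0 := hs 1 _ hx _ (by
        rw [hMv]; simpa using z1.2)
      have hb' : hermForm 4 F q (M *ᵥ x) (M *ᵥ Pi.single 2 1) = 0 := hs 1 _ hx _ (by
        rw [hMv]; simpa using z2.2)
      rw [hform] at ha hb'
      exact ⟨by simpa [pairForm, H50.q_ne_zero hF] using ha, by simpa [pairForm, H50.q_ne_zero hF] using hb'⟩
    · rintro ⟨h0, h1⟩
      show M *ᵥ x ∈ D 1
      rw [hMv, h0, h1, zero_smul, zero_smul, add_zero, zero_add]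
      exact add_mem (Submodule.smul_mem _ _ (neg_mem z2.2)) (Submodule.smul_mem _ _ z1.2)

theorem pow_q_sq_one (hF : Fintype.card F = q ^ 2) (hq : q ≤ 3) {d : F} (hd : d ≠ 0)
    (hdq : d ^ q = d) : d * d = 1 := by
  obtain hq | hq : q = 2 ∨ q = 3 := by have := H50.two_le hF; omega
  · subst hq
    have : d = 1 := mul_left_cancel₀ hd (by linear_combination hdq)
    rw [this, one_mul]
  · subst hq
    exact mul_left_cancel₀ hd (by linear_combination hdq)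

/-- The key identity: a unitary matrix of determinant one respecting the two planes maps the
vectors (u, ū) to scalar multiples of such vectors. -/
theorem pair_twist (hF : Fintype.card F = q ^ 2) (hq : q ≤ 3) {M : Matrix (Fin 4) (Fin 4) F}
    (hiso : ∀ x y, pairForm q (M *ᵥ x) (M *ᵥ y) = pairForm q x y) (hdet : M.det = 1)
    (hblk : (M 2 0 = 0 ∧ M 3 0 = 0 ∧ M 2 1 = 0 ∧ M 3 1 = 0 ∧ M 0 2 = 0 ∧ M 1 2 = 0 ∧ M 0 3 = 0 ∧ M 1 3 = 0) ∨
      (M 0 0 = 0 ∧ M 1 0 = 0 ∧ M 0 1 = 0 ∧ M 1 1 = 0 ∧ M 2 2 = 0 ∧ M 3 2 = 0 ∧ M 2 3 = 0 ∧ M 3 3 = 0)) :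
    ∃ l : F, l ≠ 0 ∧ ∀ x : Fin 4 → F, x 2 = x 0 ^ q → x 3 = x 1 ^ q →
      (l⁻¹ • M *ᵥ x) 2 = (l⁻¹ • M *ᵥ x) 0 ^ q ∧ (l⁻¹ • M *ᵥ x) 3 = (l⁻¹ • M *ᵥ x) 1 ^ q := by
  have hq0 := H50.q_ne_zero hF
  have hmv : ∀ x i, (M *ᵥ x) i = M i 0 * x 0 + M i 1 * x 1 + M i 2 * x 2 + M i 3 * x 3 := fun x i => by
    simp [Matrix.mulVec, dotProduct, Fin.sum_univ_four]
  obtain ⟨ε, hε, hrel⟩ : ∃ ε : F, ε * ε = 1 ∧ ∀ x : Fin 4 → F, x 2 = x 0 ^ q → x 3 = x 1 ^ q →
      (M *ᵥ x) 2 = ε * (M *ᵥ x) 0 ^ q ∧ (M *ᵥ x) 3 = ε * (M *ᵥ x) 1 ^ q := by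
    rcases hblk with ⟨z1, z2, z3, z4, z5, z6, z7, z8⟩ | ⟨z1, z2, z3, z4, z5, z6, z7, z8⟩
    · set Δ := M 0 0 * M 1 1 - M 0 1 * M 1 0 with hΔ
      have hd : M.det = Δ * (M 2 2 * M 3 3 - M 2 3 * M 3 2) := by
        rw [hΔ, Matrix.det_succ_row_zero]
        simp [Fin.sum_univ_succ, Matrix.det_fin_three, z1, z2, z3, z4, z5, z6, z7, z8, Fin.succAbove]
        ring
      have h02 : M 0 0 * M 3 2 ^ q - M 1 0 * M 2 2 ^ q = 0 := by
        simpa [pairForm, z1, z2, z3, z4, z5, z6, z7, z8, hq0] using hiso (Pi.single 0 1) (Pi.single 2 1)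
      have h03 : M 0 0 * M 3 3 ^ q - M 1 0 * M 2 3 ^ q = 1 := by
        simpa [pairForm, z1, z2, z3, z4, z5, z6, z7, z8, hq0] using hiso (Pi.single 0 1) (Pi.single 3 1)
      have h12 : M 0 1 * M 3 2 ^ q - M 1 1 * M 2 2 ^ q = -1 := by
        simpa [pairForm, z1, z2, z3, z4, z5, z6, z7, z8, hq0] using hiso (Pi.single 1 1) (Pi.single 2 1)
      have h13 : M 0 1 * M 3 3 ^ q - M 1 1 * M 2 3 ^ q = 0 := by
        simpa [pairForm, z1, z2, z3, z4, z5, z6, z7, z8, hq0] using hiso (Pi.single 1 1) (Pi.single 3 1)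
      have r22 : Δ * M 2 2 ^ q = M 0 0 := by rw [hΔ]; linear_combination M 0 1 * h02 - M 0 0 * h12
      have r32 : Δ * M 3 2 ^ q = M 1 0 := by rw [hΔ]; linear_combination M 1 1 * h02 - M 1 0 * h12
      have r23 : Δ * M 2 3 ^ q = M 0 1 := by rw [hΔ]; linear_combination M 0 1 * h03 - M 0 0 * h13
      have r33 : Δ * M 3 3 ^ q = M 1 1 := by rw [hΔ]; linear_combination M 1 1 * h03 - M 1 0 * h13
      rw [hd] at hdet
      have hΔ0 : Δ ≠ 0 := left_ne_zero_of_mul_eq_one hdet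
      have hfix : Δ ^ q = Δ := by
        have h1 := congrArg (fun z : F => z ^ q) hdet
        simp only [mul_pow, H50.sub_pow_q hF, one_pow] at h1
        have h2 : Δ * (M 2 2 ^ q * M 3 3 ^ q - M 2 3 ^ q * M 3 2 ^ q) = 1 :=
          mul_left_cancel₀ hΔ0 (by
            linear_combination (Δ * M 3 3 ^ q) * r22 + M 0 0 * r33 - (Δ * M 3 2 ^ q) * r23 - M 0 1 * r32 - hΔ)
        exact mul_right_cancel₀ (right_ne_zero_of_mul_eq_one h2) (h1.trans h2.symm)
      have hΔ1 := pow_q_sq_one hF hq hΔ0 hfix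
      refine ⟨Δ, hΔ1, fun x h2 h3 => ?_⟩
      have conjeq : ∀ {u v : F}, Δ * u ^ q = v → u = Δ * v ^ q := fun {u v} h => by
        rw [← h, mul_pow, H50.pow_q_pow_q hF, hfix, ← mul_assoc, hΔ1, one_mul]
      simp only [hmv, z1, z2, z3, z4, z5, z6, z7, z8, zero_mul, add_zero, zero_add, h2, h3,
        H50.add_pow_q hF, mul_pow]
      rw [conjeq r22, conjeq r32, conjeq r23, conjeq r33]
      constructor <;> ring
    · set Δ := M 0 2 * M 1 3 - M 0 3 * M 1 2 with hΔ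
      have hd : M.det = Δ * (M 2 0 * M 3 1 - M 2 1 * M 3 0) := by
        rw [hΔ, Matrix.det_succ_row_zero]
        simp [Fin.sum_univ_succ, Matrix.det_fin_three, z1, z2, z3, z4, z5, z6, z7, z8, Fin.succAbove]
        ring
      have h20 : M 0 2 * M 3 0 ^ q - M 1 2 * M 2 0 ^ q = 0 := by
        simpa [pairForm, z1, z2, z3, z4, z5, z6, z7, z8, hq0] using hiso (Pi.single 2 1) (Pi.single 0 1)
      have h21 : M 0 2 * M 3 1 ^ q - M 1 2 * M 2 1 ^ q = -1 := by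
        simpa [pairForm, z1, z2, z3, z4, z5, z6, z7, z8, hq0] using hiso (Pi.single 2 1) (Pi.single 1 1)
      have h30 : M 0 3 * M 3 0 ^ q - M 1 3 * M 2 0 ^ q = 1 := by
        simpa [pairForm, z1, z2, z3, z4, z5, z6, z7, z8, hq0] using hiso (Pi.single 3 1) (Pi.single 0 1)
      have h31 : M 0 3 * M 3 1 ^ q - M 1 3 * M 2 1 ^ q = 0 := by
        simpa [pairForm, z1, z2, z3, z4, z5, z6, z7, z8, hq0] using hiso (Pi.single 3 1) (Pi.single 1 1)
      have r20 : Δ * M 2 0 ^ q = -M 0 2 := by rw [hΔ]; linear_combination M 0 3 * h20 - M 0 2 * h30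
      have r30 : Δ * M 3 0 ^ q = -M 1 2 := by rw [hΔ]; linear_combination M 1 3 * h20 - M 1 2 * h30
      have r21 : Δ * M 2 1 ^ q = -M 0 3 := by rw [hΔ]; linear_combination M 0 3 * h21 - M 0 2 * h31
      have r31 : Δ * M 3 1 ^ q = -M 1 3 := by rw [hΔ]; linear_combination M 1 3 * h21 - M 1 2 * h31
      rw [hd] at hdet
      have hΔ0 : Δ ≠ 0 := left_ne_zero_of_mul_eq_one hdet
      have hfix : Δ ^ q = Δ := by
        have h1 := congrArg (fun z : F => z ^ q) hdet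
        simp only [mul_pow, H50.sub_pow_q hF, one_pow] at h1
        have h2 : Δ * (M 2 0 ^ q * M 3 1 ^ q - M 2 1 ^ q * M 3 0 ^ q) = 1 :=
          mul_left_cancel₀ hΔ0 (by
            linear_combination (Δ * M 3 1 ^ q) * r20 - M 0 2 * r31 - (Δ * M 3 0 ^ q) * r21 + M 0 3 * r30 - hΔ)
        exact mul_right_cancel₀ (right_ne_zero_of_mul_eq_one h2) (h1.trans h2.symm)
      have hΔ1 := pow_q_sq_one hF hq hΔ0 hfix
      refine ⟨-Δ, by rw [neg_mul_neg, hΔ1], fun x h2 h3 => ?_⟩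
      have conjeq : ∀ {u v : F}, Δ * u ^ q = -v → u = -Δ * v ^ q := fun {u v} h => by
        have h' : v = -(Δ * u ^ q) := by rw [h, neg_neg]
        rw [h', H50.neg_pow_q hF, mul_pow, H50.pow_q_pow_q hF, hfix, neg_mul_neg, ← mul_assoc, hΔ1, one_mul]
      simp only [hmv, z1, z2, z3, z4, z5, z6, z7, z8, zero_mul, add_zero, zero_add, h2, h3,
        H50.add_pow_q hF, mul_pow, H50.pow_q_pow_q hF]
      rw [conjeq r20, conjeq r30, conjeq r21, conjeq r31]
      constructor <;> ring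
  obtain ⟨l, hl, hlq⟩ : ∃ l : F, l ≠ 0 ∧ l ^ q = ε * l := by
    rcases eq_or_eq_neg_of_sq_eq_sq ε 1 (by linear_combination hε) with rfl | rfl
    · exact ⟨1, one_ne_zero, by rw [one_pow, one_mul]⟩
    · obtain ⟨d, hd0, hd⟩ := H50.exists_trace_zero_ne_zero hF
      exact ⟨d, hd0, by linear_combination hd⟩
  have hε0 : ε ≠ 0 := left_ne_zero_of_mul_eq_one hε
  refine ⟨l, hl, fun x h2 h3 => ?_⟩
  obtain ⟨e2, e3⟩ := hrel x h2 h3
  simp only [Pi.smul_apply, smul_eq_mul, mul_pow, inv_pow, hlq, mul_inv_rev]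
  have hεi : ε⁻¹ = ε := inv_eq_of_mul_eq_one_right hε
  rw [e2, e3, hεi]
  constructor <;> ring

/-- For q ≤ 3 the stabiliser of a pair of totally singular planes lies in a symplectic subfield
group. -/
theorem exists_subfield_of_pair (hF : Fintype.card F = q ^ 2) (hq : q ≤ 3)
    {D : Fin 2 → Submodule F (Fin 4 → F)} (hD : IsMDecomposition 2 D)
    (hs : ∀ i, IsTotallySingularFor (hermForm 4 F q) (D i)) {H : Subgroup (GL (Fin 4) F)}
    (hSU : H ≤ suGL 4 F q) (hle : H ≤ decompositionStabilizer D) :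
    ∃ (F₁ : Subfield F) (P : GL (Fin 4) F) (ζ : F), Fintype.card F = Nat.card F₁ ^ 2 ∧ ζ ≠ 0 ∧
      ζ + ζ ^ q = 0 ∧ IsFormRationalStructure (hermForm 4 F q) F₁ ζ P ∧
      (∀ u : Fin 4 → F, (∀ i, u i ∈ F₁) → hermForm 4 F q ((P : Matrix (Fin 4) (Fin 4) F) *ᵥ u)
        ((P : Matrix (Fin 4) (Fin 4) F) *ᵥ u) = 0) ∧
      H ≤ subfieldSubgroup F₁ P := by
  classical
  have hq0 := H50.q_ne_zero hF
  obtain ⟨Q, hQf, hQ0, hQ1⟩ := exists_pair_coords hF hD hs
  let F₁ : Subfield F := RingHom.eqLocusField (H50.conjHom hF) (RingHom.id F)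
  have hmem : ∀ z : F, z ∈ F₁ ↔ z ^ q = z := fun z => Iff.rfl
  have hcardF₁ : Nat.card F₁ = q := by
    rw [← H50.card_fixed hF]
    exact Nat.card_congr (Equiv.subtypeEquivRight hmem)
  obtain ⟨θ, hθ⟩ : ∃ θ : F, θ ^ q - θ ≠ 0 := by
    by_contra hcon
    push Not at hcon
    have h1 : Nat.card {x : F // x ^ q = x} = Fintype.card F := by
      rw [← Nat.card_eq_fintype_card]
      exact Nat.card_congr (Equiv.subtypeUnivEquiv fun x => sub_eq_zero.1 (hcon x))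
    rw [H50.card_fixed hF, hF, sq] at h1
    have := H50.two_le hF
    nlinarith
  have hsplit : ∀ w : F, ∃ r ∈ F₁, ∃ s ∈ F₁, w = r + θ * s := by
    intro w
    set s := (w ^ q - w) / (θ ^ q - θ) with hs'
    have hsF : s ^ q = s := by
      rw [hs', div_pow, H50.sub_pow_q hF, H50.sub_pow_q hF, H50.pow_q_pow_q hF, H50.pow_q_pow_q hF,
        ← neg_sub (w ^ q), ← neg_sub (θ ^ q), neg_div_neg_eq]
    have hse : s * (θ ^ q - θ) = w ^ q - w := div_mul_cancel₀ _ hθ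
    refine ⟨w - θ * s, ?_, s, (hmem s).2 hsF, by ring⟩
    rw [hmem, H50.sub_pow_q hF, mul_pow, hsF]
    linear_combination -hse
  set T : Matrix (Fin 4) (Fin 4) F := !![1, 0, θ, 0; 0, 1, 0, θ; 1, 0, θ ^ q, 0; 0, 1, 0, θ ^ q] with hT
  have hTdet : T.det ≠ 0 := by
    have : T.det = (θ ^ q - θ) * (θ ^ q - θ) := by
      rw [Matrix.det_succ_row_zero]
      simp [Fin.sum_univ_succ, Matrix.det_fin_three, hT, Fin.succAbove]
      ring
    rw [this]; exact mul_ne_zero hθ hθ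
  have hTv : ∀ r : Fin 4 → F, T *ᵥ r =
      ![r 0 + θ * r 2, r 1 + θ * r 3, r 0 + θ ^ q * r 2, r 1 + θ ^ q * r 3] := by
    intro r
    funext i
    fin_cases i <;> simp [Matrix.mulVec, dotProduct, Fin.sum_univ_four, hT]
  set Tg : GL (Fin 4) F := Matrix.GeneralLinearGroup.mkOfDetNeZero T hTdet with hTg
  have hrat : ∀ r : Fin 4 → F, (∀ i, r i ∈ F₁) →
      (T *ᵥ r) 2 = (T *ᵥ r) 0 ^ q ∧ (T *ᵥ r) 3 = (T *ᵥ r) 1 ^ q := by
    intro r hr
    have hr' : ∀ i, r i ^ q = r i := fun i => (hmem _).1 (hr i)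
    rw [hTv]
    constructor <;> simp [H50.add_pow_q hF, mul_pow, hr']
  obtain ⟨ζ, hζ0, hζ⟩ := H50.exists_trace_zero_ne_zero hF
  refine ⟨F₁, Q * Tg, ζ, by rw [hcardF₁, hF], hζ0, hζ, ?_, ?_, ?_⟩
  · intro u v hu hv
    rw [Units.val_mul, ← Matrix.mulVec_mulVec, ← Matrix.mulVec_mulVec, hQf, hmem]
    obtain ⟨u2, u3⟩ := hrat u hu
    obtain ⟨v2, v3⟩ := hrat v hv
    show (ζ * pairForm q (T *ᵥ u) (T *ᵥ v)) ^ q = ζ * pairForm q (T *ᵥ u) (T *ᵥ v)
    have hζ' : ζ ^ q = -ζ := by linear_combination hζ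
    simp only [pairForm, u2, u3, v2, v3, mul_pow, hζ', H50.add_pow_q hF, H50.sub_pow_q hF,
      H50.pow_q_pow_q hF]
    ring
  · intro u hu
    rw [Units.val_mul, ← Matrix.mulVec_mulVec, hQf]
    obtain ⟨u2, u3⟩ := hrat u hu
    show pairForm q (T *ᵥ u) (T *ᵥ u) = 0
    simp only [pairForm, u2, u3, H50.pow_q_pow_q hF]
    ring
  intro g hg
  obtain ⟨hgu, hgd⟩ := Subgroup.mem_inf.1 (hSU hg)
  obtain ⟨σ, hσ⟩ := hle hg
  set M : GL (Fin 4) F := Q⁻¹ * g * Q with hM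
  have hgQ : ∀ x, (g : Matrix (Fin 4) (Fin 4) F) *ᵥ ((Q : Matrix (Fin 4) (Fin 4) F) *ᵥ x) =
      (Q : Matrix (Fin 4) (Fin 4) F) *ᵥ ((M : Matrix (Fin 4) (Fin 4) F) *ᵥ x) := fun x => by
    rw [Matrix.mulVec_mulVec, Matrix.mulVec_mulVec, ← Units.val_mul, ← Units.val_mul]
    congr 2
    rw [hM]; group
  have hiso : ∀ x y, pairForm q ((M : Matrix (Fin 4) (Fin 4) F) *ᵥ x) ((M : Matrix (Fin 4) (Fin 4) F) *ᵥ y) =
      pairForm q x y := fun x y => by
    rw [← hQf, ← hQf, ← hgQ, ← hgQ, H50.mem_GU.1 hgu]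
  have hdet : (M : Matrix (Fin 4) (Fin 4) F).det = 1 := by
    have h1 : (g : Matrix (Fin 4) (Fin 4) F).det = 1 := congrArg Units.val hgd
    rw [hM, Units.val_mul, Units.val_mul, Matrix.det_mul, Matrix.det_mul, h1, mul_one, ← Matrix.det_mul,
      ← Units.val_mul, inv_mul_cancel, Units.val_one, Matrix.det_one]
  have himg : ∀ i x, (Q : Matrix (Fin 4) (Fin 4) F) *ᵥ x ∈ D i →
      (Q : Matrix (Fin 4) (Fin 4) F) *ᵥ ((M : Matrix (Fin 4) (Fin 4) F) *ᵥ x) ∈ D (σ i) := by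
    intro i x hx
    rw [← hσ i, ← hgQ]
    exact ⟨_, hx, Matrix.toLin'_apply _ _⟩
  have hcol : ∀ i j, ((M : Matrix (Fin 4) (Fin 4) F) *ᵥ Pi.single j 1) i = (M : Matrix (Fin 4) (Fin 4) F) i j :=
    fun i j => by simp
  obtain ⟨l, hl, htw⟩ := pair_twist hF hq hiso hdet (by
    have hσ01 : (σ 0 = 0 ∧ σ 1 = 1) ∨ (σ 0 = 1 ∧ σ 1 = 0) := by
      have hne : σ 0 ≠ σ 1 := σ.injective.ne (by decide)
      revert hne
      generalize σ 0 = a
      generalize σ 1 = b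
      revert a b
      decide
    rcases hσ01 with ⟨s0, s1⟩ | ⟨s0, s1⟩
    · left
      have a0 := (hQ0 _).1 (s0 ▸ himg 0 (Pi.single 0 1) ((hQ0 _).2 (by simp)))
      have a1 := (hQ0 _).1 (s0 ▸ himg 0 (Pi.single 1 1) ((hQ0 _).2 (by simp)))
      have a2 := (hQ1 _).1 (s1 ▸ himg 1 (Pi.single 2 1) ((hQ1 _).2 (by simp)))
      have a3 := (hQ1 _).1 (s1 ▸ himg 1 (Pi.single 3 1) ((hQ1 _).2 (by simp)))
      simp only [hcol] at a0 a1 a2 a3
      exact ⟨a0.1, a0.2, a1.1, a1.2, a2.1, a2.2, a3.1, a3.2⟩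
    · right
      have a0 := (hQ1 _).1 (s0 ▸ himg 0 (Pi.single 0 1) ((hQ0 _).2 (by simp)))
      have a1 := (hQ1 _).1 (s0 ▸ himg 0 (Pi.single 1 1) ((hQ0 _).2 (by simp)))
      have a2 := (hQ0 _).1 (s1 ▸ himg 1 (Pi.single 2 1) ((hQ1 _).2 (by simp)))
      have a3 := (hQ0 _).1 (s1 ▸ himg 1 (Pi.single 3 1) ((hQ1 _).2 (by simp)))
      simp only [hcol] at a0 a1 a2 a3
      exact ⟨a0.1, a0.2, a1.1, a1.2, a2.1, a2.2, a3.1, a3.2⟩)
  set R : Matrix (Fin 4) (Fin 4) F :=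
    l⁻¹ • (((Tg⁻¹ : GL (Fin 4) F) : Matrix (Fin 4) (Fin 4) F) * M * T) with hR
  have hTR : T * R = l⁻¹ • ((M : Matrix (Fin 4) (Fin 4) F) * T) := by
    rw [hR, Matrix.mul_smul, ← Matrix.mul_assoc, ← Matrix.mul_assoc,
      show T * ((Tg⁻¹ : GL (Fin 4) F) : Matrix (Fin 4) (Fin 4) F) = 1 from Tg.mul_inv, Matrix.one_mul]
  have hRF : ∀ i j, R i j ∈ F₁ := by
    intro i j
    obtain ⟨h2, h3⟩ := hrat (Pi.single j 1) (fun k => by
      rcases eq_or_ne k j with rfl | hk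
      · rw [Pi.single_eq_same]; exact one_mem _
      · rw [Pi.single_eq_of_ne hk]; exact zero_mem _)
    obtain ⟨w2, w3⟩ := htw _ h2 h3
    set w := l⁻¹ • (M : Matrix (Fin 4) (Fin 4) F) *ᵥ (T *ᵥ Pi.single j 1) with hw
    obtain ⟨r0, hr0, s0, hs0, e0⟩ := hsplit (w 0)
    obtain ⟨r1, hr1, s1, hs1, e1⟩ := hsplit (w 1)
    have hfix : ∀ {z : F}, z ∈ F₁ → z ^ q = z := fun hz => (hmem _).1 hz
    have hwT : w = T *ᵥ ![r0, r1, s0, s1] := by
      rw [hTv]
      funext k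
      fin_cases k
      · simpa using e0
      · simpa using e1
      · simp [w2, e0, H50.add_pow_q hF, mul_pow, hfix hr0, hfix hs0]
      · simp [w3, e1, H50.add_pow_q hF, mul_pow, hfix hr1, hfix hs1]
    have hcolR : R *ᵥ Pi.single j 1 = ![r0, r1, s0, s1] := by
      refine Matrix.mulVec_injective_of_isUnit Tg.isUnit ?_
      show T *ᵥ _ = T *ᵥ _
      rw [← hwT, Matrix.mulVec_mulVec, hTR, Matrix.smul_mulVec, hw, Matrix.mulVec_mulVec]
    have := congrFun hcolR i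
    rw [Matrix.mulVec_single_one, Matrix.col_apply] at this
    rw [this]
    fin_cases i <;> assumption
  set R₀ : Matrix (Fin 4) (Fin 4) F₁ := Matrix.of fun i j => ⟨R i j, hRF i j⟩ with hR₀
  have hRmap : R₀.map F₁.subtype = R := by ext i j; rfl
  have hRdet : R₀.det ≠ 0 := by
    intro h
    have h1 : R.det = 0 := by
      rw [← hRmap, ← RingHom.mapMatrix_apply, ← RingHom.map_det, h, map_zero]
    rw [hR, Matrix.det_smul, Matrix.det_mul, Matrix.det_mul, hdet] at h1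
    simp only [mul_eq_zero, pow_eq_zero_iff', inv_eq_zero, hl, false_and, false_or, hTdet, or_false,
      one_ne_zero] at h1
    exact (Units.isUnit Tg⁻¹).map (Matrix.detMonoidHom) |>.ne_zero h1
  set R₁ : GL (Fin 4) F₁ := Matrix.GeneralLinearGroup.mkOfDetNeZero R₀ hRdet with hR₁
  refine ⟨Matrix.GeneralLinearGroup.map (F₁.subtype : F₁ →+* F) R₁ *
    Matrix.GeneralLinearGroup.scalar (Fin 4) (Units.mk0 l hl),
    mul_mem (Subgroup.mem_sup_left ⟨R₁, rfl⟩) (Subgroup.mem_sup_right ?_), ?_⟩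
  · exact H46.mem_scalars_of_eq_smul (c := l) (by
      ext i j
      simp [Matrix.GeneralLinearGroup.scalar, Matrix.scalar_apply, Matrix.diagonal_apply, Matrix.one_apply])
  · have key : (g : Matrix (Fin 4) (Fin 4) F) * ((Q : Matrix (Fin 4) (Fin 4) F) * T) =
        (Q : Matrix (Fin 4) (Fin 4) F) * T * (l • R) := by
      rw [Matrix.mul_assoc (Q : Matrix (Fin 4) (Fin 4) F), Matrix.mul_smul, hTR, smul_smul,
        mul_inv_cancel₀ hl, one_smul, ← Matrix.mul_assoc, ← Matrix.mul_assoc, ← Units.val_mul,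
        ← Units.val_mul, hM]
      congr 2
      group
    apply Units.ext
    show ((Q * Tg : GL (Fin 4) F) : Matrix (Fin 4) (Fin 4) F) * _ * _ = _
    rw [show ((Matrix.GeneralLinearGroup.map (F₁.subtype : F₁ →+* F) R₁ *
      Matrix.GeneralLinearGroup.scalar (Fin 4) (Units.mk0 l hl) : GL (Fin 4) F) :
      Matrix (Fin 4) (Fin 4) F) = l • R by
        show R₀.map F₁.subtype * _ = _
        rw [hRmap]
        ext i j
        simp [Matrix.GeneralLinearGroup.scalar, Matrix.scalar_apply, Matrix.mul_diagonal, mul_comm]]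
    rw [show ((Q * Tg : GL (Fin 4) F) : Matrix (Fin 4) (Fin 4) F) = (Q : Matrix (Fin 4) (Fin 4) F) * T from rfl,
      ← key, Matrix.mul_assoc (g : Matrix (Fin 4) (Fin 4) F)]
    show _ * (((Q * Tg : GL (Fin 4) F) : Matrix (Fin 4) (Fin 4) F) * _) = _
    rw [← Units.val_mul, mul_inv_cancel, Units.val_one, Matrix.mul_one]

end H38.SUMax
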