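import Cfsg.Agent.H38.SUMax.Basic
import Cfsg.Agent.H45.ClsUnitary

/-!
The subfield members split by index and type; arithmetic of the symplectic-type members.
-/

set_option autoImplicit false
set_option linter.unusedSectionVars false
set_option maxHeartbeats 1000000

open Cfsg Cfsg.Geo
open scoped Matrix MatrixGroups

namespace H38.SUMax

variable {F : Type*} [Field F] [Fintype F] {n q : ℕ}

/-- The possibilities for a maximal subgroup of SU, subfield members normalised. -/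
inductive SUList (q : ℕ) (H : Subgroup (GL (Fin n) F)) : Prop
  | singular (W : Submodule F (Fin n → F)) (hW : W ≠ ⊥)
      (hs : IsTotallySingularFor (hermForm n F q) W) (h : H = subspaceStabilizer W ⊓ suGL n F q)
  | nondeg (W : Submodule F (Fin n → F)) (hW : W ≠ ⊥) (hn : IsNondegenerateOn (hermForm n F q) W)
      (hlt : 2 * Module.finrank F W < n) (h : H = subspaceStabilizer W ⊓ suGL n F q)
  | decomp (t m : ℕ) (D : Fin t → Submodule F (Fin n → F)) (ht : 2 ≤ t) (hc : t * m = n)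
      (hD : IsNondegenerateMDecomposition (hermForm n F q) m D)
      (h : H = decompositionStabilizer D ⊓ suGL n F q)
  | pair (m : ℕ) (D : Fin 2 → Submodule F (Fin n → F)) (hc : 2 * m = n) (hD : IsMDecomposition m D)
      (hs : ∀ i, IsTotallySingularFor (hermForm n F q) (D i))
      (h : H = decompositionStabilizer D ⊓ suGL n F q)
  | field (r : ℕ) (K : Subalgebra F (Matrix (Fin n) (Fin n) F)) (hr : r.Prime) (ho : Odd r)
      (hdvd : r ∣ n) (hK : IsFieldSubalgebra r K) (hcl : IsAdjointClosedFor (hermForm n F q) K)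
      (h : H = subalgebraNormalizer K ⊓ suGL n F q)
  | tensor (n₁ n₂ : ℕ) (e : Fin n ≃ Fin n₁ × Fin n₂) (P : GL (Fin n) F)
      (f₁ : (Fin n₁ → F) → (Fin n₁ → F) → F) (f₂ : (Fin n₂ → F) → (Fin n₂ → F) → F)
      (h1 : 2 ≤ n₁) (h12 : n₁ < n₂) (hc : n₁ * n₂ = n)
      (hf₁ : IsUnitaryFormPow q f₁) (hf₂ : IsUnitaryFormPow q f₂)
      (hT : IsTensorFormStructure (fun x : F => x ^ q) (hermForm n F q) f₁ f₂ e P)
      (h : H = tensorProductSubgroup n₁ n₂ e P ⊓ suGL n F q)
  | sfOdd (F₁ : Subfield F) (r : ℕ) (P : GL (Fin n) F) (hr : r.Prime) (ho : Odd r)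
      (hc : Fintype.card F = Nat.card F₁ ^ r)
      (hrat : IsFormRationalStructure (hermForm n F q) F₁ 1 P)
      (h : H = subfieldSubgroup F₁ P ⊓ suGL n F q)
  | sfOrth (F₁ : Subfield F) (P : GL (Fin n) F) (ho : Odd q)
      (hc : Fintype.card F = Nat.card F₁ ^ 2)
      (hrat : IsFormRationalStructure (hermForm n F q) F₁ 1 P)
      (h : H = subfieldSubgroup F₁ P ⊓ suGL n F q)
  | sfSymp (F₁ : Subfield F) (P : GL (Fin n) F) (ζ : F) (he : Even n)
      (hc : Fintype.card F = Nat.card F₁ ^ 2) (hζ : ζ ≠ 0) (hζq : ζ + ζ ^ q = 0)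
      (hrat : IsFormRationalStructure (hermForm n F q) F₁ ζ P)
      (hiso : ∀ u : Fin n → F, (∀ i, u i ∈ F₁) → hermForm n F q
        ((P : Matrix (Fin n) (Fin n) F) *ᵥ u) ((P : Matrix (Fin n) (Fin n) F) *ᵥ u) = 0)
      (h : H = subfieldSubgroup F₁ P ⊓ suGL n F q)
  | sympType (r k p e : ℕ) (R : Subgroup (GL (Fin n) F)) (hR : IsSymplecticTypeGroup r R)
      (habs : ActsAbsolutelyIrreducibly (matrixSet R)) (hiso : R ≤ Cfsg.GU n F q)
      (hsim : R ≤ similarityGroup (hermForm n F q)) (hk : 1 ≤ k) (hn : n = r ^ k)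
      (hrp : r ≠ p) (hmin : IsMinimalFieldFor (Nat.card (Subgroup.center R)) p e F) (he : Even e)
      (hqp : q = p ^ (e / 2)) (hz : Nat.card (Subgroup.center R) ∣ p ^ (e / 2) + 1)
      (hcard : (Odd r ∧ Nat.card (Subgroup.center R) = r ∧ Nat.card R = r ^ (1 + 2 * k)) ∨
        (r = 2 ∧ Nat.card (Subgroup.center R) = 4 ∧ Nat.card R = 2 ^ (2 + 2 * k)))
      (h : H = subgroupNormalizer R ⊓ suGL n F q)
  | power (a t : ℕ) (e : Fin n ≃ (Fin t → Fin a)) (P : GL (Fin n) F)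
      (f₁ : (Fin a → F) → (Fin a → F) → F) (ha : 3 ≤ a) (ht : 2 ≤ t) (hc : n = a ^ t)
      (hex : ¬(q = 2 ∧ a = 3))
      (hf₁ : IsUnitaryFormPow q f₁)
      (hT : IsTensorPowerFormStructure (fun x : F => x ^ q) (hermForm n F q) f₁ e P)
      (h : H = tensorWreathSubgroup a t e P ⊓ suGL n F q)
  | residual (h : InUnitaryResidualClass H)

variable (hF : Fintype.card F = q ^ 2)
include hF

theorem sig_eq : sig hF = H45.qSigma hF := RingEquiv.ext fun x => by simp

/-- Every maximal subgroup of SU is on the list. -/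
theorem suList (hn : 3 ≤ n) (h32 : ¬(n = 3 ∧ q = 2)) {H : Subgroup (GL (Fin n) F)}
    (hH : IsMaximalIn (suGL n F q) H) : SUList q H := by
  rcases suMax hF hn h32 hH with ⟨W, h1, h2, h⟩ | ⟨W, h1, h2, h3, h⟩ | ⟨t, m, D, h1, h2, h3, h⟩ |
    ⟨m, D, h1, h2, h3, h⟩ | ⟨r, K, h1, h2, h3, h4, h5, h⟩ |
    ⟨n₁, n₂, e, P, f₁, f₂, h1, h2, h3, h4, h5, h6, h⟩ | ⟨F₁, r, P, ζ, hr, hc, hζ, hrat, h⟩ |
    ⟨r, k, p, e, R, h1, h2, h3, h4, h5, h6, h7, h8, h9, h10, h11, h12, h⟩ |
    ⟨a, t, e, P, f₁, h1, h2, h3, hex, h4, h5, h⟩ | h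
  · exact .singular W h1 h2 h
  · exact .nondeg W h1 h2 h3 h
  · exact .decomp t m D h1 h2 h3 h
  · exact .pair m D h1 h2 h3 h
  · exact .field r K h1 h2 h3 h4 h5 h
  · exact .tensor n₁ n₂ e P f₁ f₂ h1 h2 h3 h4 h5 h6 h
  · rcases H45.subfield_cases hF (by omega) hr hc hζ hrat with ⟨P', ho, h1, h2⟩ | ⟨P', rfl, ho, h1, h2⟩ |
      ⟨rfl, he, hz, hv⟩ | ⟨W, hb, ht, hW⟩
    · exact .sfOdd F₁ r P' hr ho hc h1 (h2.symm ▸ h)
    · exact .sfOrth F₁ P' ho hc h1 (h2.symm ▸ h)
    · exact .sfSymp F₁ P ζ he hc hζ hz hrat hv h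
    · have hGU : H ≤ Cfsg.GU n F q := hH.1.le.trans inf_le_left
      have hsim := H45.le_similarity_of_le_GU hF hGU
      have hWH : H ≤ subspaceStabilizer W :=
        (le_inf (h.le.trans inf_le_left) hsim).trans hW
      rcases (H45.cf_one (n := n) hF).reducible_cases hsim hb ht hWH with ⟨U, u1, u2, u3, u4⟩ |
        ⟨U, u1, u2, u3, u4, u5⟩ | ⟨m, D, u1, u2⟩
      · rw [← H45.hermForm_eq_frm hF] at u3
        exact .singular U u1 u3 (eq_inf_max hH u4 fun hle =>
          not_suTv_subspace hF (by omega) u1 u2 (hasSUTv_of_le hF hle))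
      · rw [← H45.hermForm_eq_frm hF] at u3
        rw [Fintype.card_fin] at u4
        exact .nondeg U u1 u3 u4 (eq_inf_max hH u5 fun hle =>
          not_suTv_subspace hF (by omega) u1 u2 (hasSUTv_of_le hF hle))
      · rw [← H45.hermForm_eq_frm hF] at u1
        have hc2 : 2 * m = n := by
          have := H45.card_eq_of_decomposition u1.decomp
          rw [Fintype.card_fin] at this
          exact this.symm
        refine .decomp 2 m D le_rfl hc2 u1 (eq_inf_max hH u2 fun hle => ?_)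
        exact not_suTv_decomposition hF (by omega) u1.decomp (by omega) (hasSUTv_of_le hF hle)
  · exact .sympType r k p e R h1 h2 h3 h4 h5 h6 h7 h8 h9 h10 h11 h12 h
  · exact .power a t e P f₁ h1 h2 h3 hex h4 h5 h
  · exact .residual h

omit hF in
/-- The degree of the minimal field divides r − 1. -/
theorem minimal_degree_dvd {r p e : ℕ} (hr : r.Prime) (hrp : r ≠ p)
    (hmin : IsMinimalFieldFor r p e F) : e ∣ r - 1 := by
  obtain ⟨hp, -, hcard, hdvd, hmin⟩ := hmin
  have he0 : 0 < e := by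
    rcases Nat.eq_zero_or_pos e with h | h
    · subst h
      have := Fintype.one_lt_card (α := F)
      simp [hcard] at this
    · exact h
  haveI := Fact.mk hr
  have h1 : r ∣ p ^ (r - 1) - 1 := by
    have hne : (p : ZMod r) ≠ 0 := by
      rw [Ne, ZMod.natCast_eq_zero_iff]
      exact fun h => hrp ((Nat.prime_dvd_prime_iff_eq hr hp).1 h)
    rw [← ZMod.natCast_eq_zero_iff, Nat.cast_sub (Nat.one_le_pow _ _ hp.pos), Nat.cast_pow,
      ZMod.pow_card_sub_one_eq_one hne, Nat.cast_one, sub_self]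
  have h2 : r ∣ p ^ Nat.gcd e (r - 1) - 1 := by
    rw [← Nat.pow_sub_one_gcd_pow_sub_one]
    exact Nat.dvd_gcd hdvd h1
  have hg : 0 < Nat.gcd e (r - 1) := Nat.gcd_pos_of_pos_left _ he0
  rcases Nat.lt_or_ge (Nat.gcd e (r - 1)) e with h | h
  · exact absurd h2 (hmin _ hg h)
  · have : Nat.gcd e (r - 1) = e := le_antisymm (Nat.gcd_le_left _ he0) h
    exact this ▸ Nat.gcd_dvd_right e (r - 1)

omit hF in
/-- For degree above two, r does not divide p + 1. -/
theorem not_dvd_succ {r p e : ℕ} (hmin : IsMinimalFieldFor r p e F) (he : 2 < e) : ¬ r ∣ p + 1 := by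
  obtain ⟨hp, -, -, -, hmin⟩ := hmin
  intro h
  refine hmin 2 two_pos he ?_
  rw [show p ^ 2 - 1 = (p + 1) * (p - 1) by rw [← Nat.sq_sub_sq, one_pow]]
  exact h.mul_right _

end H38.SUMax
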