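import Cfsg.Agent.H38.SUMax.Model

/-!
SU(6,2): the monomial group lies properly in the stabiliser of the configuration of 126 lines.
-/

set_option autoImplicit false
set_option linter.unusedSectionVars false
set_option maxHeartbeats 1000000

open Cfsg Cfsg.Geo
open scoped Matrix MatrixGroups

namespace H38.SUMax.SixTwo

/-- The vectors of the 126 lines. -/
def Mit {K : Type*} [CommRing K] [DecidableEq K] (v : Fin 6 → K) : Prop :=
  (Finset.univ.filter fun i => v i ≠ 0).card = 2 ∨
  ((Finset.univ.filter fun i => v i ≠ 0).card = 6 ∧ (∏ i, v i) = 1)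

instance {K : Type*} [CommRing K] [DecidableEq K] (v : Fin 6 → K) : Decidable (Mit v) := by
  unfold Mit; infer_instance

/-- The transvection at the all-ones vector. -/
def xMat : Matrix (Fin 6) (Fin 6) Quad4 := 1 + Matrix.of fun _ _ => 1

/-- The transvection at (1,1,1,1,0,0). -/
def yMat : Matrix (Fin 6) (Fin 6) Quad4 :=
  1 + Matrix.of fun i j => if i.val < 4 ∧ j.val < 4 then 1 else 0

theorem xMat_unitary : (xMat.map fun z => z ^ 2)ᵀ * xMat = 1 ∧ xMat.det = 1 := by decide +kernel

theorem yMat_unitary : (yMat.map fun z => z ^ 2)ᵀ * yMat = 1 ∧ yMat.det = 1 := by decide +kernel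

def ww : Quad4 := ⟨0, 1⟩

theorem yMat_moves : Mit (![1, ww, 0, 0, 0, 0] : Fin 6 → Quad4) ∧
    ¬ Mit (yMat *ᵥ (![1, ww, 0, 0, 0, 0] : Fin 6 → Quad4)) := by decide +kernel

theorem xMat_keeps : ∀ a b c d f g : Quad4, Mit ![a, b, c, d, f, g] →
    Mit (xMat *ᵥ ![a, b, c, d, f, g]) := by
  decide +kernel

theorem xMat_entries : xMat 1 0 ≠ 0 ∧ xMat 2 0 ≠ 0 := by decide +kernel

theorem mit_map {K F : Type*} [CommRing K] [DecidableEq K] [CommRing F] [DecidableEq F]
    (e : K →+* F) (he : Function.Injective e) (c : Fin 6 → K) : Mit (e ∘ c) ↔ Mit c := by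
  simp only [Mit, Function.comp_apply, map_ne_zero_iff e he, he.eq_iff, ← map_prod, ← map_one e]

variable {F : Type*} [Field F] [Fintype F] {q : ℕ}

/-- No maximal subgroup of SU(6,2) fixes a frame. -/
theorem no_frame (hF : Fintype.card F = q ^ 2) (hq : q = 2) {D : Fin 6 → Submodule F (Fin 6 → F)}
    (hD : IsNondegenerateMDecomposition (hermForm 6 F q) 1 D)
    {H : Subgroup (GL (Fin 6) F)} (hH : IsMaximalIn (suGL 6 F q) H)
    (hle : H ≤ decompositionStabilizer D) : False := by
  classical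
  subst hq
  obtain ⟨e⟩ := exists_model Quad4 (F := F) (by rw [hF]; decide)
  have hinj : Function.Injective e.toRingHom := e.injective
  obtain ⟨x, hx, hxv⟩ := exists_of_model hF e.toRingHom xMat_unitary.1 xMat_unitary.2
  obtain ⟨y, hy, hyv⟩ := exists_of_model hF e.toRingHom yMat_unitary.1 yMat_unitary.2
  have h2 : (2 : F) = 0 := by
    have := congrArg e.toRingHom (show (2 : Quad4) = 0 by decide +kernel)
    simpa only [map_ofNat, map_zero] using this
  refine frame_excluded hF (S := {v | Mit v}) ?_ hx (fun v hv => ?_) ⟨0, 1, 2, by decide, ?_, ?_⟩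
    hy ⟨e.toRingHom ∘ ![1, ww, 0, 0, 0, 0], (mit_map _ hinj _).2 yMat_moves.1, ?_⟩ hD hH hle
  · intro π d hd hdet v hv
    have hd0 : ∀ i, d i ≠ 0 := fun i h => by simpa [h] using hd i
    have hcard : (Finset.univ.filter fun i => d i * v (π i) ≠ 0).card =
        (Finset.univ.filter fun i => v i ≠ 0).card :=
      Finset.card_equiv π fun i => by simp [hd0 i]
    have hp : ∏ i, d i = 1 := by
      have hneg : (-1 : F) = 1 := by linear_combination -h2
      rcases Int.units_eq_one_or (Equiv.Perm.sign π) with hs | hs <;>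
        simpa [hs, hneg] using hdet
    rcases hv with h | ⟨h, h'⟩
    · exact Or.inl (by rw [hcard, h])
    · exact Or.inr ⟨by rw [hcard, h], by rw [Finset.prod_mul_distrib, Equiv.prod_comp π v, hp, h', one_mul]⟩
  · obtain ⟨c, rfl⟩ : ∃ c, v = e.toRingHom ∘ c := ⟨e.symm ∘ v, funext fun i => by simp⟩
    show Mit _
    rw [hxv, map_mulVec_model, mit_map _ hinj]
    have hv' : Mit c := (mit_map _ hinj _).1 hv
    have hc : c = ![c 0, c 1, c 2, c 3, c 4, c 5] := funext fun i => by fin_cases i <;> rfl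
    rw [hc] at hv' ⊢
    exact xMat_keeps _ _ _ _ _ _ hv'
  · rw [hxv]; exact (map_ne_zero_iff _ hinj).2 xMat_entries.1
  · rw [hxv]; exact (map_ne_zero_iff _ hinj).2 xMat_entries.2
  · show ¬ Mit _
    rw [hyv, map_mulVec_model, mit_map _ hinj]
    exact yMat_moves.2

end H38.SUMax.SixTwo
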