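import Cfsg.Agent.H38.SUMax.Refine

/-!
Refinements over the field of four elements: planes split canonically into two lines.
-/

set_option autoImplicit false
set_option linter.unusedSectionVars false
set_option maxHeartbeats 1000000

open Cfsg Cfsg.Geo
open scoped Matrix MatrixGroups Kronecker

namespace H38.SUMax

variable {F : Type*} [Field F] [Fintype F] {n q : ℕ}

theorem isNondeg_of_on {W : Submodule F (Fin n → F)} (hW : IsNondegenerateOn (hermForm n F q) W) :
    H50.IsNondeg q W := by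
  intro u hu h
  by_contra h0
  obtain ⟨-, x, hx, hx0⟩ := hW u hu h0
  exact hx0 (h x hx)

variable (hF : Fintype.card F = q ^ 2)
include hF

/-- An orthogonal anisotropic basis gives a decomposition into lines. -/
theorem nondegenerate_frame (hn : 2 ≤ n) {b : Fin n → Fin n → F}
    (hort : ∀ i j, i ≠ j → hermForm n F q (b i) (b j) = 0)
    (hne : ∀ i, hermForm n F q (b i) (b i) ≠ 0) :
    IsNondegenerateMDecomposition (hermForm n F q) 1 (fun i => Submodule.span F {b i}) := by
  have hli : LinearIndependent F b := by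
    rw [Fintype.linearIndependent_iff]
    intro c hc i
    have h := congrArg (fun z => hermForm n F q z (b i)) hc
    simp only [H50.h_sum_left, H50.h_zero_left] at h
    rw [Finset.sum_eq_single i (fun j _ hj => by rw [H50.h_smul_left, hort j i hj, mul_zero]) (by simp),
      H50.h_smul_left] at h
    exact (mul_eq_zero.1 h).resolve_right (hne i)
  have hb0 : ∀ i, b i ≠ 0 := fun i e => hne i (by rw [e, H50.h_zero_left])
  refine ⟨⟨hn, one_pos, fun i => finrank_span_singleton (hb0 i),
    hli.iSupIndep_span_singleton, ?_⟩, fun i w hw hw0 => ?_, fun i j hij u hu v hv => ?_⟩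
  · rw [← Submodule.span_range_eq_iSup]
    exact hli.span_eq_top_of_card_eq_finrank' (by simp)
  · obtain ⟨a, rfl⟩ := Submodule.mem_span_singleton.1 hw
    have ha : a ≠ 0 := fun e => hw0 (by rw [e, zero_smul])
    refine ⟨⟨b i, Submodule.mem_span_singleton_self _, ?_⟩, ⟨b i, Submodule.mem_span_singleton_self _, ?_⟩⟩
    · rw [H50.h_smul_right hF]; exact mul_ne_zero (pow_ne_zero _ ha) (hne i)
    · rw [H50.h_smul_left]; exact mul_ne_zero ha (hne i)
  · obtain ⟨a, rfl⟩ := Submodule.mem_span_singleton.1 hu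
    obtain ⟨c, rfl⟩ := Submodule.mem_span_singleton.1 hv
    rw [H50.h_smul_left, H50.h_smul_right hF, hort i j hij, mul_zero, mul_zero]

omit hF in
/-- A matrix permuting the lines of a linearly independent family. -/
theorem mem_decompositionStabilizer_lines {t : ℕ} {b : Fin t → Fin n → F} (hli : LinearIndependent F b)
    (g : GL (Fin n) F) (h : ∀ i, ∃ j, ∃ c : F, (g : Matrix (Fin n) (Fin n) F) *ᵥ b i = c • b j) :
    g ∈ decompositionStabilizer (fun i => Submodule.span F {b i}) := by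
  choose π c hπ using h
  have hinj' : Function.Injective fun v => (g : Matrix (Fin n) (Fin n) F) *ᵥ v :=
    Matrix.mulVec_injective_of_isUnit g.isUnit
  have hc : ∀ i, c i ≠ 0 := fun i e => by
    have h1 := hπ i
    rw [e, zero_smul] at h1
    exact hli.ne_zero i (hinj' (h1.trans (Matrix.mulVec_zero _).symm))
  have hinj : Function.Injective π := by
    intro i i' e
    by_contra hne
    have h1 : (g : Matrix (Fin n) (Fin n) F) *ᵥ b i = (g : Matrix (Fin n) (Fin n) F) *ᵥ ((c i / c i') • b i') := by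
      rw [Matrix.mulVec_smul, hπ, hπ, e, smul_smul, div_mul_cancel₀ _ (hc i')]
    have h3 : b i = (c i / c i') • b i' := hinj' h1
    exact hli.notMem_span_image (s := {i'}) (Set.notMem_singleton_iff.2 hne)
      (by rw [Set.image_singleton]; exact Submodule.mem_span_singleton.2 ⟨_, h3.symm⟩)
  refine ⟨Equiv.ofBijective π (Finite.injective_iff_bijective.1 hinj), fun i => ?_⟩
  rw [Submodule.map_span, Set.image_singleton, Matrix.toLin'_apply, hπ]
  exact Submodule.span_singleton_smul_eq (IsUnit.mk0 _ (hc i)) _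

/-- In a non-degenerate plane over the field of four elements the anisotropic vectors lie on two
lines. -/
theorem plane_lines (hq : q = 2) {b : Fin 2 → Fin n → F} (hb : H50.IsON q b) {x : Fin n → F}
    (hx : x ∈ Submodule.span F (Set.range b)) (hxx : hermForm n F q x x ≠ 0) :
    ∃ (j : Fin 2) (a : F), x = a • b j := by
  obtain ⟨c, rfl⟩ := (Submodule.mem_span_range_iff_exists_fun F).1 hx
  rw [Fin.sum_univ_two] at hxx ⊢
  have h2 : (2 : F) = 0 := by
    obtain ⟨p, f, hp, -, hc, hqp⟩ := H50.exists_prime_pow hF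
    obtain rfl : p = 2 := by
      refine (Nat.prime_dvd_prime_iff_eq hp Nat.prime_two).1 ?_
      rw [← hq, hqp]; exact dvd_pow_self p (by rintro rfl; simp [hq] at hqp)
    exact CharTwo.two_eq_zero
  have e : hermForm n F q (c 0 • b 0 + c 1 • b 1) (c 0 • b 0 + c 1 • b 1) =
      c 0 ^ (q + 1) + c 1 ^ (q + 1) := by
    simp [H50.h_add_left, H50.h_add_right hF, H50.h_smul_left, H50.h_smul_right hF, hb 0 0, hb 0 1,
      hb 1 0, hb 1 1, pow_succ, mul_comm]
  rw [e] at hxx
  by_cases h0 : c 0 = 0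
  · exact ⟨1, c 1, by rw [h0, zero_smul, zero_add]⟩
  by_cases h1 : c 1 = 0
  · exact ⟨0, c 0, by rw [h1, zero_smul, add_zero]⟩
  exfalso
  have hn1 : ∀ y : F, y ≠ 0 → y ^ (q + 1) = 1 := fun y hy => by
    have := FiniteField.pow_card_sub_one_eq_one y hy
    rw [hF, hq] at this
    rw [hq]
    exact this
  rw [hn1 _ h0, hn1 _ h1] at hxx
  exact hxx (by linear_combination h2)

/-- For q = 2 a decomposition into planes refines to one into lines. -/
theorem frame_of_planes (hq : q = 2) {t : ℕ} (htn : t * 2 = n) (hn : 2 ≤ n)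
    {D : Fin t → Submodule F (Fin n → F)} (hD : IsNondegenerateMDecomposition (hermForm n F q) 2 D)
    {H : Subgroup (GL (Fin n) F)} (hH : H ≤ decompositionStabilizer D) (hGU : H ≤ Cfsg.GU n F q) :
    ∃ E : Fin n → Submodule F (Fin n → F), IsNondegenerateMDecomposition (hermForm n F q) 1 E ∧
      H ≤ decompositionStabilizer E := by
  choose b hbON hbD hbspan using fun i => H50.exists_ON_basis hF (isNondeg_of_on (hD.nondegenerate i))
    (hD.decomp.finrank_eq i)
  let ε : Fin n ≃ Fin t × Fin 2 := ((finProdFinEquiv).trans (finCongr htn)).symm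
  let B : Fin n → Fin n → F := fun i => b (ε i).1 (ε i).2
  have hne : ∀ i, hermForm n F q (B i) (B i) ≠ 0 := fun i => by
    simp only [B]
    rw [hbON, if_pos rfl]
    exact one_ne_zero
  have hort : ∀ i j, i ≠ j → hermForm n F q (B i) (B j) = 0 := by
    intro i j hij
    rcases eq_or_ne (ε i).1 (ε j).1 with h | h
    · simp only [B]
      rw [← h, hbON, if_neg]
      intro h'
      exact hij (ε.injective (Prod.ext h h'))
    · exact hD.orthogonal _ _ h _ (hbD _ _) _ (hbD _ _)
  have hfr := nondegenerate_frame hF hn hort hne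
  refine ⟨_, hfr, fun g hg => mem_decompositionStabilizer_lines ?_ g fun i => ?_⟩
  · rw [Fintype.linearIndependent_iff]
    intro c hc i
    have h := congrArg (fun z => hermForm n F q z (B i)) hc
    simp only [H50.h_sum_left, H50.h_zero_left] at h
    rw [Finset.sum_eq_single i (fun j _ hj => by rw [H50.h_smul_left, hort j i hj, mul_zero]) (by simp),
      H50.h_smul_left] at h
    exact (mul_eq_zero.1 h).resolve_right (hne i)
  · obtain ⟨σ, hσ⟩ := hH hg
    have hmem : (g : Matrix (Fin n) (Fin n) F) *ᵥ B i ∈ Submodule.span F (Set.range (b (σ (ε i).1))) := by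
      rw [hbspan, ← hσ]
      exact ⟨_, hbD _ _, Matrix.toLin'_apply _ _⟩
    obtain ⟨j, a, hj⟩ := plane_lines hF hq (hbON _) hmem (by
      rw [(H50.mem_GU.1 (hGU hg)) (B i) (B i)]; exact hne i)
    exact ⟨ε.symm (σ (ε i).1, j), a, by simp only [B, Equiv.apply_symm_apply]; exact hj⟩

/-- For q = 2 a tensor factor of dimension two gives an orthogonal decomposition into two. -/
theorem decomp_of_tensor_two (hq : q = 2) {n₂ : ℕ} (hn₂ : 1 ≤ n₂) (e : Fin n ≃ Fin 2 × Fin n₂)
    (P : GL (Fin n) F) {f₁ : (Fin 2 → F) → (Fin 2 → F) → F} {f₂ : (Fin n₂ → F) → (Fin n₂ → F) → F}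
    (hf₁ : IsUnitaryFormPow q f₁) (hf₂ : IsUnitaryFormPow q f₂)
    (hT : IsTensorFormStructure (fun x : F => x ^ q) (hermForm n F q) f₁ f₂ e P)
    {H : Subgroup (GL (Fin n) F)} (hH : H ≤ tensorProductSubgroup 2 n₂ e P) (hGU : H ≤ Cfsg.GU n F q) :
    ∃ D : Fin 2 → Submodule F (Fin n → F), IsNondegenerateMDecomposition (hermForm n F q) n₂ D ∧
      H ≤ decompositionStabilizer D := by
  obtain ⟨c, hc, hT⟩ := hT
  have har : ∀ {k : ℕ} {f : (Fin k → F) → (Fin k → F) → F}, IsUnitaryFormPow q f →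
      (∀ v x y, f v (x + y) = f v x + f v y) ∧ (∀ (a : F) v x, f v (a • x) = a ^ q * f v x) := by
    intro k f hf
    exact ⟨fun v x y => by rw [hf.herm, hf.add_left, H50.add_pow_q hF, ← hf.herm, ← hf.herm],
      fun a v x => by rw [hf.herm, hf.smul_left, mul_pow, ← hf.herm]⟩
  have hgram : ∀ {k : ℕ} {f : (Fin k → F) → (Fin k → F) → F}, IsUnitaryFormPow q f →
      f = formOfGram (fun x : F => x ^ q) (gramMatrix f) := fun hf =>
    H46.eq_formOfGram (sig hF) _ hf.add_left hf.smul_left (har hf).1 (har hf).2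
  have h2 : (2 : F) = 0 := by
    obtain ⟨p, f, hp, -, hc', hqp⟩ := H50.exists_prime_pow hF
    obtain rfl : p = 2 := by
      refine (Nat.prime_dvd_prime_iff_eq hp Nat.prime_two).1 ?_
      rw [← hq, hqp]; exact dvd_pow_self p (by rintro rfl; simp [hq] at hqp)
    exact CharTwo.two_eq_zero
  have hone : ∀ y : F, y ^ q = y → y ≠ 0 → y = 1 := fun y hy hy0 => by
    rw [hq, sq] at hy
    exact mul_left_cancel₀ hy0 (by rw [hy, mul_one])
  -- an orthogonal anisotropic basis of the first factor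
  have haniso : ∀ {k : ℕ} {f : (Fin k → F) → (Fin k → F) → F}, IsUnitaryFormPow q f → 0 < k →
      ∃ v, f v v ≠ 0 := by
    intro k f hf hk
    by_contra hcon
    push Not at hcon
    have hv : (Pi.single (⟨0, hk⟩ : Fin k) (1 : F) : Fin k → F) ≠ 0 := by simp
    obtain ⟨⟨x, hx⟩, -⟩ := hf.nondegenerate _ hv
    obtain ⟨d, hd⟩ := H50.exists_trace_ne_zero hF
    have := hcon ((d / f x (Pi.single ⟨0, hk⟩ 1)) • x + Pi.single ⟨0, hk⟩ 1)
    rw [hf.add_left, (har hf).1, (har hf).1, hf.smul_left, hf.smul_left, (har hf).2, (har hf).2,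
      hcon, hcon, hf.herm (Pi.single _ 1) x, mul_zero, mul_zero, zero_add, add_zero, ← mul_pow,
      div_mul_cancel₀ _ hx] at this
    exact hd this
  obtain ⟨v₀, hv₀⟩ := haniso hf₁ (by norm_num)
  have hv₀1 : f₁ v₀ v₀ = 1 := hone _ (hf₁.herm v₀ v₀).symm hv₀
  obtain ⟨v₁, hv₁0, hv₁o⟩ : ∃ v₁ : Fin 2 → F, v₁ ≠ 0 ∧ f₁ v₁ v₀ = 0 := by
    let L : (Fin 2 → F) →ₗ[F] F :=
      { toFun := fun x => f₁ x v₀, map_add' := fun x y => hf₁.add_left x y v₀,
        map_smul' := fun a x => hf₁.smul_left a x v₀ }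
    have hker : LinearMap.ker L ≠ ⊥ := fun h => by
      have h1 := LinearMap.finrank_le_finrank_of_injective (LinearMap.ker_eq_bot.1 h)
      simp at h1
    obtain ⟨v, hv, hv0⟩ := Submodule.exists_mem_ne_zero_of_ne_bot hker
    exact ⟨v, hv0, hv⟩
  have hv₁o' : f₁ v₀ v₁ = 0 := by rw [hf₁.herm, hv₁o, zero_pow (H50.q_ne_zero hF)]
  have hspan : ∀ x, ∃ a b : F, x = a • v₀ + b • v₁ := by
    intro x
    have hli : LinearIndependent F ![v₀, v₁] := by
      rw [LinearIndependent.pair_iff]
      intro a b hab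
      have h1 := congrArg (fun z => f₁ z v₀) hab
      simp only [hf₁.add_left, hf₁.smul_left, hv₀1, hv₁o, mul_zero, add_zero, mul_one] at h1
      have h0 : f₁ 0 v₀ = 0 := by simpa using hf₁.smul_left 0 0 v₀
      rw [h0] at h1
      rw [h1, zero_smul, zero_add] at hab
      exact ⟨h1, (smul_eq_zero.1 hab).resolve_right hv₁0⟩
    have hx : x ∈ Submodule.span F (Set.range ![v₀, v₁]) := by
      rw [hli.span_eq_top_of_card_eq_finrank' (by simp)]; trivial
    obtain ⟨d, hd⟩ := (Submodule.mem_span_range_iff_exists_fun F).1 hx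
    exact ⟨d 0, d 1, by rw [← hd, Fin.sum_univ_two]; simp⟩
  have hv₁ : f₁ v₁ v₁ ≠ 0 := by
    intro h
    obtain ⟨⟨x, hx⟩, -⟩ := hf₁.nondegenerate v₁ hv₁0
    obtain ⟨a, b, rfl⟩ := hspan x
    exact hx (by rw [hf₁.add_left, hf₁.smul_left, hf₁.smul_left, hv₁o', h, mul_zero, mul_zero, add_zero])
  have hv₁1 : f₁ v₁ v₁ = 1 := hone _ (hf₁.herm v₁ v₁).symm hv₁
  set v : Fin 2 → (Fin 2 → F) := ![v₀, v₁] with hv
  have hvv : ∀ a b, f₁ (v a) (v b) = if a = b then 1 else 0 := by
    intro a b
    fin_cases a <;> fin_cases b <;> simp [hv, hv₀1, hv₁1, hv₁o, hv₁o']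
  have hlines : ∀ x, f₁ x x ≠ 0 → ∃ (j : Fin 2) (a : F), x = a • v j := by
    intro x hx
    obtain ⟨a, b, rfl⟩ := hspan x
    by_cases ha : a = 0
    · exact ⟨1, b, by simp [hv, ha]⟩
    by_cases hb : b = 0
    · exact ⟨0, a, by simp [hv, hb]⟩
    exfalso
    have hn1 : ∀ y : F, y ≠ 0 → y ^ (q + 1) = 1 := fun y hy => by
      have := FiniteField.pow_card_sub_one_eq_one y hy
      rw [hF, hq] at this
      rw [hq]
      exact this
    apply hx
    rw [hf₁.add_left, (har hf₁).1, (har hf₁).1, hf₁.smul_left, hf₁.smul_left, hf₁.smul_left,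
      hf₁.smul_left, (har hf₁).2, (har hf₁).2, (har hf₁).2, (har hf₁).2, hv₀1, hv₁1, hv₁o, hv₁o']
    have e1 : a * a ^ q = 1 := by rw [← pow_succ']; exact hn1 a ha
    have e2 : b * b ^ q = 1 := by rw [← pow_succ']; exact hn1 b hb
    linear_combination e1 + e2 + h2
  -- the two blocks
  let pure : (Fin 2 → F) → (Fin n₂ → F) → (Fin n → F) := fun x w =>
    (P : Matrix (Fin n) (Fin n) F) *ᵥ ((fun p : Fin 2 × Fin n₂ => x p.1 * w p.2) ∘ e)
  have hpure : ∀ x w x' w', hermForm n F q (pure x w) (pure x' w') = c * (f₁ x x' * f₂ w w') := by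
    intro x w x' w'
    rw [show hermForm n F q (pure x w) (pure x' w') = _ from hT _ _,
      congrFun (congrFun (hgram hf₁) x) x', congrFun (congrFun (hgram hf₂) w) w']
    congr 1
    simp only [formOfGram, Fintype.sum_prod_type, Matrix.kroneckerMap_apply, mul_pow, Finset.sum_mul_sum]
    refine Finset.sum_congr rfl fun i _ => Finset.sum_congr rfl fun k _ =>
      Finset.sum_congr rfl fun j _ => Finset.sum_congr rfl fun l _ => ?_
    ring
  let Φ : Fin 2 → ((Fin n₂ → F) →ₗ[F] (Fin n → F)) := fun a =>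
    { toFun := fun w => pure (v a) w
      map_add' := fun w w' => by
        simp only [pure, ← Matrix.mulVec_add]
        congr 1
        funext k
        simp [mul_add]
      map_smul' := fun r w => by
        simp only [pure, RingHom.id_apply, ← Matrix.mulVec_smul]
        congr 1
        funext k
        simp [mul_left_comm] }
  have hΦinj : ∀ a, Function.Injective (Φ a) := by
    intro a w w' h
    have h1 : Φ a (w - w') = 0 := by rw [map_sub, h, sub_self]
    by_contra hne
    obtain ⟨-, x, hx⟩ := hf₂.nondegenerate _ (sub_ne_zero.2 hne)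
    have h3 := hpure (v a) (w - w') (v a) x
    rw [show pure (v a) (w - w') = 0 from h1, H50.h_zero_left, hvv, if_pos rfl, one_mul] at h3
    exact mul_ne_zero hc hx h3.symm
  set D : Fin 2 → Submodule F (Fin n → F) := fun a => LinearMap.range (Φ a) with hD
  have hDo : ∀ a b, a ≠ b → AreOrthogonalFor (hermForm n F q) (D a) (D b) := by
    rintro a b hab _ ⟨w, rfl⟩ _ ⟨w', rfl⟩
    show hermForm n F q (pure _ _) (pure _ _) = 0
    rw [hpure, hvv, if_neg hab, zero_mul, mul_zero]
  have hDnd : ∀ a, IsNondegenerateOn (hermForm n F q) (D a) := by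
    rintro a _ ⟨w, rfl⟩ hw0
    have hw : w ≠ 0 := fun e => hw0 (by rw [e, map_zero])
    obtain ⟨⟨x, hx⟩, ⟨y, hy⟩⟩ := hf₂.nondegenerate w hw
    refine ⟨⟨Φ a x, ⟨x, rfl⟩, ?_⟩, ⟨Φ a y, ⟨y, rfl⟩, ?_⟩⟩
    · show hermForm n F q (pure _ _) (pure _ _) ≠ 0
      rw [hpure, hvv, if_pos rfl, one_mul]; exact mul_ne_zero hc hx
    · show hermForm n F q (pure _ _) (pure _ _) ≠ 0
      rw [hpure, hvv, if_pos rfl, one_mul]; exact mul_ne_zero hc hy
  have hdisj : Disjoint (D 0) (D 1) := by
    rw [Submodule.disjoint_def]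
    intro x hx0 hx1
    by_contra hne
    obtain ⟨⟨y, hy, hyx⟩, -⟩ := hDnd 0 x hx0 hne
    exact hyx (hDo 0 1 (by decide) y hy x hx1)
  have hn : n = 2 * n₂ := by
    have := Fintype.card_congr e
    simpa using this
  have hfr : ∀ a, Module.finrank F (D a) = n₂ := fun a => by
    rw [hD]
    simp only
    rw [LinearMap.finrank_range_of_inj (hΦinj a)]
    simp
  have htop : iSup D = ⊤ := by
    refine Submodule.eq_top_of_finrank_eq ?_
    have h1 : iSup D = D 0 ⊔ D 1 := by
      refine le_antisymm (iSup_le fun a => ?_) (sup_le (le_iSup D 0) (le_iSup D 1))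
      fin_cases a
      exacts [le_sup_left, le_sup_right]
    rw [h1]
    have h3 := Submodule.finrank_sup_add_finrank_inf_eq (D 0) (D 1)
    rw [hdisj.eq_bot, finrank_bot, add_zero, hfr, hfr] at h3
    rw [h3, Module.finrank_fintype_fun_eq_card, Fintype.card_fin]
    omega
  refine ⟨D, ⟨⟨le_rfl, hn₂, hfr, ?_, htop⟩, hDnd, hDo⟩, fun g hg => ?_⟩
  · rw [iSupIndep_pair (i := (0 : Fin 2)) (j := 1) (by decide) (fun k => by fin_cases k <;> simp)]
    exact hdisj
  obtain ⟨_, ⟨k, ⟨x, y, hxy⟩, rfl⟩, hgk⟩ := hH hg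
  have hg' : g = H46.glCoords e P k := hgk.symm
  have hact : ∀ u w, (g : Matrix (Fin n) (Fin n) F) *ᵥ pure u w =
      pure ((x : Matrix (Fin 2) (Fin 2) F) *ᵥ u) ((y : Matrix (Fin n₂) (Fin n₂) F) *ᵥ w) := by
    intro u w
    rw [hg', H46.glCoords_val, H46.matCoords_mulVec, hxy]
    simp only [pure]
    congr 2
    funext p
    simp only [Matrix.mulVec, dotProduct, Matrix.kroneckerMap_apply, Fintype.sum_prod_type,
      Finset.sum_mul, Finset.mul_sum]
    rw [Finset.sum_comm]
    refine Finset.sum_congr rfl fun i _ => Finset.sum_congr rfl fun j _ => ?_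
    ring
  obtain ⟨w₀, hw₀⟩ := haniso hf₂ hn₂
  have hmove : ∀ a, ∃ b, ∃ r : F, (x : Matrix (Fin 2) (Fin 2) F) *ᵥ v a = r • v b := by
    intro a
    refine hlines _ fun h0 => ?_
    have h3 := (H50.mem_GU.1 (hGU hg)) (pure (v a) w₀) (pure (v a) w₀)
    rw [hact, hpure, hpure, h0, zero_mul, mul_zero, hvv, if_pos rfl, one_mul] at h3
    exact mul_ne_zero hc hw₀ h3.symm
  choose π r hπ using hmove
  have hinjv : Function.Injective fun u => (x : Matrix (Fin 2) (Fin 2) F) *ᵥ u :=
    Matrix.mulVec_injective_of_isUnit x.isUnit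
  have hr : ∀ a, r a ≠ 0 := fun a e => by
    have h3 := hπ a
    rw [e, zero_smul] at h3
    have : v a = 0 := hinjv (h3.trans (Matrix.mulVec_zero _).symm)
    have h4 := hvv a a
    rw [this, if_pos rfl, show f₁ 0 0 = 0 by simpa using hf₁.smul_left 0 0 0] at h4
    exact zero_ne_one h4
  have hπinj : Function.Injective π := by
    intro a b hab
    by_contra hne
    have h3 : v a = (r a / r b) • v b := hinjv (by
      show _ *ᵥ v a = _ *ᵥ _
      rw [Matrix.mulVec_smul, hπ, hπ, hab, smul_smul, div_mul_cancel₀ _ (hr b)])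
    have h4 := hvv a a
    conv_lhs at h4 => arg 1; rw [h3]
    rw [hf₁.smul_left, hvv, if_neg (Ne.symm hne), mul_zero, if_pos rfl] at h4
    exact zero_ne_one h4
  refine ⟨Equiv.ofBijective π (Finite.injective_iff_bijective.1 hπinj), fun a => ?_⟩
  refine Submodule.eq_of_le_of_finrank_le ?_ ?_
  · rintro _ ⟨_, ⟨w, rfl⟩, rfl⟩
    rw [Matrix.toLin'_apply]
    show (g : Matrix (Fin n) (Fin n) F) *ᵥ pure (v a) w ∈ _
    rw [hact, hπ]
    refine ⟨r a • ((y : Matrix (Fin n₂) (Fin n₂) F) *ᵥ w), ?_⟩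
    show pure _ _ = pure _ _
    simp only [pure]
    congr 1
    funext p
    simp only [Function.comp_apply, Pi.smul_apply, smul_eq_mul, Equiv.ofBijective_apply]
    ring
  · have hinjg : Function.Injective (Matrix.toLin' (g : Matrix (Fin n) (Fin n) F)) := fun u u' huu =>
      Matrix.mulVec_injective_of_isUnit g.isUnit (by simpa using huu)
    rw [hfr, ← (Submodule.equivMapOfInjective _ hinjg (D a)).finrank_eq, hfr]

/-- Over the field of four elements a maximal subgroup fixing a decomposition into planes is the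
stabiliser of a decomposition into lines. -/
theorem lines_of_planes (hq : q = 2) (hn : 4 ≤ n) {t : ℕ} (htn : t * 2 = n)
    {D : Fin t → Submodule F (Fin n → F)} (hD : IsNondegenerateMDecomposition (hermForm n F q) 2 D)
    {H : Subgroup (GL (Fin n) F)} (hH : IsMaximalIn (suGL n F q) H)
    (h : H = decompositionStabilizer D ⊓ suGL n F q) :
    ∃ E : Fin n → Submodule F (Fin n → F), IsNondegenerateMDecomposition (hermForm n F q) 1 E ∧
      H = decompositionStabilizer E ⊓ suGL n F q := by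
  obtain ⟨E, hE, hle⟩ := frame_of_planes hF hq htn (by omega) hD (h.le.trans inf_le_left)
    (hH.1.le.trans inf_le_left)
  exact ⟨E, hE, eq_inf_max hH hle fun hsu =>
    not_suTv_frame hF (by omega) (by omega) hE (hasSUTv_of_le hF hsu)⟩

/-- Over the field of four elements a maximal subgroup fixing a tensor decomposition with a factor of
dimension two fixes an orthogonal decomposition into two. -/
theorem halves_of_tensor (hq : q = 2) {n₂ : ℕ} (hn₂ : 2 ≤ n₂) (hn : 2 * n₂ = n) (e : Fin n ≃ Fin 2 × Fin n₂)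
    (P : GL (Fin n) F) {f₁ : (Fin 2 → F) → (Fin 2 → F) → F} {f₂ : (Fin n₂ → F) → (Fin n₂ → F) → F}
    (hf₁ : IsUnitaryFormPow q f₁) (hf₂ : IsUnitaryFormPow q f₂)
    (hT : IsTensorFormStructure (fun x : F => x ^ q) (hermForm n F q) f₁ f₂ e P)
    {H : Subgroup (GL (Fin n) F)} (hH : IsMaximalIn (suGL n F q) H)
    (h : H = tensorProductSubgroup 2 n₂ e P ⊓ suGL n F q) :
    ∃ D : Fin 2 → Submodule F (Fin n → F), IsNondegenerateMDecomposition (hermForm n F q) n₂ D ∧
      H = decompositionStabilizer D ⊓ suGL n F q := by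
  obtain ⟨D, hD, hle⟩ := decomp_of_tensor_two hF hq (by omega) e P hf₁ hf₂ hT (h.le.trans inf_le_left)
    (hH.1.le.trans inf_le_left)
  exact ⟨D, hD, eq_inf_max hH hle fun hsu =>
    not_suTv_decomposition hF (by omega) hD.decomp hn₂ (hasSUTv_of_le hF hsu)⟩

end H38.SUMax
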