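import Cfsg.Agent.H38.SUMax.ThreeReal
import Cfsg.Agent.H38.SUMax.Small
import Cfsg.Agent.H38.SUMax.Refine

/-!
SU(3,3): the orthogonal subfield group is monomial, as SO(3,3) is.
-/

set_option autoImplicit false
set_option linter.unusedSectionVars false

open Cfsg Cfsg.Geo
open scoped Matrix MatrixGroups

namespace H38.SUMax.ThreeFrame

theorem weight_one : ∀ a b c : ZMod 3, a * a + b * b + c * c = 1 →
    (b = 0 ∧ c = 0) ∨ (a = 0 ∧ c = 0) ∨ (a = 0 ∧ b = 0) := by decide

variable {F : Type*} [Field F] [Fintype F] {q : ℕ}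

/-- The orthogonal subfield group of SU(3,3) fixes a frame. -/
theorem exists_frame (hF : Fintype.card F = q ^ 2) (hq : q = 3) {F₀ : Subfield F}
    (hc : Fintype.card F = Nat.card F₀ ^ 2) {P : GL (Fin 3) F}
    (hrat : IsFormRationalStructure (hermForm 3 F q) F₀ 1 P) {H : Subgroup (GL (Fin 3) F)}
    (hH : IsMaximalIn (suGL 3 F q) H) (hle : H ≤ subfieldSubgroup F₀ P) :
    ∃ D : Fin 3 → Submodule F (Fin 3 → F), IsNondegenerateMDecomposition (hermForm 3 F q) 1 D ∧
      H = decompositionStabilizer D ⊓ suGL 3 F q := by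
  subst hq
  obtain ⟨φ, hφ, u, hu, hcoord⟩ := Three.exists_real_coords (Or.inl rfl) hF hc hrat hH.1.le hle
  set b : Fin 3 → Fin 3 → F := fun i => (u : Matrix (Fin 3) (Fin 3) F) *ᵥ Pi.single i 1 with hb
  have hform : ∀ i j, hermForm 3 F 3 (b i) (b j) = if i = j then 1 else 0 := by
    intro i j
    rw [hb, H50.mem_GU.1 hu, H50.h_single_single hF]
  have hort : ∀ i j, i ≠ j → hermForm 3 F 3 (b i) (b j) = 0 := fun i j h => by rw [hform, if_neg h]
  have hne : ∀ i, hermForm 3 F 3 (b i) (b i) ≠ 0 := fun i => by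
    rw [hform, if_pos rfl]; exact one_ne_zero
  have hD := nondegenerate_frame hF (by norm_num) hort hne
  have hli : LinearIndependent F b := by
    rw [show b = (u : Matrix (Fin 3) (Fin 3) F).col from funext fun i => Matrix.mulVec_single_one _ i]
    exact Matrix.linearIndependent_cols_of_isUnit u.isUnit
  refine ⟨_, hD, eq_inf_max hH (fun g hg => ?_) fun h =>
    not_suTv_frame hF le_rfl (fun _ => le_rfl) hD (hasSUTv_of_le hF h)⟩
  refine mem_decompositionStabilizer_lines hli g fun i => ?_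
  obtain ⟨l, R, -, hR, -, hgR⟩ := hcoord g hg
  have hcol : R 0 i * R 0 i + R 1 i * R 1 i + R 2 i * R 2 i = 1 := by
    have h := congrFun (congrFun hR i) i
    simpa [Matrix.mul_apply, Fin.sum_univ_three] using h
  obtain ⟨j, hj⟩ : ∃ j, ∀ k, k ≠ j → R k i = 0 := by
    rcases weight_one _ _ _ hcol with ⟨h1, h2⟩ | ⟨h1, h2⟩ | ⟨h1, h2⟩
    · exact ⟨0, fun k hk => match k with | 0 => absurd rfl hk | 1 => h1 | 2 => h2⟩
    · exact ⟨1, fun k hk => match k with | 0 => h1 | 1 => absurd rfl hk | 2 => h2⟩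
    · exact ⟨2, fun k hk => match k with | 0 => h1 | 1 => h2 | 2 => absurd rfl hk⟩
  refine ⟨j, l * φ (R j i), ?_⟩
  rw [hb]
  have h1 : (u : Matrix (Fin 3) (Fin 3) F) * ((u⁻¹ * g * u : GL (Fin 3) F) : Matrix (Fin 3) (Fin 3) F) =
      (g : Matrix (Fin 3) (Fin 3) F) * (u : Matrix (Fin 3) (Fin 3) F) := by
    rw [← Units.val_mul, ← Units.val_mul, mul_assoc u⁻¹, mul_inv_cancel_left]
  simp only
  rw [Matrix.mulVec_mulVec, ← h1, ← Matrix.mulVec_mulVec, hgR, ← Matrix.mulVec_smul]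
  congr 1
  funext k
  rw [Matrix.mulVec_single_one, Matrix.col_apply, Matrix.smul_apply, Matrix.map_apply, Pi.smul_apply,
    smul_eq_mul, smul_eq_mul]
  rcases eq_or_ne k j with rfl | hk
  · rw [Pi.single_eq_same, mul_one]
  · rw [hj k hk, map_zero, mul_zero, Pi.single_eq_of_ne hk, mul_zero]

end H38.SUMax.ThreeFrame
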