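import Cfsg.Prelude.Def_GeometricClasses
import Cfsg.Agent.H50.Simple
import Cfsg.Agent.H46.AschProper

/-!
Consequences, for a subgroup of the general linear group, of containing all unitary transvections
of determinant one: it fixes no subspace, no decomposition, no commutative field of matrices.
-/

set_option autoImplicit false
set_option linter.unusedSectionVars false

open Cfsg Cfsg.Geo
open scoped Matrix MatrixGroups

namespace H38.SUMax

variable {F : Type*} [Field F] [Fintype F] {n q : ℕ}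

/-- Every unitary transvection with isotropic centre is induced by an element of `M`. -/
def HasSUTv (q : ℕ) (M : Subgroup (GL (Fin n) F)) : Prop :=
  ∀ (v : Fin n → F) (c : F), hermForm n F q v v = 0 → c + c ^ q = 0 →
    ∃ g ∈ M, ∀ x, (g : Matrix (Fin n) (Fin n) F) *ᵥ x = x + (c * hermForm n F q x v) • v

/-- The ambient group SU inside GL. -/
abbrev suGL (n : ℕ) (F : Type*) [Field F] (q : ℕ) : Subgroup (GL (Fin n) F) :=
  Cfsg.GU n F q ⊓ Cfsg.Geo.specialLinear (Fin n) F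

/-- The inclusion of SU in GL. -/
noncomputable def toGLHom (n : ℕ) (F : Type*) [Field F] (q : ℕ) : SU n F q →* GL (Fin n) F :=
  Matrix.SpecialLinearGroup.toGL.comp (SU n F q).subtype

theorem toGLHom_val (g : SU n F q) :
    ((toGLHom n F q g : GL (Fin n) F) : Matrix (Fin n) (Fin n) F) = H50.suMat g := rfl

theorem toGLHom_injective : Function.Injective (toGLHom n F q) := fun g h e => by
  refine H50.SU_ext ?_
  exact congrArg (fun z : GL (Fin n) F => (z : Matrix (Fin n) (Fin n) F)) e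

theorem range_toGLHom : (toGLHom n F q).range = suGL n F q := by
  ext g
  constructor
  · rintro ⟨x, rfl⟩
    refine ⟨fun u v => H50.suMat_h x u v, ?_⟩
    show Matrix.GeneralLinearGroup.det _ = 1
    exact Units.ext ((x : Matrix.SpecialLinearGroup (Fin n) F).2)
  · rintro ⟨h1, h2⟩
    exact ⟨H50.mkSU (g : Matrix (Fin n) (Fin n) F) (fun u v => h1 u v)
      (congrArg Units.val (MonoidHom.mem_ker.1 h2)), Units.ext rfl⟩

variable (hF : Fintype.card F = q ^ 2)
include hF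

theorem hasSUTv_of_le {M : Subgroup (GL (Fin n) F)} (h : suGL n F q ≤ M) : HasSUTv q M :=
  fun v c hv hc => ⟨toGLHom n F q (H50.tv hF v c hv hc),
    h (range_toGLHom.le ⟨_, rfl⟩), fun x => H50.tv_mulVec hF v c hv hc x⟩

theorem suGL_perfect (hn : 3 ≤ n) (h32 : ¬(n = 3 ∧ q = 2)) :
    ⁅suGL n F q, suGL n F q⁆ = suGL n F q := by
  have h := H50.SU_perfect (F := F) hF hn h32
  rw [commutator_def] at h
  rw [← range_toGLHom, MonoidHom.range_eq_map, ← Subgroup.map_commutator, h]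

/-- A normal subgroup of SU is scalar or everything. -/
theorem normal_dichotomy (hn : 3 ≤ n) (h32 : ¬(n = 3 ∧ q = 2)) {N : Subgroup (GL (Fin n) F)}
    (hN : N ≤ suGL n F q) (hnorm : ∀ g ∈ suGL n F q, ∀ x ∈ N, g * x * g⁻¹ ∈ N) :
    N ≤ scalars (Fin n) F ∨ N = suGL n F q := by
  haveI : (N.comap (toGLHom n F q)).Normal := ⟨fun x hx g => by
    rw [Subgroup.mem_comap, map_mul, map_mul, map_inv]
    exact hnorm _ (range_toGLHom.le ⟨g, rfl⟩) _ hx⟩
  haveI : Nonempty (Fin n) := ⟨⟨0, by omega⟩⟩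
  rcases H50.normal_le_center_or_eq_top hF hn h32 (N.comap (toGLHom n F q)) with h | h
  · left
    intro x hx
    obtain ⟨g, rfl⟩ := range_toGLHom.ge (hN hx)
    obtain ⟨l, hl⟩ := (H50.mem_center_iff_scalar hF (by omega)).1 (h hx)
    exact H46.mem_scalars_of_eq_smul (c := l) (by rw [toGLHom_val, hl])
  · right
    refine le_antisymm hN fun x hx => ?_
    obtain ⟨g, rfl⟩ := range_toGLHom.ge hx
    exact (h.ge (Subgroup.mem_top g) : g ∈ N.comap (toGLHom n F q))

/-- An isotropic vector pairing non-trivially with a given one. -/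
theorem exists_iso_pairing (hn : 2 ≤ n) {w : Fin n → F} (hw : w ≠ 0) :
    ∃ v, hermForm n F q v v = 0 ∧ hermForm n F q v w ≠ 0 := by
  obtain ⟨i, hi⟩ := Function.ne_iff.1 hw
  obtain ⟨j, hji⟩ : ∃ j, j ≠ i := by
    haveI : Nontrivial (Fin n) := Fin.nontrivial_iff_two_le.2 hn
    exact exists_ne i
  obtain ⟨a, ha⟩ := H50.exists_norm_eq hF (c := -1) (by rw [H50.neg_pow_q hF, one_pow])
  obtain ⟨d, hd⟩ := H50.exists_trace_ne_zero hF
  have ha0 : a ≠ 0 := by
    rintro rfl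
    rw [zero_pow (by omega)] at ha
    exact one_ne_zero (neg_eq_zero.1 ha.symm)
  obtain ⟨b, hb, hba⟩ : ∃ b : F, b ^ (q + 1) = -1 ∧ b ≠ a := by
    have h1 : Nat.card {x : F // x ^ (q + 1) = (-1 : F)} = q + 1 :=
      H50.card_norm_eq hF (by rw [H50.neg_pow_q hF, one_pow]) (neg_ne_zero.2 one_ne_zero)
    haveI : Nontrivial {x : F // x ^ (q + 1) = (-1 : F)} :=
      Finite.one_lt_card_iff_nontrivial.1 (by rw [h1]; have := H50.two_le hF; omega)
    obtain ⟨⟨b, hb⟩, hne⟩ := exists_ne (⟨a, ha⟩ : {x : F // x ^ (q + 1) = (-1 : F)})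
    exact ⟨b, hb, fun h => hne (Subtype.ext h)⟩
  have iso : ∀ c : F, c ^ (q + 1) = -1 →
      hermForm n F q (Pi.single i 1 + c • Pi.single j 1) (Pi.single i 1 + c • Pi.single j 1) = 0 := by
    intro c hc
    simp only [H50.h_add_left, H50.h_add_right hF, H50.h_smul_left, H50.h_smul_right hF,
      H50.h_single_single hF, if_pos, if_neg hji, if_neg (Ne.symm hji), mul_one, mul_zero, add_zero,
      zero_add]
    rw [← pow_succ, hc]
    ring
  by_contra hcon
  push Not at hcon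
  have e1 := hcon _ (iso a ha)
  have e2 := hcon _ (iso b hb)
  simp only [H50.h_add_left, H50.h_smul_left, H50.h_single_left hF] at e1 e2
  have e3 : (a - b) * w j ^ q = 0 := by linear_combination e1 - e2
  have hj : w j ^ q = 0 := (mul_eq_zero.1 e3).resolve_left (sub_ne_zero.2 (Ne.symm hba))
  rw [hj, mul_zero, add_zero] at e1
  exact hi ((H50.pow_q_eq_zero hF).1 e1)

/-- An isotropic vector pairing non-trivially with two given ones. -/
theorem exists_iso_pairing₂ (hn : 2 ≤ n) {w w' : Fin n → F} (hw : w ≠ 0) (hw' : w' ≠ 0) :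
    ∃ v, hermForm n F q v v = 0 ∧ hermForm n F q v w ≠ 0 ∧ hermForm n F q v w' ≠ 0 := by
  obtain ⟨a, ha, haw⟩ := exists_iso_pairing hF hn hw
  obtain ⟨b, hb, hbw⟩ := exists_iso_pairing hF hn hw'
  rcases eq_or_ne (hermForm n F q a w') 0 with h1 | h1
  swap
  · exact ⟨a, ha, haw, h1⟩
  rcases eq_or_ne (hermForm n F q b w) 0 with h2 | h2
  swap
  · exact ⟨b, hb, h2, hbw⟩
  obtain ⟨t, ht0, ht⟩ : ∃ t : F, t ≠ 0 ∧
      t ^ q * hermForm n F q a b + t * hermForm n F q b a = 0 := by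
    by_cases hab : hermForm n F q b a = 0
    · exact ⟨1, one_ne_zero, by rw [hab, H50.h_symm hF b a, hab, zero_pow (H50.q_ne_zero hF)]; ring⟩
    obtain ⟨d, hd0, hd⟩ := H50.exists_trace_zero_ne_zero hF
    refine ⟨d / hermForm n F q b a, div_ne_zero hd0 hab, ?_⟩
    have hab' : hermForm n F q b a ^ q ≠ 0 := pow_ne_zero _ hab
    rw [div_pow, H50.h_symm hF b a, div_mul_cancel₀ _ hab', div_mul_cancel₀ _ hab, add_comm, hd]
  refine ⟨a + t • b, ?_, ?_, ?_⟩
  · simp only [H50.h_add_left, H50.h_add_right hF, H50.h_smul_left, H50.h_smul_right hF, ha, hb,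
      mul_zero, add_zero, zero_add]
    rw [add_comm]
    exact ht
  · simp [H50.h_add_left, H50.h_smul_left, h2, haw]
  · simp [H50.h_add_left, H50.h_smul_left, h1, hbw, ht0]

theorem exists_perp_ne_zero {W : Submodule F (Fin n → F)} (hW : W ≠ ⊤) :
    ∃ u, u ≠ 0 ∧ ∀ w ∈ W, hermForm n F q u w = 0 := by
  let b := Module.finBasis F W
  let L : (Fin n → F) →ₗ[F] (Fin (Module.finrank F W) → F) :=
    LinearMap.pi fun i => H50.hLeft n q (b i : Fin n → F)
  have hlt : Module.finrank F W < Module.finrank F (Fin n → F) := Submodule.finrank_lt hW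
  have hker : LinearMap.ker L ≠ ⊥ := fun h => by
    have h1 := LinearMap.finrank_le_finrank_of_injective (LinearMap.ker_eq_bot.1 h)
    rw [Module.finrank_fintype_fun_eq_card, Module.finrank_fintype_fun_eq_card, Fintype.card_fin,
      Fintype.card_fin] at h1
    rw [Module.finrank_fintype_fun_eq_card, Fintype.card_fin] at hlt
    omega
  obtain ⟨u, hu, hu0⟩ := Submodule.exists_mem_ne_zero_of_ne_bot hker
  refine ⟨u, hu0, fun w hw => ?_⟩
  have h1 : ∀ i, hermForm n F q u (b i : Fin n → F) = 0 := fun i => congrFun hu i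
  have h2 := congrArg Subtype.val (b.sum_repr ⟨w, hw⟩)
  simp only [Submodule.coe_sum, Submodule.coe_smul] at h2
  rw [← h2, H50.h_sum_right hF]
  refine Finset.sum_eq_zero fun i _ => ?_
  rw [H50.h_smul_right hF, h1, mul_zero]

theorem not_suTv_subspace (hn : 2 ≤ n) {W : Submodule F (Fin n → F)} (hb : W ≠ ⊥) (ht : W ≠ ⊤) :
    ¬ HasSUTv q (subspaceStabilizer W) := by
  intro h
  obtain ⟨w, hw, hw0⟩ := Submodule.exists_mem_ne_zero_of_ne_bot hb
  obtain ⟨u, hu0, hu⟩ := exists_perp_ne_zero hF ht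
  obtain ⟨v, hv, hvw, hvu⟩ := exists_iso_pairing₂ hF hn hw0 hu0
  obtain ⟨d, hd0, hd⟩ := H50.exists_trace_zero_ne_zero hF
  obtain ⟨g, hg, hgx⟩ := h v d hv hd
  have h1 : (g : Matrix (Fin n) (Fin n) F) *ᵥ w ∈ W := (hg w).1 hw
  rw [hgx] at h1
  have hwv : hermForm n F q w v ≠ 0 := fun e => hvw (H50.h_eq_zero_comm hF |>.1 e)
  have h2 : v ∈ W := (W.smul_mem_iff (mul_ne_zero hd0 hwv)).1 ((W.add_mem_iff_right hw).1 h1)
  exact hvu (H50.h_eq_zero_comm hF |>.1 (hu v h2))

/-- A matrix which every element of `M` either centralises or moves by more than rank two is scalar. -/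
theorem scalar_of_suTv (hn : 2 ≤ n) {M : Subgroup (GL (Fin n) F)} (h : HasSUTv q M)
    (k : Matrix (Fin n) (Fin n) F)
    (hk : ∀ g ∈ M, ∀ v w : Fin n → F,
      (∀ x, ((g : Matrix (Fin n) (Fin n) F) * k * ((g⁻¹ : GL (Fin n) F) : Matrix (Fin n) (Fin n) F) - k) *ᵥ x ∈
        Submodule.span F {v, w}) →
      (g : Matrix (Fin n) (Fin n) F) * k * ((g⁻¹ : GL (Fin n) F) : Matrix (Fin n) (Fin n) F) = k) :
    ∃ a : F, k = a • 1 := by
  obtain ⟨d, hd0, hd⟩ := H50.exists_trace_zero_ne_zero hF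
  have key : ∀ v, hermForm n F q v v = 0 → ∃ a : F, k *ᵥ v = a • v := by
    intro v hv
    rcases eq_or_ne v 0 with rfl | hv0
    · exact ⟨0, by simp⟩
    obtain ⟨g, hg, hgx⟩ := h v d hv hd
    obtain ⟨x, hxv⟩ : ∃ x, hermForm n F q x v ≠ 0 := by
      by_contra hcon
      push Not at hcon
      exact hv0 (H50.eq_zero_of_h_right hF hcon)
    have hjg : ∀ z, ((g : Matrix (Fin n) (Fin n) F) * k * ((g⁻¹ : GL (Fin n) F) : Matrix (Fin n) (Fin n) F)) *ᵥ
        ((g : Matrix (Fin n) (Fin n) F) *ᵥ z) = (g : Matrix (Fin n) (Fin n) F) *ᵥ (k *ᵥ z) := fun z => by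
      rw [Matrix.mulVec_mulVec, Matrix.mulVec_mulVec, mul_assoc, ← Units.val_mul, inv_mul_cancel,
        Units.val_one, mul_one]
    have hjk := hk g hg v (k *ᵥ v) fun u => by
      obtain ⟨z, rfl⟩ : ∃ z, (g : Matrix (Fin n) (Fin n) F) *ᵥ z = u :=
        ⟨((g⁻¹ : GL (Fin n) F) : Matrix (Fin n) (Fin n) F) *ᵥ u, by
          rw [Matrix.mulVec_mulVec, ← Units.val_mul, mul_inv_cancel, Units.val_one, Matrix.one_mulVec]⟩
      rw [Matrix.sub_mulVec, hjg, hgx, hgx, Matrix.mulVec_add, Matrix.mulVec_smul, Submodule.mem_span_pair]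
      exact ⟨d * hermForm n F q (k *ᵥ z) v, -(d * hermForm n F q z v), by module⟩
    have h1 := hjg x
    rw [hjk, hgx, hgx, Matrix.mulVec_add, Matrix.mulVec_smul] at h1
    refine ⟨(d * hermForm n F q x v)⁻¹ * (d * hermForm n F q (k *ᵥ x) v), ?_⟩
    rw [mul_smul, ← add_left_cancel h1, inv_smul_smul₀ (mul_ne_zero hd0 hxv)]
  haveI : Nonempty (Fin n) := ⟨⟨0, by omega⟩⟩
  have he : (Pi.single (⟨0, by omega⟩ : Fin n) (1 : F) : Fin n → F) ≠ 0 := by simp
  obtain ⟨v₀, hv₀, hv₀e⟩ := exists_iso_pairing hF hn he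
  obtain ⟨a₀, ha₀⟩ := key v₀ hv₀
  have hv00 : v₀ ≠ 0 := fun e => hv₀e (by rw [e, H50.h_zero_left])
  refine ⟨a₀, ?_⟩
  let W : Submodule F (Fin n → F) := LinearMap.ker (Matrix.toLin' (k - a₀ • 1))
  suffices hW : W = ⊤ by
    refine sub_eq_zero.1 (Matrix.toLin'.injective ?_)
    rw [map_zero]
    exact LinearMap.ker_eq_top.1 hW
  have hmem : ∀ x, x ∈ W ↔ k *ᵥ x = a₀ • x := fun x => by
    rw [LinearMap.mem_ker, Matrix.toLin'_apply, Matrix.sub_mulVec, Matrix.smul_mulVec,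
      Matrix.one_mulVec, sub_eq_zero]
  by_contra hne
  obtain ⟨u, hu0, hu⟩ := exists_perp_ne_zero hF hne
  obtain ⟨w, hw, hw0, hwu⟩ := exists_iso_pairing₂ hF hn hv00 hu0
  refine hwu (H50.h_eq_zero_comm hF |>.1 (hu w ((hmem w).2 ?_)))
  obtain ⟨a, ha⟩ := key w hw
  obtain ⟨t, ht⟩ : ∃ t : F, t ≠ 0 ∧ hermForm n F q (w + t • v₀) (w + t • v₀) = 0 := by
    refine ⟨d / hermForm n F q v₀ w, div_ne_zero hd0 (fun e => hw0 (H50.h_eq_zero_comm hF |>.1 e)), ?_⟩
    have h0 : hermForm n F q v₀ w ≠ 0 := fun e => hw0 (H50.h_eq_zero_comm hF |>.1 e)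
    simp only [H50.h_add_left, H50.h_add_right hF, H50.h_smul_left, H50.h_smul_right hF, hw, hv₀,
      mul_zero, add_zero, zero_add]
    rw [H50.h_symm hF v₀ w, div_pow, div_mul_cancel₀ _ (pow_ne_zero _ h0), div_mul_cancel₀ _ h0]
    first | exact hd | (rw [add_comm]; exact hd)
  obtain ⟨b, hb⟩ := key _ ht.2
  rw [Matrix.mulVec_add, Matrix.mulVec_smul, ha, ha₀] at hb
  have e1 := congrArg (fun z => hermForm n F q z w) hb
  have e2 := congrArg (fun z => hermForm n F q z v₀) hb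
  simp only [H50.h_add_left, H50.h_smul_left, hw, hv₀, mul_zero, add_zero, zero_add] at e1 e2
  have hne1 : t * hermForm n F q v₀ w ≠ 0 :=
    mul_ne_zero ht.1 fun e => hw0 (H50.h_eq_zero_comm hF |>.1 e)
  have hb1 : a₀ = b := mul_right_cancel₀ hne1 (by linear_combination e1)
  have hb2 : a = b := mul_right_cancel₀ hw0 (by linear_combination e2)
  rw [ha, hb2, hb1]

theorem not_suTv_field (hn : 3 ≤ n) {r : ℕ} (hr : r ≠ 1)
    {K : Subalgebra F (Matrix (Fin n) (Fin n) F)} (hK : IsFieldSubalgebra r K) :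
    ¬ HasSUTv q (subalgebraNormalizer K) := by
  intro h
  haveI : Nonempty (Fin n) := ⟨⟨0, by omega⟩⟩
  have hKb : K ≠ ⊥ := by
    rintro rfl
    exact hr (hK.finrank_eq.symm.trans Subalgebra.finrank_bot)
  apply hKb
  rw [eq_bot_iff]
  intro k hk
  obtain ⟨c, rfl⟩ := scalar_of_suTv hF (by omega) h k fun g hg v w hvw => by
    by_contra hne
    obtain ⟨Y, -, hY⟩ := hK.inv _ (sub_mem ((hg k).1 hk) hk) (sub_ne_zero.2 hne)
    refine one_ne_zero (α := F) (H46.eq_zero_of_submatrix (D := (1 : Matrix (Fin n) (Fin n) F)) (v := v) (w := w)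
      (fun u => ?_) (by simpa using hn) id id 1 fun a b => by simp [Matrix.one_apply])
    rw [← hY, ← Matrix.mulVec_mulVec]
    exact hvw _
  exact Algebra.mem_bot.2 ⟨c, by rw [Algebra.algebraMap_eq_smul_one]⟩

theorem not_suTv_decomposition (hn : 2 ≤ n) {t m : ℕ} {D : Fin t → Submodule F (Fin n → F)}
    (hD : IsMDecomposition m D) (hm : 2 ≤ m) : ¬ HasSUTv q (decompositionStabilizer D) := by
  intro h
  have h0 : 0 < t := by linarith [hD.two_le]
  set i0 : Fin t := ⟨0, h0⟩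
  have hbot : ∀ i, D i ≠ ⊥ := fun i e => by
    have h1 := hD.finrank_eq i
    rw [e, finrank_bot] at h1
    omega
  have htop : D i0 ≠ ⊤ := fun e => by
    have hdis : Disjoint (D i0) (D ⟨1, hD.two_le⟩) :=
      hD.indep.pairwiseDisjoint (by simp [i0, Fin.ext_iff])
    rw [e] at hdis
    exact hbot _ (disjoint_top.1 hdis.symm)
  refine not_suTv_subspace hF hn (hbot i0) htop fun v c hv hc => ?_
  obtain ⟨g, ⟨s, hs⟩, hgx⟩ := h v c hv hc
  refine ⟨g, ?_, hgx⟩
  have hstab : (D i0).map (Matrix.toLin' (g : Matrix (Fin n) (Fin n) F)) = D i0 := by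
    obtain ⟨y, hy, hy0, hyv⟩ : ∃ y ∈ D i0, y ≠ 0 ∧ hermForm n F q y v = 0 := by
      let L := (H50.hLeft n q v).comp (D i0).subtype
      have hker : LinearMap.ker L ≠ ⊥ := fun hb => by
        have h1 := LinearMap.finrank_le_finrank_of_injective (LinearMap.ker_eq_bot.1 hb)
        rw [hD.finrank_eq, Module.finrank_self] at h1
        omega
      obtain ⟨y, hy, hy0⟩ := Submodule.exists_mem_ne_zero_of_ne_bot hker
      exact ⟨y, y.2, fun e => hy0 (Subtype.ext e), hy⟩
    rw [hs i0]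
    congr 1
    by_contra hne
    have h1 : (g : Matrix (Fin n) (Fin n) F) *ᵥ y ∈ D (s i0) := by
      rw [← hs i0]
      exact ⟨y, hy, Matrix.toLin'_apply _ _⟩
    rw [hgx, hyv, mul_zero, zero_smul, add_zero] at h1
    exact hy0 (Submodule.disjoint_def.1 (hD.indep.pairwiseDisjoint (Ne.symm hne)) y hy h1)
  show g ∈ stabilizing (glToMat (Fin n) F) ((D i0 : Submodule F (Fin n → F)) : Set (Fin n → F))
  intro x
  constructor
  · intro hx
    show (g : Matrix (Fin n) (Fin n) F) *ᵥ x ∈ D i0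
    rw [← hstab]
    exact ⟨x, hx, Matrix.toLin'_apply _ _⟩
  · intro hx
    obtain ⟨z, hz, he⟩ : (g : Matrix (Fin n) (Fin n) F) *ᵥ x ∈
        (D i0).map (Matrix.toLin' (g : Matrix (Fin n) (Fin n) F)) := hstab.symm ▸ hx
    rw [Matrix.toLin'_apply] at he
    rwa [← Matrix.mulVec_injective_of_isUnit g.isUnit he]

end H38.SUMax
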